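import Cfsg.Agent.H690.S8.Lie_m3
import Cfsg.Agent.H62.S8.InvDeg_m3
import Cfsg.Agent.H477.HC.Arith_m3
import Cfsg.Agent.H633.Ore.Co2Ore
import Cfsg.Agent.H704.S8.Defs_m3
import Cfsg.Agent.H740.FiveBase
import Cfsg.Agent.H424.DegTools
import Cfsg.Agent.H149.Sp.Quot
import Cfsg.Agent.SmallSimple.DegreeData
import Cfsg.Agent.S2064
import Cfsg.Agent.S2070
import Cfsg.Agent.S2071
import Cfsg.Agent.H843.IMC.Co2B
import Cfsg.Agent.H50.S8.FrobOf_m3
import Cfsg.Agent.H133.Ore.Tools
import Cfsg.Agent.H511.Ore.WRow_m3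
import Cfsg.Agent.H365.RIM.U62N
import Cfsg.Agent.S2335
import Cfsg.Agent.S1577
import Cfsg.Agent.S0283
import Cfsg.Agent.H681.CoTwoUSix
import Cfsg.Agent.H444.FprTable
import Cfsg.Prelude.Def_DegreeGraph
import Cfsg.Agent.H147.Fpr.Co3
import Cfsg.Agent.H590.Ore.CoOneSieve
import Cfsg.Agent.H417.RecogMathieu
import Cfsg.Agent.H450.S8.Core
import Cfsg.Agent.H504.AN.CTwo_m3
import Cfsg.Agent.H678.DG.Tits_m3
import Cfsg.Agent.H208.DS.KillC_m3
import Cfsg.Agent.H672.SporIM.RankRows
import Cfsg.Agent.H999.DS.Tools_m3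
import Cfsg.Agent.H603.FD.Spor
import Cfsg.Agent.H603.SporElim
import Cfsg.Agent.H858.S8.J2Cover
import Cfsg.Agent.H33.IMRest
import Cfsg.Agent.S2066
import Cfsg.Agent.H681.SimpleChar
import Cfsg.Agent.H269.CubeJ2
import Cfsg.Agent.H704.S8.Defs3_m3
import Mathlib
import Cfsg.Agent.H678.DG.PairRep_m3
import Cfsg.Agent.H277.U33.Psu_m3
import Cfsg.Agent.H481.EP.Fi22_m3
import Cfsg.Agent.H343.LD.KB_m3
import Cfsg.Agent.H319.PQ.Cosets_m3
import Cfsg.Agent.CharactersDeep.ModCongr
import Cfsg.Agent.Characters.GaloisBasic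
import Cfsg.Agent.H686.CharKit
import Cfsg.Agent.H388.AN.Cen
import Cfsg.Agent.H836.Main
import Cfsg.Agent.H641.Gow.Real_m3
import Cfsg.Agent.H559.FiSpec
import Cfsg.Agent.H435.S8.MTwelve_m3
import Cfsg.Agent.H856.F23.Deg_m3
import Cfsg.Agent.H678.DG.NormLoc
import Cfsg.Agent.H878.EPX.FiK
import Cfsg.Agent.S1696
import Cfsg.Agent.H289.Eight.RuDeg
import Cfsg.Agent.KFacts.RuDbl.One
import Cfsg.Agent.H646.Restrict
import Cfsg.Agent.H905.PCover
import Cfsg.Agent.H300.Ru.Theta
import Cfsg.Agent.RuLat.Main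
import Cfsg.Agent.H715.Fpr.Row4_m3
import Cfsg.Agent.BpSpor.Act
import Cfsg.Agent.H536.K4.Ru
import Cfsg.Agent.H649.MonoMin
import Cfsg.Agent.H915.S8.RuCent
import Cfsg.Agent.H740.S8.Comm
import Cfsg.Agent.H147.Fpr.RuOdd
import Cfsg.Agent.S0000
import Cfsg.Agent.H867.TitsOut
import Cfsg.Agent.H628.Sq.Tits
import Cfsg.Agent.H680.ONThirtyOne_m3
import Cfsg.Agent.S2078
import Cfsg.Agent.H175.Ore.HNDeg_m3
import Cfsg.Agent.H315.PwHN
import Cfsg.Agent.H570.Ore.Blk_m3
import Cfsg.Agent.S2082
import Cfsg.Agent.H174.Ore.DegTh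
import Cfsg.Agent.FastGrp
import Cfsg.Agent.Prune
set_option linter.all false

section
prune_inst 0x7f9cfefcaaa8bbfedfff7e3ffed9dff811c0cfffe6dff9437fe9e99f8f9f032329c56b858de050fe8e56e29410b87843fb7eceffe86bdc7ffffd5fb41ffbee0fe5f7350051d0842406ac0fff03e2570a6f3ffff7ffffffffffffffffffffffffffffebfeffff

-- part: H75/S8/LieTwo_mg
section
prune_inst 0x630001500444002000000001000007e22a2000090002b880040200706068c490289020720e82015021002a2000031004813000020420000000a040000000001208800d2004281a195260009001288400000008000000000000000000000000000010000000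
set_option linter.all false
open scoped Cfsg.Agent.FastGrp

-- part: H75/S8/LieTwo
section
/-!
# S4908, SOC1: socles of Lie type of characteristic two with `|S|₂ = 2 ^ 10, 2 ^ 11, 2 ^ 21` (helper75)

* `typ_ten`, `typ_eleven`, `typ_21` : the types;
* `lie_two_cases` : such a group is `PSU₅(2)` or its order is divisible by one of the primes `31, 43, 89, 127`;
* `u52` : `PSU₅(2)` has the degrees `44` and `120`;
* `lie_two_false` : the rows.
-/

set_option autoImplicit false

namespace Cfsg.Agent.H75.S8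

open Cfsg Cfsg.Agent.H704 Cfsg.Agent.NotCT Cfsg.Agent.H657.DS Cfsg.Agent.H690.S8
open Cfsg.Agent.H691.AN (AlmostSimple)

universe u

theorem typ_ten {t : Typ} {k : ℕ} (hv : t.Valid 2 k) (hk : k * t.N = 10) :
    (t, k) ∈ [(Typ.L 2, 10), (Typ.L 5, 1), (Typ.U 5, 1), (Typ.SZ, 5)] :=
  typ_mem 2 10 _ (by decide +kernel) hv hk

theorem typ_eleven {t : Typ} {k : ℕ} (hv : t.Valid 2 k) (hk : k * t.N = 11) : (t, k) ∈ [(Typ.L 2, 11)] :=
  typ_mem 2 11 _ (by decide +kernel) hv hk

theorem typ_21 {t : Typ} {k : ℕ} (hv : t.Valid 2 k) (hk : k * t.N = 21) :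
    (t, k) ∈ [(Typ.L 2, 21), (Typ.L 3, 7), (Typ.L 7, 1), (Typ.U 3, 7), (Typ.U 7, 1)] :=
  typ_mem 2 21 _ (by decide +kernel) hv hk

/-- a prime divisor of the order -/
theorem dvd_of_typ {S : Type u} [Group S] {p k r : ℕ} (hp : p.Prime) {t : Typ} (hv : t.Valid p k)
    (h : IsTyp t (p ^ k) S) (h1 : (p ^ k) ^ t.N * t.P (p ^ k) % r = 0) (h2 : Nat.gcd r (t.D (p ^ k)) = 1) :
    r ∣ Nat.card S := by
  have h3 : t.D (p ^ k) * Nat.card S = (p ^ k) ^ t.N * t.P (p ^ k) := card_eq hp hv h
  have h4 : r ∣ t.D (p ^ k) * Nat.card S := by rw [h3]; exact Nat.dvd_of_mod_eq_zero h1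
  exact Nat.Coprime.dvd_of_dvd_mul_left h2 h4

/-- **The groups of Lie type of characteristic two with a Sylow subgroup of order `2 ^ 10`, `2 ^ 11`, `2 ^ 21`.** -/
theorem lie_two_cases {S : Type u} [Group S] {t : Typ} {k : ℕ} (hv : t.Valid 2 k) (ht : IsTyp t (2 ^ k) S)
    (hk : k * t.N = 10 ∨ k * t.N = 11 ∨ k * t.N = 21) :
    (∃ (F : Type) (_ : Field F) (_ : Fintype F), Fintype.card F = 2 ^ 2 ∧ Nonempty (S ≃* PSU 5 F 2)) ∨
      ∃ r ∈ [31, 43, 89, 127], r ∣ Nat.card S := by
  rcases hk with hk | hk | hk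
  · have h2 := typ_ten hv hk
    simp only [List.mem_cons, List.not_mem_nil, or_false, Prod.mk.injEq] at h2
    rcases h2 with ⟨rfl, rfl⟩ | ⟨rfl, rfl⟩ | ⟨rfl, rfl⟩ | ⟨rfl, rfl⟩
    · exact Or.inr ⟨31, by simp, dvd_of_typ Nat.prime_two hv ht (by decide +kernel) (by decide +kernel)⟩
    · exact Or.inr ⟨31, by simp, dvd_of_typ Nat.prime_two hv ht (by decide +kernel) (by decide +kernel)⟩
    · left
      obtain ⟨F, _, _, hF, ⟨e⟩⟩ := ht
      rw [pow_one] at hF
      exact ⟨F, inferInstance, inferInstance, hF, ⟨e⟩⟩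
    · exact Or.inr ⟨31, by simp, dvd_of_typ Nat.prime_two hv ht (by decide +kernel) (by decide +kernel)⟩
  · have h2 := typ_eleven hv hk
    simp only [List.mem_cons, List.not_mem_nil, or_false, Prod.mk.injEq] at h2
    obtain ⟨rfl, rfl⟩ := h2
    exact Or.inr ⟨89, by simp, dvd_of_typ Nat.prime_two hv ht (by decide +kernel) (by decide +kernel)⟩
  · have h2 := typ_21 hv hk
    simp only [List.mem_cons, List.not_mem_nil, or_false, Prod.mk.injEq] at h2
    rcases h2 with ⟨rfl, rfl⟩ | ⟨rfl, rfl⟩ | ⟨rfl, rfl⟩ | ⟨rfl, rfl⟩ | ⟨rfl, rfl⟩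
    · exact Or.inr ⟨127, by simp, dvd_of_typ Nat.prime_two hv ht (by decide +kernel) (by decide +kernel)⟩
    · exact Or.inr ⟨127, by simp, dvd_of_typ Nat.prime_two hv ht (by decide +kernel) (by decide +kernel)⟩
    · exact Or.inr ⟨127, by simp, dvd_of_typ Nat.prime_two hv ht (by decide +kernel) (by decide +kernel)⟩
    · exact Or.inr ⟨43, by simp, dvd_of_typ Nat.prime_two hv ht (by decide +kernel) (by decide +kernel)⟩
    · exact Or.inr ⟨43, by simp, dvd_of_typ Nat.prime_two hv ht (by decide +kernel) (by decide +kernel)⟩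

/-- the rank three characters of `PSU₅(2)` -/
theorem u52 {F : Type} [Field F] [Fintype F] (hF : Fintype.card F = 2 ^ 2) :
    44 ∈ charDegrees (PSU 5 F 2) ∧ 120 ∈ charDegrees (PSU 5 F 2) := by
  obtain ⟨χ₁, χ₂, f, g, h1, h2, hf, hg, e1, e2⟩ := H113.PSU.Chars.exists_chars (F := F) (q := 2) (m := 3) hF (by norm_num)
  norm_num only [] at e1 e2
  have h44 : f = 44 := by omega
  have h120 : g = 120 := by omega
  subst h44
  subst h120
  exact ⟨H681.DegBasic.mem_charDegrees.2 ⟨χ₁, h1, hf⟩, H681.DegBasic.mem_charDegrees.2 ⟨χ₂, h2, hg⟩⟩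

theorem card_out_u52 {S : Type u} [Group S] {F : Type} [Field F] [Fintype F] (hF : Fintype.card F = 2 ^ 2)
    (e : S ≃* PSU 5 F 2) : Nat.card (Out S) = 2 := by
  have : Fact (Nat.Prime 2) := ⟨Nat.prime_two⟩
  rw [Nat.card_congr (H234.OutGood.outCongr e).toEquiv,
    H149.PGU.card_out_psu (p := 2) (f := 1) (q := 2) (n := 5) le_rfl (pow_one 2).symm hF (by norm_num) (by norm_num)]
  decide

variable {D : Set ℕ} {A : Type u} [Group A] [Finite A]

/-- an almost simple group with socle `PSU₅(2)` has a degree `44` or `88`, and `120` or `240` -/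
theorem u52_mem {S : Subgroup A} (hA : AlmostSimple A S) (h : charDegrees A ⊆ D) {F : Type} [Field F] [Fintype F]
    (hF : Fintype.card F = 2 ^ 2) (e : S ≃* PSU 5 F 2) : (44 ∈ D ∨ 88 ∈ D) ∧ (120 ∈ D ∨ 240 ∈ D) := by
  have := hA.normal
  have hi : S.index ∣ Nat.card (Cfsg.Out S) := H816.OutEmb.index_dvd S (by rw [hA.cent]; exact bot_le)
  rw [card_out_u52 hF e] at hi
  obtain ⟨h1, h2⟩ := u52 hF
  have key : ∀ c : ℕ, 0 < c → c ∈ charDegrees (PSU 5 F 2) → c ∈ D ∨ 2 * c ∈ D := by
    intro c hc hm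
    obtain ⟨d, h7, ⟨b, h8⟩, h9⟩ := over_mem S h (mem_equiv e hm)
    subst h8
    rw [Nat.mul_div_cancel_left _ hc] at h9
    rcases (Nat.dvd_prime Nat.prime_two).1 (h9.trans hi) with rfl | rfl
    · left; rwa [mul_one] at h7
    · right; rwa [mul_comm] at h7
  exact ⟨key 44 (by norm_num) h1, key 120 (by norm_num) h2⟩

/-- **The rows.** The powers of two in `D` are at most `2 ^ 10, 2 ^ 11, 2 ^ 21`, no degree is divisible by `31`, `43`,
`89`, `127`, and `44, 88 ∉ D`: the socle is not of Lie type of characteristic two. -/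
theorem lie_two_false (hpw : ∀ a : ℕ, 0 < a → 2 ^ a ∈ D → a = 10 ∨ a = 11 ∨ a = 21)
    (hpr : ∀ d ∈ D, ∀ r ∈ [31, 43, 89, 127], ¬ r ∣ d) (h44 : 44 ∉ D) (h88 : 88 ∉ D)
    {S : Subgroup A} (hA : AlmostSimple A S) (h : charDegrees A ⊆ D) (hl : IsLieTypeChar 2 S) : False := by
  have := hA.normal
  have := hA.simple
  obtain ⟨t, k, hv, ht, h1, h2⟩ := typ_mem_D S h Nat.prime_two hl
  rcases lie_two_cases hv ht (hpw _ h1 h2) with ⟨F, _, _, hF, ⟨e⟩⟩ | ⟨r, hr, hd⟩
  · rcases (u52_mem hA h hF e).1 with h3 | h3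
    · exact h44 h3
    · exact h88 h3
  · have hrp : r.Prime := by
      simp only [List.mem_cons, List.not_mem_nil, or_false] at hr
      rcases hr with rfl | rfl | rfl | rfl <;> norm_num
    obtain ⟨d, h3, h4⟩ := H196.S8.prime_deg hA hrp hd
    exact hpr d (h h3) r hr h4

end Cfsg.Agent.H75.S8
end

-- part: H974/S8/Classes
section
/-!
# S4908: `Co2` has at most 78 conjugacy classes; degrees of almost simple groups with `Out S = 1` (helper974)

* `card_classes_le` : a cover by words in involutions: a commutator `[a, b]` is real if `a` or `b` is a palindrome;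
* `card_classes_co2` : `k(Co2) ≤ 78`;
* `card_le_of_degrees` : `|G| ≤ k(G) M` if all degrees have `d ^ 2 ≤ M`;
* `one_deg` : the degrees of `S` are degrees of `A` if `Out S = 1`.
-/

set_option autoImplicit false

namespace Cfsg.Agent.H974.S8

open Cfsg
open Cfsg.Agent.H68.Ore
open Cfsg.Agent.H691.AN (AlmostSimple)

universe u v

section Words

variable {G : Type u} [Group G]

/-- one of the two words is a palindrome -/
def real (p : List ℕ × List ℕ) : Bool := (p.1.reverse == p.1) || (p.2.reverse == p.2)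

theorem isConj_inv {tt : ℕ → G} (h : ∀ k, tt k * tt k = 1) {p : List ℕ × List ℕ} (hp : real p = true) :
    IsConj (Words.wd tt (Words.cw p)) (Words.wd tt (Words.cw p))⁻¹ := by
  rw [Words.wd_cw h]
  rw [real, Bool.or_eq_true] at hp
  rcases hp with hp | hp
  · have h1 := Words.wd_sq h (w := p.1) (by simpa using hp)
    generalize Words.wd tt p.1 = s at *
    generalize Words.wd tt p.2 = b at *
    have e1 : s⁻¹ = s := inv_eq_of_mul_eq_one_left h1
    refine isConj_iff.2 ⟨s, ?_⟩
    rw [e1]
    calc s * (s * b * s * b⁻¹) * s = (s * s) * (b * s * b⁻¹ * s) := by group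
      _ = b * s * b⁻¹ * s := by rw [h1, one_mul]
      _ = b * s⁻¹ * b⁻¹ * s⁻¹ := by rw [e1]
      _ = _ := by group
  · have h1 := Words.wd_sq h (w := p.2) (by simpa using hp)
    generalize Words.wd tt p.1 = a at *
    generalize Words.wd tt p.2 = s at *
    have e1 : s⁻¹ = s := inv_eq_of_mul_eq_one_left h1
    refine isConj_iff.2 ⟨s, ?_⟩
    rw [e1]
    calc s * (a * s * a⁻¹ * s) * s = s * (a * s * a⁻¹) * (s * s) := by group
      _ = s * (a * s * a⁻¹) := by rw [h1, mul_one]
      _ = s⁻¹ * (a * s⁻¹ * a⁻¹) := by rw [e1]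
      _ = _ := by group

open Classical in
/-- the classes of a word and its inverse -/
noncomputable def cl (tt : ℕ → G) (p : List ℕ × List ℕ) : List (ConjClasses G) :=
  if real p = true then [ConjClasses.mk (Words.wd tt (Words.cw p))] else
    [ConjClasses.mk (Words.wd tt (Words.cw p)), ConjClasses.mk (Words.wd tt (Words.cw p))⁻¹]

theorem length_cl (tt : ℕ → G) (p : List ℕ × List ℕ) : (cl tt p).length = if real p = true then 1 else 2 := by
  rw [cl]
  split_ifs <;> rfl

theorem card_classes_le [Finite G] {tt : ℕ → G} (h : ∀ k, tt k * tt k = 1) {L : List (List ℕ × List ℕ)}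
    {R : List (List ℕ)} (hR : R = L.map Words.cw)
    (hc : ∀ g : G, ∃ w ∈ R, IsConj (Words.wd tt w) g ∨ IsConj (Words.wd tt w)⁻¹ g) :
    Nat.card (ConjClasses G) ≤ (L.map fun p => if real p = true then 1 else 2).sum := by
  have hmem : ∀ c : ConjClasses G, c ∈ L.flatMap (cl tt) := by
    intro c
    obtain ⟨g, rfl⟩ := ConjClasses.exists_rep c
    obtain ⟨w, hw, hg⟩ := hc g
    rw [hR, List.mem_map] at hw
    obtain ⟨p, hp, rfl⟩ := hw
    refine List.mem_flatMap.2 ⟨p, hp, ?_⟩
    rw [cl]
    split_ifs with hr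
    · have h1 : IsConj (Words.wd tt (Words.cw p)) g := by
        rcases hg with hg | hg
        · exact hg
        · exact (isConj_inv h hr).trans hg
      rw [List.mem_singleton]
      exact (ConjClasses.mk_eq_mk_iff_isConj.2 h1).symm
    · rcases hg with hg | hg
      · exact List.mem_cons.2 (Or.inl (ConjClasses.mk_eq_mk_iff_isConj.2 hg).symm)
      · exact List.mem_cons.2 (Or.inr (List.mem_singleton.2 (ConjClasses.mk_eq_mk_iff_isConj.2 hg).symm))
  have h1 : Nat.card (ConjClasses G) ≤ Nat.card (Fin (L.flatMap (cl tt)).length) :=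
    Nat.card_le_card_of_surjective (fun i => (L.flatMap (cl tt)).get i) fun c => List.mem_iff_get.1 (hmem c)
  rw [Nat.card_fin, List.length_flatMap] at h1
  refine h1.trans (le_of_eq ?_)
  congr 1
  exact List.map_congr_left fun p _ => length_cl tt p

end Words

theorem card_classes_co2 : Nat.card (ConjClasses Spor.Co2) ≤ 78 := by
  have : Finite Spor.Co2 := Nat.finite_of_card_ne_zero (by rw [Cfsg.Agent.BiChar.Small.card_Co2]; norm_num)
  refine (card_classes_le (tt := H633.Ore.Co2.tt) H633.Ore.Co2.tt_sq H633.Ore.Co2.reps_cw H633.Ore.Co2.cover).trans ?_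
  decide +kernel

/-- `|G| ≤ k(G) M` -/
theorem card_le_of_degrees {G : Type u} [Group G] [Finite G] {M : ℕ} (h : ∀ a ∈ charDegrees G, a ^ 2 ≤ M) :
    Nat.card G ≤ Nat.card (ConjClasses G) * M := by
  have : Finite (IrrCharacter G) := Cfsg.Agent.Characters.Core.finite_irr
  have := Fintype.ofFinite (IrrCharacter G)
  rw [← Cfsg.Agent.SmallSimple.DegreeData.sum_sq, ← Cfsg.Agent.Characters.Core.card_irr, Nat.card_eq_fintype_card,
    ← smul_eq_mul]
  exact Finset.sum_le_card_nsmul _ _ _ fun χ _ => h _ ⟨χ, rfl⟩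

section Out

variable {A : Type u} [Group A] [Finite A] {S : Subgroup A}

theorem one_deg (hA : AlmostSimple A S) (hout : Nat.card (Out S) = 1) {a : ℕ} (ha : a ∈ charDegrees S) :
    a ∈ charDegrees A := by
  have := hA.normal
  obtain ⟨e, h3, ⟨c, rfl⟩, h5⟩ := H424.DegTools.clifford_up S ha
  have hpos : 0 < a := H424.DegTools.pos_of_mem ha
  rw [Nat.mul_div_cancel_left _ hpos] at h5
  have h6 : c ∣ Nat.card (Out S) := h5.trans (H816.OutEmb.index_dvd S (by rw [hA.cent]; exact bot_le))
  rw [hout, Nat.dvd_one] at h6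
  rwa [h6, mul_one] at h3

theorem out_congr {K : Type u} [Group K] {M : Type v} [Group M] (e : K ≃* M) (h : Nat.card (Out M) = 1) :
    Nat.card (Out K) = 1 :=
  (H498.SporOut.index_congr e).trans h

/-- the version for a model -/
theorem one_deg' (hA : AlmostSimple A S) {M : Type v} [Group M] (e : S ≃* M) (h : Nat.card (Out M) = 1) {a : ℕ}
    (ha : a ∈ charDegrees M) : a ∈ charDegrees A :=
  one_deg hA (out_congr e h) (by rw [H424.DegTools.charDegrees_congr e]; exact ha)

end Out

end Cfsg.Agent.H974.S8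
end

-- part: H974/S8/CoTwoDeg
section
/-!
# S4908: `Co2` has no character of degree 45 (helper974)

The permutation character on the 4600 vectors is `1 + 23 + 275 + 2024 + 2277`; the stabiliser is `U₆(2)`, whose small
degrees are among 1, 21, 22, 27, 28.
-/

set_option autoImplicit false

namespace Cfsg.Agent.H974.S8.CoTwo

open Cfsg Cfsg.Agent.H33 Cfsg.Agent.H672.SporIM Cfsg.Agent.H690.Spor.RankThree MulAction
open Cfsg.Agent.SporadicStructure.Co2RankThree Cfsg.Agent.Characters.Core
open Cfsg.Agent.H713.Spor.RankThree (pc inner_pc_one inner_pc_self pc_one inner_ne)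
open Cfsg.Agent.H843.IMC Cfsg.Agent.H843.IMC.Co2B
open scoped ComplexConjugate

/-! ### `U₆(2)` -/

namespace USix

open Subgroup Cfsg.Agent.H653.Sieve Cfsg.Agent.H651.Two
open Cfsg.Agent.H511.Ore (MinDeg NoDeg DegOff DegOn tstOn degOn_of_check)
open Cfsg.Agent.SporadicA.FieldFour

/-- `U₆(2)` -/
abbrev U : Type := PSU 6 F4 2

def c11 : CD := ⟨11, 1, 5, 2, [(0, 0), (1, 2), (5, -1), (6, 1), (10, -2)], 2, true⟩

theorem card : Nat.card U = 9196830720 := H365.RIM.card_PSU

theorem simple : IsSimpleGroup U := Cfsg.Agent.S0283.result H365.RIM.hF4 6 (by norm_num) (by omega)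

/-- not 21, 22, 27, 28 -/
def P (d : ℕ) : Bool := !(Nat.beq d 21 || Nat.beq d 22 || Nat.beq d 27 || Nat.beq d 28)

end USix

end Cfsg.Agent.H974.S8.CoTwo
end

-- part: H974/S8/Exc
section
/-!
# S4908: an exceptional character of the principal block (helper974)

* `exists_exc` : if the Sylow `p`-subgroup has order `p` and `e = |N : C|`, there is a degree `± e` modulo `p`.
-/

set_option autoImplicit false

namespace Cfsg.Agent.H974.S8

open Cfsg Subgroup Cfsg.Agent.SmallSimple.DegreeData

universe u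

theorem exists_exc {G : Type u} [Group G] [Finite G] {p e t : ℕ} [hp : Fact p.Prime] (hp2 : p ≠ 2)
    (P : Sylow p G) (hP : Nat.card P = p)
    (he : (centralizer (P : Set G)).relIndex (normalizer (P : Set G)) = e) (ht : e * t = p - 1) :
    ∃ d ∈ charDegrees G, (d : ℤ) ≡ e [ZMOD p] ∨ -(d : ℤ) ≡ e [ZMOD p] := by
  obtain ⟨M, hM⟩ := Blocks.Knorr.exists_isPModular p
  obtain ⟨D⟩ := exists_blockData p hp2 M hM P hP e t he ht
  obtain ⟨Θ, hΘ⟩ := D.exists_X ht
  refine ⟨D.f, ⟨Θ, D.deg_X Θ hΘ⟩, ?_⟩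
  have h := D.dexc_modEq hP ht
  rcases D.d_mem with h1 | h1
  · left
    simpa [BlockData.dexc, h1] using h
  · right
    simpa [BlockData.dexc, h1] using h

/-- a degree `± e` mod `r` -/
theorem exists_known {G : Type u} [Group G] [Finite G] {r c e : ℕ} (h : H444.Fpr.Known G r c e) (h2 : r ≠ 2) :
    ∃ d ∈ charDegrees G, (d : ℤ) ≡ e [ZMOD r] ∨ -(d : ℤ) ≡ e [ZMOD r] := by
  have hr : Fact r.Prime := ⟨h.prime⟩
  obtain ⟨P⟩ : Nonempty (Sylow r G) := inferInstance
  have hP : Nat.card P = r := by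
    obtain ⟨n, hn⟩ := (IsPGroup.iff_card (p := r)).1 P.isPGroup'
    have h1 : r ∣ Nat.card P := by
      have h3 := P.card_eq_multiplicity
      rw [h3]
      exact dvd_pow_self r (by
        have := h.prime.factorization_pos_of_dvd Nat.card_pos.ne' h.dvd
        omega)
    have h4 : ¬ r * r ∣ Nat.card P := fun h5 => h.nsq (h5.trans (card_subgroup_dvd_card _))
    rw [hn] at h1 h4 ⊢
    rcases n with _ | _ | n
    · rw [pow_zero, Nat.dvd_one] at h1
      exact absurd h1 h.prime.one_lt.ne'
    · rw [zero_add, pow_one]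
    · exact absurd ⟨r ^ n, by ring⟩ h4
  obtain ⟨z, hz⟩ := exists_prime_orderOf_dvd_card' (G := P) r (by rw [hP])
  have hz' : orderOf (z : G) = r := by rw [Subgroup.orderOf_coe, hz]
  have hPz : (P : Subgroup G) = zpowers (z : G) := by
    symm
    refine Subgroup.eq_of_le_of_card_ge ?_ ?_
    · rw [zpowers_le]
      exact z.2
    · rw [Nat.card_zpowers, hz']
      exact hP.le
  have hc := h.cent z hz'
  have hn := h.norm z hz'
  have he : (centralizer (P : Set G)).relIndex (normalizer (P : Set G)) = e := by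
    have h1 : (centralizer (P : Set G)) = centralizer ({(z : G)} : Set G) := by
      have : ((P : Subgroup G) : Set G) = (zpowers (z : G) : Set G) := congrArg (fun K : Subgroup G => (K : Set G)) hPz
      rw [show ((P : Sylow r G) : Set G) = (zpowers (z : G) : Set G) from this, zpowers_eq_closure,
        centralizer_closure]
    have h2 : (normalizer (P : Set G)) = normalizer (zpowers (z : G) : Set G) := by
      have : ((P : Subgroup G) : Set G) = (zpowers (z : G) : Set G) := congrArg (fun K : Subgroup G => (K : Set G)) hPz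
      rw [show ((P : Sylow r G) : Set G) = (zpowers (z : G) : Set G) from this]
    have h3 : centralizer (P : Set G) ≤ normalizer (P : Set G) := by
      exact Subgroup.centralizer_le_normalizer _
    have h4 := Subgroup.card_mul_index ((centralizer (P : Set G)).subgroupOf (normalizer (P : Set G)))
    rw [Nat.card_congr (Subgroup.subgroupOfEquivOfLe h3).toEquiv] at h4
    have h5 : Nat.card (centralizer (P : Set G)) = r * c := by rw [h1, hc]
    have h6 : Nat.card (normalizer (P : Set G)) = r * c * e := by rw [h2, hn]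
    rw [h5, h6] at h4
    have h7 : 0 < r * c := h5 ▸ Nat.card_pos
    exact Nat.eq_of_mul_eq_mul_left h7 h4
  obtain ⟨k, hk⟩ : e ∣ r - 1 := by
    obtain ⟨k, hk1, -, -, hk4, -⟩ := H547.SelfCent.arith h.prime hz' h.nsq
    rw [hn, hc] at hk4
    have h7 : 0 < r * c := hc ▸ Nat.card_pos
    have := Nat.eq_of_mul_eq_mul_left h7 hk4
    rw [this]
    exact hk1
  exact exists_exc h2 P hP he hk.symm

end Cfsg.Agent.H974.S8
end

-- part: H974/S8/Pairs
section
/-!
# S4908: pairs of sporadic groups `(S, X)` (helper974)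

`A` almost simple with socle `S` and `cd(A) ⊆ cd(X)` is impossible for `(S, X)` = `(M24, Co3)`, `(Co2, Co3)`,
`(M24, Co2)`, `(Co3, Co2)`.

* `M24` has a degree 45, `Co2` and `Co3` have not;
* `|Co2| > 85 |Co3|` and `Co2` has at most 78 classes;
* `Co3` has a degree `± 5` modulo 11 (exceptional characters), `Co2` has not.
-/

set_option autoImplicit false

namespace Cfsg.Agent.H974.S8

open Cfsg
open Cfsg.Agent.H691.AN (AlmostSimple)

universe u v

variable {A : Type u} [Group A] [Finite A] {S : Subgroup A}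

theorem mem_45 (hA : AlmostSimple A S) (h : Spor.IsoM24 S) : 45 ∈ charDegrees A := by
  have h1 : 45 ∈ charDegrees S := H42.S8.M24.mems (H417.RecogMathieu.isM24 h) (by decide)
  obtain ⟨e⟩ := h
  exact one_deg hA (out_congr e S2064.result) h1

/-- `(M24, Co3)` -/
theorem no_m24_co3 (hA : AlmostSimple A S) (h : Spor.IsoM24 S) (hD : charDegrees A ⊆ charDegrees Spor.Co3) : False := by
  obtain ⟨χ, hχ⟩ := hD (mem_45 hA h)
  exact H133.Ore.Co3.no45 χ hχ

/-- the degrees of `Co2` modulo 11 -/
theorem co2_eleven {d : ℕ} (hd : d ∈ charDegrees Spor.Co2) : d % 11 = 0 ∨ d % 11 = 1 ∨ d % 11 = 10 := by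
  have := H133.Ore.Co2.fin
  have := H133.Ore.Co2.simple
  obtain ⟨χ, rfl⟩ := hd
  have h := H511.Ore.res_of_has H133.Ore.Co2.not_comm H133.Ore.Co2.card (c := H133.Ore.Co2.c11)
    (H133.Ore.Co2.has _ (by simp [H133.Ore.Co2.cd])) (by decide +kernel) χ
  obtain ⟨x, hx, h1⟩ := List.any_eq_true.1 h
  have h2 : charDegree (χ : Spor.Co2 → ℂ) % 11 = x.1 := Nat.eq_of_beq_eq_true h1
  simp only [H133.Ore.Co2.c11, List.mem_cons, List.not_mem_nil, or_false] at hx
  rcases hx with rfl | rfl | rfl
  · exact Or.inl h2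
  · exact Or.inr (Or.inl h2)
  · exact Or.inr (Or.inr h2)

/-- a degree `± 5` modulo 11 of `Co3` -/
theorem co3_eleven : ∃ d ∈ charDegrees Spor.Co3, d % 11 = 5 ∨ d % 11 = 6 := by
  have := H133.Ore.Co3.fin
  obtain ⟨d, hd, h⟩ := exists_known H147.Fpr.Co3.known11 (by norm_num)
  refine ⟨d, hd, ?_⟩
  rcases h with h | h
  · left
    unfold Int.ModEq at h
    omega
  · right
    unfold Int.ModEq at h
    omega

/-- `(Co3, Co2)` -/
theorem no_co3_co2 (hA : AlmostSimple A S) (h : Spor.IsoCo3 S) (hD : charDegrees A ⊆ charDegrees Spor.Co2) : False := by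
  obtain ⟨e⟩ := h
  obtain ⟨d, hd, h1⟩ := co3_eleven
  have h2 := co2_eleven (hD (one_deg' hA e S2071.result hd))
  omega

/-- the degrees of `Co3` -/
theorem co3_sq {d : ℕ} (hd : d ∈ charDegrees Spor.Co3) : d ^ 2 ≤ 495766656000 := by
  have := H133.Ore.Co3.fin
  obtain ⟨χ, rfl⟩ := hd
  have : Finite (IrrCharacter Spor.Co3) := Cfsg.Agent.Characters.Core.finite_irr
  have := Fintype.ofFinite (IrrCharacter Spor.Co3)
  rw [← H133.Ore.Co3.card, ← Cfsg.Agent.SmallSimple.DegreeData.sum_sq]
  exact Finset.single_le_sum (f := fun χ : IrrCharacter Spor.Co3 => charDegree (χ : Spor.Co3 → ℂ) ^ 2)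
    (fun _ _ => Nat.zero_le _) (Finset.mem_univ χ)

/-- `(Co2, Co3)` -/
theorem no_co2_co3 (hA : AlmostSimple A S) (h : Spor.IsoCo2 S) (hD : charDegrees A ⊆ charDegrees Spor.Co3) : False := by
  obtain ⟨e⟩ := h
  have := H133.Ore.Co2.fin
  have h1 := card_le_of_degrees (G := Spor.Co2) (M := 495766656000) fun a ha =>
    co3_sq (hD (one_deg' hA e S2070.result ha))
  have h2 := card_classes_co2
  rw [H133.Ore.Co2.card] at h1
  have h3 : Nat.card (ConjClasses Spor.Co2) * 495766656000 ≤ 78 * 495766656000 := Nat.mul_le_mul_right _ h2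
  omega

end Cfsg.Agent.H974.S8
end

-- part: H586/S8/Num
section
/-!
# S4908, SOC2: numerical descriptions of degree sets from the columns of ORE (helper586)

* `resP cds m d` : `d = 1` or `m ≤ d`, and `d` has the residues of the columns `cds`;
* `num_of` : `Num (charDegrees G) N (resP cds m)`; `num_iso` : transport.
-/

set_option autoImplicit false

namespace Cfsg.Agent.H586.S8

open Cfsg Cfsg.Agent.H450.S8
open Cfsg.Agent.H653.Sieve Cfsg.Agent.H651.Two Cfsg.Agent.H511.Ore

universe u v

/-- `d = 1` or `m ≤ d`, and the residues of the columns -/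
def resP (cds : List CD) (m d : ℕ) : Bool :=
  (Nat.beq d 1 || Nat.ble m d) && cds.all fun c => c.wl.any fun rw => Nat.beq (d % c.r) rw.1

/-- **The degrees from the columns** -/
theorem num_of {G : Type u} [Group G] [Finite G] [IsSimpleGroup G] (hG : ¬ IsMulCommutative G) {N m : ℕ}
    (hN : Nat.card G = N) (hm : MinDeg G m) {cds : List CD} (hok : (cds.all (CD.ok N)) = true)
    (hc : ∀ c ∈ cds, c.Has G) : Num (charDegrees G) N (resP cds m) where
  pos := hN ▸ Nat.card_pos
  dvd := by
    rintro _ ⟨χ, rfl⟩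
    rw [← hN]
    exact charDegree_dvd χ
  ok := by
    rintro _ ⟨χ, rfl⟩
    rw [resP, Bool.and_eq_true, Bool.or_eq_true]
    refine ⟨?_, ?_⟩
    · by_cases h1 : (χ : G → ℂ) = 1
      · left
        have h2 : charDegree (χ : G → ℂ) = 1 := by
          have h3 := Blocks.Basic.irr_one_eq_charDegree χ.2
          rw [h1, Pi.one_apply] at h3
          rw [h1]
          exact_mod_cast h3.symm
        rw [h2]
        rfl
      · right
        exact Nat.ble_eq_true_of_le (hm χ h1)
    · rw [List.all_eq_true]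
      intro c hcm
      exact res_of_has hG hN (hc c hcm) (List.all_eq_true.1 hok c hcm) χ

/-- transport along an isomorphism -/
theorem num_iso {K : Type u} {T : Type v} [Group K] [Group T] (e : K ≃* T) {N : ℕ} {P : ℕ → Bool}
    (h : Num (charDegrees T) N P) : Num (charDegrees K) N P where
  pos := h.pos
  dvd hd := h.dvd (H424.DegTools.charDegrees_of_surjective e.symm.toMonoidHom e.symm.surjective hd)
  ok hd := h.ok (H424.DegTools.charDegrees_of_surjective e.symm.toMonoidHom e.symm.surjective hd)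

end Cfsg.Agent.H586.S8
end

private theorem dce_d6c01ac31d15 : _root_.True := by
  try have : _root_.True := by simp only [_root_.Cfsg.Agent.H586.S8.resP.eq_1]
  try have : _root_.True := by simp only [_root_.Cfsg.Agent.H974.S8.CoTwo.USix.P.eq_1]
  try have : _root_.True := by simp only [_root_.Cfsg.Agent.H974.S8.cl.eq_1]
  try have : _root_.True := by simp only [_root_.Cfsg.Agent.H974.S8.real.eq_1]
  try have : _root_.True := by simp only [_root_.Cfsg.Agent.H974.S8.CoTwo.USix.c11.eq_1]
  exact _root_.True.intro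
end

-- part: H450/S8/Soc2
section
prune_inst 0x8000000000000000000000000000014010000
set_option linter.all false
open scoped Cfsg.Agent.FastGrp

-- part: H450/S8/Spor
section
/-!
# Primes and degrees of the simple groups which are not of Lie type (helper450, for S4908)

* `sporTable`, `Fact`, `spor_fact`, `tits_fact` : primes and two degrees of the sporadic groups;
* `soc2Test` : the finite test;
* `kill` : no simple group passes.
-/

set_option autoImplicit false

namespace Cfsg.Agent.H450.S8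

open Cfsg Cfsg.Agent.H691.AN Cfsg.Agent.H704 Cfsg.Agent.H504.AN

universe u v

/-- primes dividing the order, nonlinear degrees -/
def Fact (S : Type u) [Group S] (pr l : List ℕ) : Prop :=
  pr ≠ [] ∧ (∀ p ∈ pr, p.Prime ∧ p ∣ Nat.card S) ∧ ∀ a ∈ l, a ∈ charDegrees S ∧ a ≠ 1

/-- the primes and degrees used -/
def sporTable : List (List ℕ × List ℕ) :=
  [([5, 11], [10, 45]), ([5, 11], [16, 45]), ([5, 7, 11], [21, 45]), ([7, 11], [22, 77]), ([7, 11], [22, 252]),
    ([7, 11, 13], [780, 1001]), ([7, 11, 13], [429, 3080]), ([13], [78, 650]), ([5, 7], [36, 63]),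
    ([17], []), ([19], []), ([23], []), ([29], []), ([31], []), ([43], []), ([47], []), ([67], []), ([71], [])]

theorem mem_irr {K : Type*} [Group K] {m : ℕ} (h : ∃ ψ : K → ℂ, IsIrrCharacter K ψ ∧ ψ 1 = ((m : ℕ) : ℂ)) :
    m ∈ charDegrees K := H424.DegTools.mem_charDegrees.2 h

theorem mem_equiv {K T : Type*} [Group K] [Group T] (e : K ≃* T) {m : ℕ} (h : m ∈ charDegrees T) :
    m ∈ charDegrees K := H424.DegTools.charDegrees_of_surjective e.toMonoidHom e.surjective h

theorem fact_one {S : Type u} [Group S] {n p : ℕ} (hc : Nat.card S = n) (hp : p.Prime) (h : p ∣ n)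
    (hm : (([p], []) : List ℕ × List ℕ) ∈ sporTable) : ∃ x ∈ sporTable, Fact S x.1 x.2 := by
  refine ⟨_, hm, by simp, ?_, by simp⟩
  intro q hq
  have : q = p := by simpa using hq
  subst this
  exact ⟨hp, hc ▸ h⟩

theorem spor_fact {S : Type u} [Group S] [Finite S] (h : IsSporadicGroup S) : ∃ x ∈ sporTable, Fact S x.1 x.2 := by
  rcases h with h | h | h | h | h | h | h | h | h | h | h | h | h | h | h | h | h | h | h | h | h | h | h | h | h | h
  · -- M11
    obtain ⟨h1, h2, -⟩ := H603.FD.Spor.m11 (UGT.End.MEleven.isM11 h)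
    have hc := NotCT.Orders.m11 h
    refine ⟨([5, 11], [10, 45]), by decide, by simp, ?_, ?_⟩
    · simp only [List.forall_mem_cons, List.not_mem_nil, false_implies, implies_true, and_true, hc]
      norm_num
    · simp only [List.forall_mem_cons, List.not_mem_nil, false_implies, implies_true, and_true]
      exact ⟨⟨h1, by norm_num⟩, h2, by norm_num⟩
  · -- M12
    obtain ⟨h1, h2, -⟩ := H603.FD.Spor.m12 (H603.FD.Spor.isM12 h)
    have hc := NotCT.Orders.m12 h
    refine ⟨([5, 11], [16, 45]), by decide, by simp, ?_, ?_⟩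
    · simp only [List.forall_mem_cons, List.not_mem_nil, false_implies, implies_true, and_true, hc]
      norm_num
    · simp only [List.forall_mem_cons, List.not_mem_nil, false_implies, implies_true, and_true]
      exact ⟨⟨h1, by norm_num⟩, h2, by norm_num⟩
  · -- M22
    obtain ⟨h1, h2, -⟩ := H603.FD.Spor.m22 (H417.RecogMathieu.isM22 h)
    have hc := NotCT.Orders.m22 h
    refine ⟨([5, 7, 11], [21, 45]), by decide, by simp, ?_, ?_⟩
    · simp only [List.forall_mem_cons, List.not_mem_nil, false_implies, implies_true, and_true, hc]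
      norm_num
    · simp only [List.forall_mem_cons, List.not_mem_nil, false_implies, implies_true, and_true]
      exact ⟨⟨h1, by norm_num⟩, h2, by norm_num⟩
  · exact fact_one (NotCT.Orders.m23 h) (p := 23) (by norm_num) (by norm_num) (by decide)
  · exact fact_one (NotCT.Orders.m24 h) (p := 23) (by norm_num) (by norm_num) (by decide)
  · exact fact_one (NotCT.Orders.j1 h) (p := 19) (by norm_num) (by norm_num) (by decide)
  · -- J2
    obtain ⟨h2, h1⟩ := H672.SporIM.j2 h
    have hc := NotCT.Orders.j2 h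
    refine ⟨([5, 7], [36, 63]), by decide, by simp, ?_, ?_⟩
    · simp only [List.forall_mem_cons, List.not_mem_nil, false_implies, implies_true, and_true, hc]
      norm_num
    · simp only [List.forall_mem_cons, List.not_mem_nil, false_implies, implies_true, and_true]
      exact ⟨⟨h1, by norm_num⟩, h2, by norm_num⟩
  · exact fact_one (NotCT.Orders.j3 h) (p := 19) (by norm_num) (by norm_num) (by decide)
  · exact fact_one (NotCT.Orders.j4 h) (p := 43) (by norm_num) (by norm_num) (by decide)
  · exact fact_one (NotCT.Orders.co1 h) (p := 23) (by norm_num) (by norm_num) (by decide)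
  · exact fact_one (NotCT.Orders.co2 h) (p := 23) (by norm_num) (by norm_num) (by decide)
  · exact fact_one (NotCT.Orders.co3 h) (p := 23) (by norm_num) (by norm_num) (by decide)
  · -- McL
    have hc := NotCT.Orders.mcl h
    refine ⟨([7, 11], [22, 252]), by decide, by simp, ?_, ?_⟩
    · simp only [List.forall_mem_cons, List.not_mem_nil, false_implies, implies_true, and_true, hc]
      norm_num
    · simp only [List.forall_mem_cons, List.not_mem_nil, false_implies, implies_true, and_true]
      exact ⟨⟨mem_irr (H765.DS.HSMcL.mcl_22 h), by norm_num⟩, mem_irr (H765.DS.HSMcL.mcl_252 h), by norm_num⟩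
  · -- HS
    have hc := NotCT.Orders.hs h
    refine ⟨([7, 11], [22, 77]), by decide, by simp, ?_, ?_⟩
    · simp only [List.forall_mem_cons, List.not_mem_nil, false_implies, implies_true, and_true, hc]
      norm_num
    · simp only [List.forall_mem_cons, List.not_mem_nil, false_implies, implies_true, and_true]
      exact ⟨⟨mem_irr (H765.DS.HSMcL.hs_22 h), by norm_num⟩, mem_irr (H765.DS.HSMcL.hs_77 h), by norm_num⟩
  · -- Suz
    obtain ⟨h2, h1⟩ := H672.SporIM.suz h
    have hc := NotCT.Orders.suz h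
    refine ⟨([7, 11, 13], [780, 1001]), by decide, by simp, ?_, ?_⟩
    · simp only [List.forall_mem_cons, List.not_mem_nil, false_implies, implies_true, and_true, hc]
      norm_num
    · simp only [List.forall_mem_cons, List.not_mem_nil, false_implies, implies_true, and_true]
      exact ⟨⟨h1, by norm_num⟩, h2, by norm_num⟩
  · exact fact_one (NotCT.Orders.he h) (p := 17) (by norm_num) (by norm_num) (by decide)
  · exact fact_one (NotCT.Orders.ru h) (p := 29) (by norm_num) (by norm_num) (by decide)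
  · exact fact_one (NotCT.Orders.on h) (p := 31) (by norm_num) (by norm_num) (by decide)
  · exact fact_one (NotCT.Orders.ly h) (p := 67) (by norm_num) (by norm_num) (by decide)
  · -- Fi22
    obtain ⟨h1, h2⟩ := H3.DS.Fi22.exists_deg h
    have hc := NotCT.Orders.fi22 h
    refine ⟨([7, 11, 13], [429, 3080]), by decide, by simp, ?_, ?_⟩
    · simp only [List.forall_mem_cons, List.not_mem_nil, false_implies, implies_true, and_true, hc]
      norm_num
    · simp only [List.forall_mem_cons, List.not_mem_nil, false_implies, implies_true, and_true]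
      exact ⟨⟨mem_irr h1, by norm_num⟩, mem_irr h2, by norm_num⟩
  · exact fact_one (NotCT.Orders.fi23 h) (p := 23) (by norm_num) (by norm_num) (by decide)
  · exact fact_one (NotCT.Orders.fi24 h) (p := 29) (by norm_num) (by norm_num) (by decide)
  · exact fact_one (NotCT.Orders.hn h) (p := 19) (by norm_num) (by norm_num) (by decide)
  · exact fact_one (NotCT.Orders.th h) (p := 31) (by norm_num) (by norm_num) (by decide)
  · exact fact_one (NotCT.Orders.b h) (p := 47) (by norm_num) (by norm_num) (by decide)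
  · exact fact_one (NotCT.Orders.m h) (p := 71) (by norm_num) (by norm_num) (by decide)

theorem tits_fact {S : Type u} [Group S] [Finite S] (h : Lie.IsoTits S) : ∃ x ∈ sporTable, Fact S x.1 x.2 := by
  have hc := NotCT.Orders.tits h
  obtain ⟨e⟩ := h
  obtain ⟨f⟩ := H707.RowTits.equiv
  refine ⟨([13], [78, 650]), by decide, by simp, ?_, ?_⟩
  · simp only [List.forall_mem_cons, List.not_mem_nil, false_implies, implies_true, and_true, hc]
    norm_num
  · simp only [List.forall_mem_cons, List.not_mem_nil, false_implies, implies_true, and_true]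
    exact ⟨⟨mem_equiv (e.trans f) H678.DG.Tits.deg_78, by norm_num⟩, mem_equiv (e.trans f) H678.DG.Tits.deg_650,
      by norm_num⟩

/-- the test for the alternating groups -/
def altTest (N : ℕ) (P : ℕ → Bool) : Bool :=
  decide (¬ 17 ^ 2 ∣ N) && (List.range 17).all fun l => decide (l < 7) ||
    rowTest N P ([5, 7, 11, 13].filter fun p => decide (p ≤ l)) [l - 1, l * (l - 3) / 2]

/-- the whole test -/
def soc2Test (N : ℕ) (P : ℕ → Bool) (fac : List (ℕ × ℕ)) : Bool :=
  facTest N fac && ppTest P fac && altTest N P && sporTable.all fun x => rowTest N P x.1 x.2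

section

variable {D : Set ℕ} {N : ℕ} {P : ℕ → Bool} {k : ℕ} {S : Type u} [Group S] [Finite S]

theorem table_kill (hD : Num D N P) (hk : 2 ≤ k) (H : Hyp D k S) (hout : Nat.card (Out S) ≤ 2)
    (ht : (sporTable.all fun x => rowTest N P x.1 x.2) = true) (h : ∃ x ∈ sporTable, Fact S x.1 x.2) : False := by
  obtain ⟨x, hx, h1, h2, h3⟩ := h
  rw [List.all_eq_true] at ht
  exact row_kill hD hk H hout h2 h1 h3 (ht x hx)

theorem lie_kill [IsSimpleGroup S] (hD : Num D N P) (hk : 2 ≤ k) (H : Hyp D k S) (hna : ¬ IsMulCommutative S)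
    {fac : List (ℕ × ℕ)} (hpr : ∀ x ∈ fac, x.1.Prime) (hf : facTest N fac = true) (ht : ppTest P fac = true)
    {r : ℕ} (hr : r.Prime) (h : IsLieTypeChar r S) : False := by
  have : _root_.Fact r.Prime := ⟨hr⟩
  obtain ⟨θ, h1, h2⟩ := H761.LieExt.lie_ext hna h
  have h3 := H671.FactRows.prime_dvd_of_lie hr h
  have h4 : 0 < (Nat.card S).factorization r := Nat.Prime.factorization_pos_of_dvd hr Nat.card_pos.ne' h3
  have h5 : 3 ≤ r ^ (Nat.card S).factorization r := by
    rcases Nat.lt_or_ge r 3 with h6 | h6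
    · have h7 : r = 2 := by have := hr.two_le; omega
      subst h7
      have h8 := H727.Orth.four_dvd hna
      have h9 : 2 ≤ (Nat.card S).factorization 2 :=
        (Nat.prime_two.pow_dvd_iff_le_factorization Nat.card_pos.ne').1 (by norm_num; exact h8)
      have := Nat.pow_le_pow_right (n := 2) (by norm_num) h9
      omega
    · calc 3 ≤ r := h6
        _ = r ^ 1 := (pow_one r).symm
        _ ≤ _ := Nat.pow_le_pow_right hr.pos h4
  have h6 : charDegree (θ : S → ℂ) ≠ 1 := by rw [h1]; omega
  obtain ⟨k1, k2⟩ := H.ext θ h6 h2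
  rw [h1] at k1 k2
  exact pp_kill hD hpr hf ht hk hr h4 h5 k1 k2

theorem alt_kill [IsSimpleGroup S] (hD : Num D N P) (hk : 2 ≤ k) (H : Hyp D k S) (hna : ¬ IsMulCommutative S)
    {fac : List (ℕ × ℕ)} (hpr : ∀ x ∈ fac, x.1.Prime) (ht : soc2Test N P fac = true) {l : ℕ} (hl : 5 ≤ l)
    (e : S ≃* alternatingGroup (Fin l)) : False := by
  rw [soc2Test, Bool.and_eq_true, Bool.and_eq_true, Bool.and_eq_true] at ht
  obtain ⟨⟨⟨hf, hp⟩, ha⟩, -⟩ := ht
  by_cases h5 : l = 5
  · subst h5
    have : _root_.Fact (Nat.Prime 5) := ⟨by norm_num⟩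
    obtain ⟨f⟩ := Cfsg.Agent.S0253.psl_zmod5
    exact lie_kill hD hk H hna hpr hf hp (r := 5) (by norm_num) (Or.inl ⟨ZMod 5, inferInstance, inferInstance,
      inferInstance, 2, le_rfl, fun _ => by rw [ZMod.card]; norm_num, ⟨e.trans f.symm⟩⟩)
  by_cases h6 : l = 6
  · subst h6
    exact lie_kill hD hk H hna hpr hf hp (r := 3) (by norm_num) (H679.isLie_six ⟨e⟩)
  have h7 : 7 ≤ l := by omega
  have hout : Nat.card (Out S) ≤ 2 := by
    rw [H55.OutGen.card_out_congr e, H489.card_out_alt hl h6]
  have hdv : ∀ p : ℕ, p.Prime → 3 ≤ p → p ≤ l → p ∣ Nat.card S := fun p hp h3 hpl => by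
    rw [Nat.card_congr e.toEquiv]
    exact dvd_card_alt hp h3 h7 hpl
  rw [altTest, Bool.and_eq_true, decide_eq_true_eq] at ha
  have hl17 : l < 17 := by
    by_contra hcon
    exact ha.1 ((pow_dvd_pow 17 hk).trans (pow_dvd hD H (by norm_num) (hdv 17 (by norm_num) (by norm_num) (by omega))))
  obtain ⟨k1, k2, -⟩ := H71.AN.a4_of (fun h _ h' _ h2 => H89.AN.a1_mem h h' h2) h7
  rw [H691.AN.D, ← H424.DegTools.charDegrees_congr e] at k1 k2
  have ha2 := ha.2
  rw [List.all_eq_true] at ha2
  have h8 := ha2 l (List.mem_range.2 hl17)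
  rw [Bool.or_eq_true, decide_eq_true_eq] at h8
  rcases h8 with h8 | h8
  · omega
  refine row_kill hD hk H hout ?_ ?_ ?_ h8
  · intro p hp'
    rw [List.mem_filter, decide_eq_true_eq] at hp'
    obtain ⟨h9, h10⟩ := hp'
    have h11 : p.Prime ∧ 3 ≤ p := by
      have : p = 5 ∨ p = 7 ∨ p = 11 ∨ p = 13 := by simpa using h9
      rcases this with rfl | rfl | rfl | rfl <;> norm_num
    exact ⟨h11.1, hdv p h11.1 h11.2 h10⟩
  · intro hnil
    have : 5 ∈ ([5, 7, 11, 13].filter fun p => decide (p ≤ l)) := by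
      rw [List.mem_filter, decide_eq_true_eq]
      exact ⟨by simp, by omega⟩
    rw [hnil] at this
    exact List.not_mem_nil this
  · intro a ha'
    have : a = l - 1 ∨ a = l * (l - 3) / 2 := by simpa using ha'
    rcases this with rfl | rfl
    · exact ⟨k1, by omega⟩
    · refine ⟨k2, ?_⟩
      obtain ⟨t, rfl⟩ := Nat.exists_eq_add_of_le h7
      rw [show 7 + t - 3 = t + 4 by omega]
      have h8 : 7 * 4 ≤ (7 + t) * (t + 4) := Nat.mul_le_mul (by omega) (by omega)
      omega

/-- no simple group passes the test -/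
theorem kill (hK : H671.FactRows.KnownAll.{u}) [IsSimpleGroup S] (hD : Num D N P) (hk : 2 ≤ k) (H : Hyp D k S)
    (hna : ¬ IsMulCommutative S) {fac : List (ℕ × ℕ)} (hpr : ∀ x ∈ fac, x.1.Prime) (ht : soc2Test N P fac = true) :
    False := by
  have ht' := ht
  rw [soc2Test, Bool.and_eq_true, Bool.and_eq_true, Bool.and_eq_true] at ht'
  obtain ⟨⟨⟨hf, hp⟩, -⟩, hs⟩ := ht'
  rcases H671.FactRows.split hK S hna with ⟨l, hl, ⟨e⟩⟩ | ⟨r, hr, h⟩ | h | h
  · exact alt_kill hD hk H hna hpr ht hl e
  · exact lie_kill hD hk H hna hpr hf hp hr h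
  · exact table_kill hD hk H (H489.card_out_tits h) hs (tits_fact h)
  · exact table_kill hD hk H (H489.card_out_sporadic h) hs (spor_fact h)

end

end Cfsg.Agent.H450.S8
end

-- part: H450/S8/Engine
section
/-!
# SOC2 of S4908 from a numerical description of the degrees (helper450)

* `soc2_core` : `Num D N P` and the finite test give `Soc2 D`; the classification and the Itô-Michler theorem are
  hypotheses.
-/

set_option autoImplicit false

namespace Cfsg.Agent.H450.S8

open Cfsg Cfsg.Agent.H691.AN Cfsg.Agent.H704 Cfsg.Agent.H504.AN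

universe u v

/-- **Itô-Michler** for simple groups -/
def IM : Prop := ∀ {S : Type u} [Group S] [Finite S] [IsSimpleGroup S], ¬ IsMulCommutative S → ∀ p : ℕ, p.Prime →
  p ∣ Nat.card S → ∃ d ∈ charDegrees S, p ∣ d

theorem soc2_core (hK : H671.FactRows.KnownAll.{u}) (hIM : IM.{u}) {D : Set ℕ} {N : ℕ} {P : ℕ → Bool}
    (hD : Num D N P) {fac : List (ℕ × ℕ)} (hpr : ∀ x ∈ fac, x.1.Prime) (ht : soc2Test N P fac = true) :
    H704.S8.Soc2.{u} D := by
  intro Y _ _ h W hW _ hmin hna
  have hna' : ¬ ∀ x ∈ W, ∀ y ∈ W, Commute x y := by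
    intro hc
    exact hna ⟨⟨fun a b => Subtype.ext (hc a a.2 b b.2)⟩⟩
  obtain ⟨m, S, iS, F⟩ := exists_mfac W hmin hna'
  have hfin := F.finite
  have hsimp := F.simple
  rcases Nat.lt_or_ge m 2 with hm | hm
  · have hm1 : m = 1 := by have := F.pos; omega
    subst hm1
    exact F.simple_of_one
  · exfalso
    refine kill hK hD hm (H := ⟨?_, ?_, ?_, ?_⟩) F.nonab hpr ht
    · intro d hd
      obtain ⟨d', h1, h2⟩ := F.pow hd
      exact ⟨d', h h1, h2⟩
    · intro d hd hd1
      obtain ⟨c, h1, h2⟩ := F.mul hd hd1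
      exact ⟨c, h1, h h2⟩
    · intro α hα hψ
      obtain ⟨h1, h2⟩ := F.ext α hα hψ
      exact ⟨h h1, h h2⟩
    · intro p hp hpd
      obtain ⟨d', h1, h2⟩ := F.prime_pow (fun q hq hqd => hIM F.nonab q hq hqd) hp hpd
      exact ⟨d', h h1, h2⟩

/-- `c = 1` -/
theorem soc2_core_one (hK : H671.FactRows.KnownAll.{u}) (hIM : IM.{u}) {X : Type v} [Group X] {N : ℕ} {P : ℕ → Bool}
    (h : Num (charDegrees X) N P) {fac : List (ℕ × ℕ)} (hpr : ∀ x ∈ fac, x.1.Prime)
    (ht : soc2Test N (P1 N P) fac = true) {D : Set ℕ} (hD : H704.S8.Deg 1 X D) : H704.S8.Soc2.{u} D := by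
  rcases hD with rfl | ⟨h1, -⟩
  · exact soc2_core hK hIM h.one hpr ht
  · exact absurd h1 (by norm_num)

/-- `c = 2` -/
theorem soc2_core_two (hK : H671.FactRows.KnownAll.{u}) (hIM : IM.{u}) {X : Type v} [Group X] [Finite X] {N : ℕ}
    {P : ℕ → Bool} (h : Num (charDegrees X) N P) (hi : (MulAut.conj : X →* MulAut X).range.index ≤ 2)
    {fac : List (ℕ × ℕ)} (hpr : ∀ x ∈ fac, x.1.Prime) (ht : soc2Test (2 * N) (P2 N P) fac = true) {D : Set ℕ}
    (hD : H704.S8.Deg 2 X D) : H704.S8.Soc2.{u} D :=
  soc2_core hK hIM (h.deg2 hi hD) hpr ht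

end Cfsg.Agent.H450.S8
end

-- part: H450/S8/Soc2
section
/-!
# SOC2 of S4908: the engine (helper450)

* `soc2_of_num`; `soc2_one` (`c = 1`); `soc2_two` (`c = 2`).
-/

set_option autoImplicit false

namespace Cfsg.Agent.H450.S8

open Cfsg

universe u v

theorem known : H671.FactRows.KnownAll.{u} := by
  intro X _ _ _
  exact S0000.result (G := X)

theorem im : IM.{u} := by
  intro S _ _ _ hna p hp hd
  exact H504.AN.exists_dvd_degree hna hp hd

/-- **SOC2** from a numerical description of `D` -/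
theorem soc2_of_num {D : Set ℕ} {N : ℕ} {P : ℕ → Bool} {fac : List (ℕ × ℕ)} (hD : Num D N P)
    (hpr : ∀ x ∈ fac, x.1.Prime) (ht : soc2Test N P fac = true) : H704.S8.Soc2.{u} D :=
  soc2_core known im hD hpr ht

/-- `c = 1` -/
theorem soc2_one {X : Type v} [Group X] {N : ℕ} {P : ℕ → Bool} (h : Num (charDegrees X) N P) {fac : List (ℕ × ℕ)}
    (hpr : ∀ x ∈ fac, x.1.Prime) (ht : soc2Test N (P1 N P) fac = true) {D : Set ℕ} (hD : H704.S8.Deg 1 X D) :
    H704.S8.Soc2.{u} D :=
  soc2_core_one known im h hpr ht hD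

/-- `c = 2` -/
theorem soc2_two {X : Type v} [Group X] [Finite X] {N : ℕ} {P : ℕ → Bool} (h : Num (charDegrees X) N P)
    (hi : (MulAut.conj : X →* MulAut X).range.index ≤ 2) {fac : List (ℕ × ℕ)} (hpr : ∀ x ∈ fac, x.1.Prime)
    (ht : soc2Test (2 * N) (P2 N P) fac = true) {D : Set ℕ} (hD : H704.S8.Deg 2 X D) : H704.S8.Soc2.{u} D :=
  soc2_core_two known im h hi hpr ht hD

end Cfsg.Agent.H450.S8
end

private theorem dce_df9fdf7eee12 : _root_.True := by
  try have : _root_.True := by simp only [_root_.Cfsg.Agent.H450.S8.soc2Test.eq_1]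
  try have : _root_.True := by simp only [_root_.Cfsg.Agent.H450.S8.altTest.eq_1]
  exact _root_.True.intro
end

-- part: H529/S8/RJ2
section
prune_inst 0x410001550444010000000001020002200600001000020880020600706020c410280020100488014001042a0000000000002000060400000000a0000000000010008008200d0890000200000011004400000000000000000000000000000000000004010000
set_option linter.all false
open scoped Cfsg.Agent.FastGrp

-- part: H409/S8/RowJTwo
section
/-!
# S4908, the group `J₂`: SOC1 and SOC2 (helper409)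
-/

set_option autoImplicit false

universe u v

namespace Cfsg.Agent.H409.S8.JTwo

open Cfsg Cfsg.Agent.H704.S8 Cfsg.Agent.NotCT

variable {X : Type v} [Group X]

theorem index_inn (hX : Spor.IsoJ2 X) : (MulAut.conj : X →* MulAut X).range.index = 2 := by
  obtain ⟨e⟩ := hX
  rw [H498.SporOut.index_congr e]
  exact Cfsg.Agent.S2066.result

theorem im (Y : Type u) [Group Y] [Finite Y] (hs : IsSimpleGroup Y) (hna : ¬ IsMulCommutative Y) (p : ℕ) (hp : p.Prime)
    (hd : p ∣ Nat.card Y) : H33.IM p Y := by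
  have := Fact.mk hp
  exact H33.im_known H33.rest hs (S0000.result (G := Y)) hna hd

/-- **SOC1 of `J₂`.** -/
theorem soc1 [Finite X] (hX : IsJ2 X) (D : Set ℕ) (hD : Deg 2 X D) : Soc1.{u} D X := by
  have h : Spor.IsoJ2 X := H58.S8.iso_j2 (X := X) hX
  have h1 : H245.S8.Data 2 X 11 14 := data h (by rw [index_inn h])
  have h2 : ∀ d ∈ charDegrees X, ¬ IsPrimePow d := no_pp h
  have h3 : ∀ (Y : Type u) [Group Y] [Finite Y] [IsSimpleGroup Y], IsKnownSimple' Y := fun Y _ _ _ =>
    S0000.result (G := Y)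
  have h4 : ∀ (Y : Type u) [Group Y] [Finite Y], IsSimpleGroup Y → ¬ IsMulCommutative Y → ∀ p : ℕ, p.Prime →
      p ∣ Nat.card Y → H33.IM p Y := fun Y _ _ => im Y
  intro A _ _ S hA hAD
  exact soc1_of (X := X) h1 h2 h3 h4 (fun Y _ _ _ h1 h2 => spor h Y h1 h2) D hD hA hAD

/-- **SOC2 of `J₂`.** -/
theorem soc2 [Finite X] (hX : IsJ2 X) (D : Set ℕ) (hD : Deg 2 X D) : Soc2.{u} D := by
  have h : Spor.IsoJ2 X := H58.S8.iso_j2 (X := X) hX
  have h1 : H450.S8.Num (charDegrees X) 604800 P := num h
  have h2 : (MulAut.conj : X →* MulAut X).range.index ≤ 2 := (index_inn h).le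
  intro Y _ _ hY
  refine H450.S8.soc2_two (X := X) h1 h2 (fac := [(2, 8), (3, 3), (5, 2), (7, 1)]) ?_ (by decide +kernel) hD hY
  intro x hx
  simp only [List.mem_cons, List.not_mem_nil, or_false] at hx
  rcases hx with rfl | rfl | rfl | rfl <;> norm_num

end Cfsg.Agent.H409.S8.JTwo
end

-- part: H91/S8/JTwo
section
/-!
# S4908: the row SOLV for `J₂` (helper91)

* `sup` : a superset of the degrees of `J₂` (from helper409's column of order 7);
* `solv` : no solvable group has the degrees of `J₂` or of `Aut J₂`.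
-/

set_option autoImplicit false
set_option maxRecDepth 100000

namespace Cfsg.Agent.H91.S8.JTwo

open Cfsg Cfsg.Agent.H409.S8.JTwo
open Cfsg.Agent.SporadicA.J2Hundred (G card_G)

universe u v

/-- the five degrees -/
def F5 : Fin 5 → ℕ := ![1, 36, 90, 160, 225]

/-- a further character in the column of order 7 -/
theorem other {χ : IrrCharacter G} (h : ∀ i : Fin 5, charDegree (χ : G → ℂ) ≠ F5 i)
    (hm : charDegree (χ : G → ℂ) % 7 ≠ 0) :
    ∃ ω : IrrCharacter G, (charDegree (χ : G → ℂ) % 7 = 1 ∧ charDegree (ω : G → ℂ) = charDegree (χ : G → ℂ) + 12) ∨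
      (charDegree (χ : G → ℂ) % 7 = 6 ∧ charDegree (χ : G → ℂ) = charDegree (ω : G → ℂ) + 12) ∨
      charDegree (χ : G → ℂ) + charDegree (ω : G → ℂ) = 12 := by
  classical
  have := Characters.Core.finite_irr (G := G)
  have := Fintype.ofFinite (IrrCharacter G)
  obtain ⟨c, h7, hs, h0⟩ := col
  obtain ⟨t, ht⟩ := five
  have hinj : Function.Injective t := by
    intro i j hij
    have h1 := ht i
    rw [hij, ht j] at h1
    revert h1
    fin_cases i <;> fin_cases j <;> simp
  have hc : ∀ i, c (t i) = (![1, 1, -1, -1, 1] : Fin 5 → ℤ) i := by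
    intro i
    have h1 := h7 (t i)
    have h2 := sixth h7 hs (t i)
    rw [ht i] at h1
    fin_cases i <;> simp only [_root_.Fin.zero_eta, _root_.Fin.isValue, _root_.Matrix.cons_val_zero, _root_.Nat.cast_one, _root_.Int.reduceNeg, _root_.Fin.mk_one, _root_.Matrix.cons_val_one, _root_.Nat.cast_ofNat, _root_.Fin.reduceFinMk, _root_.Matrix.cons_val] at h1 h2 ⊢ <;> (clear * - h2 h1; omega)
  have hcχ : c χ = 1 ∧ charDegree (χ : G → ℂ) % 7 = 1 ∨ c χ = -1 ∧ charDegree (χ : G → ℂ) % 7 = 6 := by
    have h1 := h7 χ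
    have h2 := sixth h7 hs χ
    rcases h2 with h2 | h2 | h2
    · exfalso
      rw [h2] at h1
      omega
    · left
      rw [h2] at h1
      omega
    · right
      rw [h2] at h1
      omega
  have hsq : c χ * c χ = 1 := by
    rcases hcχ with ⟨h1, -⟩ | ⟨h1, -⟩ <;> rw [h1] <;> norm_num
  have hmem : χ ∉ Finset.univ.image t := by
    intro h1
    obtain ⟨i, -, hi⟩ := Finset.mem_image.1 h1
    have h2 := ht i
    rw [hi] at h2
    exact h i h2
  obtain ⟨s, hsdef⟩ : ∃ s, s = insert χ (Finset.univ.image t) := ⟨_, rfl⟩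
  have e1 : ∑ ψ ∈ s, c ψ * c ψ = 6 := by
    rw [hsdef, Finset.sum_insert hmem, Finset.sum_image fun i _ j _ h => hinj h]
    simp only [hc, hsq]
    simp [Fin.sum_univ_succ]
  have e2 : ∑ ψ ∈ s, (charDegree (ψ : G → ℂ) : ℤ) * c ψ = (charDegree (χ : G → ℂ) : ℤ) * c χ + 12 := by
    rw [hsdef, Finset.sum_insert hmem, Finset.sum_image fun i _ j _ h => hinj h]
    simp only [hc, ht]
    simp only [Fin.sum_univ_succ, _root_.Int.reduceNeg, _root_.Fin.isValue, _root_.Matrix.cons_val_zero, _root_.Nat.cast_one, _root_.mul_one, _root_.Matrix.cons_val_succ, _root_.Nat.cast_ofNat, _root_.mul_neg, _root_.Finset.univ_unique, _root_.Fin.default_eq_zero, _root_.Matrix.cons_val_fin_one, _root_.Finset.sum_const, _root_.Finset.card_singleton, _root_.Int.nsmul_eq_mul, _root_.one_mul, _root_.Int.reduceAdd]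
  have f1 : ∑ ψ ∈ sᶜ, c ψ * c ψ = 1 := by
    have := Finset.sum_add_sum_compl s (fun ψ => c ψ * c ψ)
    rw [e1, hs] at this
    linarith
  have f2 : ∑ ψ ∈ sᶜ, (charDegree (ψ : G → ℂ) : ℤ) * c ψ = -((charDegree (χ : G → ℂ) : ℤ) * c χ + 12) := by
    have := Finset.sum_add_sum_compl s (fun ψ : IrrCharacter G => (charDegree (ψ : G → ℂ) : ℤ) * c ψ)
    rw [e2, h0] at this
    linarith only [this]
  obtain ⟨ω, hω, hω0⟩ := Finset.exists_ne_zero_of_sum_ne_zero (by rw [f1]; norm_num : ∑ ψ ∈ sᶜ, c ψ * c ψ ≠ 0)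
  have hω1 : c ω ≠ 0 := fun h => hω0 (by rw [h]; rfl)
  have hoth : ∀ ψ ∈ sᶜ, ψ ≠ ω → c ψ = 0 := by
    intro ψ hψ hne
    by_contra h1
    have h2 : c ω * c ω + c ψ * c ψ ≤ 1 := by
      rw [← f1, ← Finset.sum_pair hne.symm (f := fun ψ => c ψ * c ψ)]
      refine Finset.sum_le_sum_of_subset_of_nonneg ?_ fun ψ _ _ => mul_self_nonneg _
      intro a ha
      rcases Finset.mem_insert.1 ha with rfl | ha
      · exact hω
      · rw [Finset.mem_singleton.1 ha]; exact hψ
    have h3 := mul_self_pos.2 h1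
    have h4 := mul_self_pos.2 hω1
    linarith
  have g2 : (charDegree (ω : G → ℂ) : ℤ) * c ω = -((charDegree (χ : G → ℂ) : ℤ) * c χ + 12) := by
    rw [← f2]
    symm
    apply Finset.sum_eq_single_of_mem ω hω
    intro ψ hψ hne
    rw [hoth ψ hψ hne, mul_zero]
  refine ⟨ω, ?_⟩
  rcases sixth h7 hs ω with h2 | h2 | h2
  · exact absurd h2 hω1
  · rw [h2] at g2
    rcases hcχ with ⟨h3, h4⟩ | ⟨h3, h4⟩ <;> rw [h3] at g2 <;> omega
  · rw [h2] at g2
    rcases hcχ with ⟨h3, h4⟩ | ⟨h3, h4⟩ <;> rw [h3] at g2 <;> omega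

/-- a superset of the degrees of `J₂` -/
def A1 : List ℕ := [1, 14, 21, 28, 35, 36, 42, 48, 56, 63, 70, 84, 90, 105, 112, 126, 140, 160, 168, 175, 189, 210, 224,
  225, 252, 280, 288, 300, 315, 336, 350, 378, 420, 448, 504, 525, 560, 630, 672, 700, 756]

/-- a superset of the degrees of `Aut J₂` -/
def A2 : List ℕ := A1 ++ (A1.filter (fun d => d != 1)).map (fun d => 2 * d)

/-- the test -/
def T (d : ℕ) : Bool := 604800 % d != 0 || ((d != 1) && Nat.blt d 14) || A1.contains d ||
  !([0, 1, 6].contains (d % 7)) || (d != 1 && d != 36 && d != 90 && d != 160 && d != 225 && (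
    (d % 7 == 1 && (604800 % (d + 12) != 0 || d + 12 == 27)) ||
    (d % 7 == 6 && (604800 % (d - 12) != 0 || (Nat.blt (d - 12) 14 && d != 13)))) || d == 27)

theorem chkT : (List.range 778).all T = true := by decide +kernel

/-- **The superset.** -/
theorem sup {d : ℕ} (hd : d ∈ charDegrees G) : d ∈ A1 := by
  have h14 : d ≠ 1 → 14 ≤ d := fourteen_le hd
  have hlt : d < 778 := by
    have h1 := H424.DegTools.sq_le hd (⊥ : Subgroup G) bot_le
    rw [Subgroup.index_bot, card_G] at h1
    by_contra hcon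
    push Not at hcon
    nlinarith
  have hall := (List.all_eq_true.1 chkT) d (List.mem_range.2 hlt)
  obtain ⟨χ, rfl⟩ := hd
  have hdv := dvd_card χ
  have hm := mod_seven χ
  have h27 : charDegree (χ : G → ℂ) ≠ 27 := ne_27
  have key : ∀ ω : IrrCharacter G, charDegree (ω : G → ℂ) ∣ 604800 ∧ charDegree (ω : G → ℂ) ≠ 27 ∧
      (charDegree (ω : G → ℂ) ≠ 1 → 14 ≤ charDegree (ω : G → ℂ)) := fun ω =>
    ⟨dvd_card ω, ne_27, fourteen_le ⟨ω, rfl⟩⟩
  have hoth := fun (h : ∀ i : Fin 5, charDegree (χ : G → ℂ) ≠ F5 i) h0 => other (χ := χ) h h0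
  generalize hD : charDegree (χ : G → ℂ) = d at *
  by_contra hA
  unfold T at hall
  simp only [Bool.or_eq_true, Bool.and_eq_true, bne_iff_ne, beq_iff_eq, List.contains_iff_mem, Bool.not_eq_true',
    ne_eq] at hall
  rcases hall with (((h | ⟨h, h'⟩) | h) | h) | (⟨⟨⟨⟨⟨h1, h2⟩, h3⟩, h4⟩, h5⟩, h6⟩ | h)
  · exact h (Nat.mod_eq_zero_of_dvd hdv)
  · have := h14 h
    have h2 : d < 14 := Nat.le_of_ble_eq_true h'
    omega
  · exact hA h
  · rcases hm with h1 | h1 | h1 <;> rw [h1] at h <;> simp at h
  · have hF : ∀ i : Fin 5, d ≠ F5 i := by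
      intro i
      fin_cases i
      exacts [h1, h2, h3, h4, h5]
    have h0 : d % 7 ≠ 0 := by
      rcases h6 with ⟨h6, -⟩ | ⟨h6, -⟩ <;> omega
    obtain ⟨ω, hω⟩ := hoth hF h0
    obtain ⟨k1, k2, k3⟩ := key ω
    have h14' := h14 h1
    rcases hω with ⟨q1, q2⟩ | ⟨q1, q2⟩ | q
    · rw [q2] at k1 k2 k3
      rcases h6 with ⟨h6, h7⟩ | ⟨h6, h7⟩
      · rcases h7 with h7 | h7
        · exact h7 (Nat.mod_eq_zero_of_dvd k1)
        · exact k2 h7
      · omega
    · have q3 : d - 12 = charDegree (ω : G → ℂ) := by omega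
      rcases h6 with ⟨h6, h7⟩ | ⟨h6, h7⟩
      · omega
      · rcases h7 with h7 | ⟨h7, h8⟩
        · rw [q3] at h7
          exact h7 (Nat.mod_eq_zero_of_dvd k1)
        · rw [q3] at h7
          have h9 : charDegree (ω : G → ℂ) < 14 := Nat.le_of_ble_eq_true h7
          have h10 : charDegree (ω : G → ℂ) ≠ 1 := by omega
          have := k3 h10
          omega
    · omega
  · exact h27 h

theorem check1 : H497.S8.chk2 1554 [2, 3, 5, 7] A1 [[36], [90], [160], [225]] = true := by decide +kernel

theorem check2 : H497.S8.chk2 1554 [2, 3, 5, 7] A2 [[36, 72], [90, 180], [160, 320], [225, 450]] = true := by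
  decide +kernel

theorem primes : ∀ p ∈ [2, 3, 5, 7], p.Prime := by
  intro p hp
  simp only [List.mem_cons, List.not_mem_nil, or_false] at hp
  rcases hp with rfl | rfl | rfl | rfl <;> norm_num

variable {X : Type v} [Group X]

/-- the degrees of `J₂` are those of the group on 100 points -/
theorem cd_eq (hX : Spor.IsoJ2 X) : charDegrees X = charDegrees G := by
  obtain ⟨e⟩ := hX
  obtain ⟨f⟩ := Cfsg.Agent.J2.HundredGens.J2_iso Cfsg.Agent.S1619.result.2.2.2
  exact H424.DegTools.charDegrees_congr (e.trans f)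

theorem mem_four (hX : Spor.IsoJ2 X) : ∀ n ∈ [36, 90, 160, 225], n ∈ charDegrees X := by
  obtain ⟨t, ht⟩ := five
  rw [cd_eq hX]
  intro n hn
  simp only [List.mem_cons, List.not_mem_nil, or_false] at hn
  rcases hn with rfl | rfl | rfl | rfl
  · exact ⟨t 1, ht 1⟩
  · exact ⟨t 2, ht 2⟩
  · exact ⟨t 3, ht 3⟩
  · exact ⟨t 4, ht 4⟩

/-- **SOLV for `J₂`.** -/
theorem solv (hX : Spor.IsoJ2 X) (D : Set ℕ) (hD : H704.S8.Deg 2 X D) : H704.S8.Solv.{u} D := by
  have hcard : Nat.card X = 604800 := by
    obtain ⟨e⟩ := hX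
    obtain ⟨f⟩ := Cfsg.Agent.J2.HundredGens.J2_iso Cfsg.Agent.S1619.result.2.2.2
    rw [Nat.card_congr (e.trans f).toEquiv]
    exact card_G
  have hfin : Finite X := Nat.finite_of_card_ne_zero (by rw [hcard]; norm_num)
  have hspor : IsSporadicGroup X := by simp only [IsSporadicGroup, hX, true_or, or_true]
  have hsimple : IsSimpleGroup X := by
    obtain ⟨e⟩ := hX
    obtain ⟨f⟩ := Cfsg.Agent.J2.HundredGens.J2_iso Cfsg.Agent.S1619.result.2.2.2
    have := Cfsg.Agent.SporadicA.J2Hundred.simple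
    exact (e.trans f).isSimpleGroup
  have hna : ¬ IsMulCommutative X := by
    intro hc
    have h1 := (Group.is_simple_iff_prime_card (α := X)).1 hsimple
    rw [hcard] at h1
    norm_num at h1
  have hcen : Subgroup.center X = ⊥ := by
    have hn : (Subgroup.center X).Normal := inferInstance
    rcases hn.eq_bot_or_eq_top with h1 | h1
    · exact h1
    · exfalso
      exact hna ⟨⟨fun a b => ((Subgroup.mem_center_iff.1 (by rw [h1]; trivial : b ∈ Subgroup.center X)) a)⟩⟩
  have hout : (MulAut.conj : X →* MulAut X).range.index ≤ 2 := Cfsg.Agent.H489.card_out_sporadic hspor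
  have h4 := mem_four hX
  have hsub : ∀ d ∈ charDegrees X, d ∈ A1 := fun d hd => sup (by rwa [← cd_eq hX])
  rcases hD with rfl | ⟨-, rfl⟩
  · have hK : ∀ l ∈ [[36], [90], [160], [225]], ∃ n ∈ l, n ∈ charDegrees X := by
      intro l hl
      simp only [List.mem_cons, List.not_mem_nil, or_false] at hl
      rcases hl with rfl | rfl | rfl | rfl
      · exact ⟨36, by simp, h4 _ (by simp)⟩
      · exact ⟨90, by simp, h4 _ (by simp)⟩
      · exact ⟨160, by simp, h4 _ (by simp)⟩
      · exact ⟨225, by simp, h4 _ (by simp)⟩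
    intro Y _ _ hs hY
    exact H497.S8.solv_of_chk2 1554 [2, 3, 5, 7] A1 [[36], [90], [160], [225]] primes hsub hK check1 hs hY
  · have hA : ∀ d ∈ charDegrees (MulAut X), d ∈ A2 := by
      intro d hd
      unfold A2
      rw [List.mem_append]
      rcases H858.S8.deg_aut_le_two hcen hout hd with h1 | ⟨χ, χ', f, hne, h1, h2, rfl⟩
      · exact Or.inl (hsub d h1)
      · right
        rw [List.mem_map]
        refine ⟨f, List.mem_filter.2 ⟨hsub f ?_, ?_⟩, rfl⟩
        · exact ⟨χ, by
            have h3 := Cfsg.Agent.M23Order.Base.dg_eq χ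
            rw [h1] at h3
            exact_mod_cast h3.symm⟩
        · rw [bne_iff_ne]
          rintro rfl
          have hna' : ¬ ∀ a b : X, a * b = b * a := fun h => hna ⟨⟨h⟩⟩
          have e1 := H681.SimpleChar.eq_one_of_degree_one hna' χ.2 (by rw [h1]; norm_num)
          have e2 := H681.SimpleChar.eq_one_of_degree_one hna' χ'.2 (by rw [h2]; norm_num)
          exact hne (Subtype.ext (e1.trans e2.symm))
    have hK : ∀ l ∈ [[36, 72], [90, 180], [160, 320], [225, 450]], ∃ n ∈ l, n ∈ charDegrees (MulAut X) := by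
      have key : ∀ n ∈ [36, 90, 160, 225], ∃ k ∈ [n, 2 * n], k ∈ charDegrees (MulAut X) := by
        intro n hn
        rcases H858.S8.mem_aut_or hcen hout (h4 n hn) with h1 | h1
        · exact ⟨n, by simp, h1⟩
        · exact ⟨2 * n, by simp, h1⟩
      intro l hl
      simp only [List.mem_cons, List.not_mem_nil, or_false] at hl
      rcases hl with rfl | rfl | rfl | rfl
      · exact key 36 (by simp)
      · exact key 90 (by simp)
      · exact key 160 (by simp)
      · exact key 225 (by simp)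
    intro Y _ _ hs hY
    exact H497.S8.solv_of_chk2 1554 [2, 3, 5, 7] A2 [[36, 72], [90, 180], [160, 320], [225, 450]] primes hA hK check2 hs hY

end Cfsg.Agent.H91.S8.JTwo
end

-- part: H893/S8/JTwoNoInv
section
/-!
# S4908, `J₂` : the piece OUT, local part (helper893)

An irreducible character of degree 14 of `J₂` is not invariant under the outer automorphism: the value at the central
involutions is `-2` (helper409's conditions), the outer automorphism interchanges the two classes of elements of order 10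
with centralizers of order 10 and the two classes of elements of order 5 with centralizers of order 50; the values `q`,
`y` would be integers with `q ≡ -2 (mod 5)`, `q ≡ y (mod 2)`, `y ≡ -1 (mod 5)` and `q² / 5 + y² / 25 ≤ 1`.
-/

set_option autoImplicit false
set_option maxRecDepth 100000

open Cfsg Cfsg.Agent.Characters Cfsg.Agent.H732.VZ Cfsg.Agent.H604.OZ

namespace Cfsg.Agent.H893.S8.JTwoOut

open Cfsg.Agent.H1 Cfsg.Agent.SporadicA.J2Hundred Cfsg.Agent.SporadicA.J2Data Cfsg.Agent.SporadicA.PermTab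
  Cfsg.Agent.J2.HundredGens Cfsg.Agent.H1.J2Cls
  Cfsg.Agent.H1.J2Cover Cfsg.Agent.H121.OZ.JTwoCls Cfsg.Agent.H121.OZ.JTwo Cfsg.Agent.H121.OZ

variable {χ : IrrCharacter G}

/-- **Local conditions** (the proof of helper409, with the value named). -/
theorem key (hne : (χ : G → ℂ) ≠ 1) : ∃ v : ℤ, (χ : G → ℂ) (gw (rL (1 : Fin 21))) = v ∧
    |v| < (charDegree (χ : G → ℂ) : ℤ) ∧
    (16 : ℤ) ∣ (charDegree (χ : G → ℂ) : ℤ) - v ∧ 0 ≤ (charDegree (χ : G → ℂ) : ℤ) + 3 * v ∧
    (charDegree (χ : G → ℂ) : ℤ) ∣ 315 * v := by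
  classical
  have hs := simple
  have hcf := Core.isIrr_isClassFunction χ.2
  have hχ := Core.isIrr_isCharacter χ.2
  have h1 : (χ : G → ℂ) 1 = (charDegree (χ : G → ℂ) : ℂ) := (H686.CharKit.charDegree_irr χ).symm
  obtain ⟨o8, -⟩ := rep 5
  have o8' : orderOf (gw (rL (5 : Fin 21))) = 8 := by rw [o8]; decide +kernel
  set e : G := gw (rL (5 : Fin 21)) with he
  have hratA : ∀ m : ℕ, m.Coprime (Nat.card G) → IsConj (gw wa ^ m) (gw wa) := fun m hm =>
    conj_four (by rw [order_pow hm, oa]) oa
  have hratE : ∀ m : ℕ, m.Coprime (Nat.card G) → IsConj (e ^ m) e := fun m hm =>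
    conj_of_order 5 (by decide +kernel) (by rw [order_pow hm, o8]) o8
  obtain ⟨w, hw⟩ := H849.OZ.rat (χ := χ) hratA
  obtain ⟨u, hu⟩ := H849.OZ.rat (χ := χ) hratE
  obtain ⟨v, hv, hlt, hv4⟩ := SmallSimple.InvolColumn.exists_int commutator_eq χ.2 hne (t := gw wa ^ 2)
    (by rw [← pow_mul]; exact a4) a2
  have hdvd := H849.OZ.rat_dvd_deg (χ := χ) (gw wa ^ 2) hv
  rw [H409.S8.JTwo.index_z] at hdvd
  have hval : ∀ {g h : G}, IsConj g h → (χ : G → ℂ) h = (χ : G → ℂ) g := fun h =>
    (Core.classFunction_apply_eq hcf h).symm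
  generalize charDegree (χ : G → ℂ) = d at *
  -- `C₄ × C₄`
  obtain ⟨k, hk⟩ := sum_pow_pow hχ ab_comm oa ob
  have hterm : ∀ i j : Fin 4, (χ : G → ℂ) (gw wa ^ (i : ℕ) * gw wb ^ (j : ℕ)) =
      (((if (i : ℕ) % 2 = 0 ∧ (j : ℕ) % 2 = 0 then (if (i : ℕ) = 0 ∧ (j : ℕ) = 0 then (d : ℤ) else v) else w : ℤ)) : ℂ) := by
    intro i j
    have h2 := ab_pow i.2 j.2
    by_cases h3 : (i : ℕ) % 2 = 0 ∧ (j : ℕ) % 2 = 0
    · rw [if_pos h3]
      by_cases h4 : (i : ℕ) = 0 ∧ (j : ℕ) = 0
      · rw [if_pos h4, h4.1, h4.2, pow_zero, pow_zero, one_mul, h1]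
        norm_num
      · rw [if_neg h4, hval (h2.1 h3 h4), hv]
    · rw [if_neg h3, hval (h2.2 h3), hw]
  rw [Finset.sum_congr rfl fun i _ => Finset.sum_congr rfl fun j _ => hterm i j] at hk
  have hk' : (d + 3 * v + 12 * w : ℤ) = 16 * k := by
    have h2 : (∑ i : Fin 4, ∑ j : Fin 4,
        (if (i : ℕ) % 2 = 0 ∧ (j : ℕ) % 2 = 0 then (if (i : ℕ) = 0 ∧ (j : ℕ) = 0 then (d : ℤ) else v) else w : ℤ)) =
        d + 3 * v + 12 * w := by
      simp only [Fin.sum_univ_four, _root_.Fin.val_eq_zero_iff, _root_.Fin.isValue, _root_.Fin.coe_ofNat_eq_mod, _root_.Nat.zero_mod, _root_.and_true, _root_.Nat.one_mod, _root_.Nat.mod_succ, _root_.one_ne_zero, _root_.and_false, ↓ _root_.reduceIte, _root_.Nat.reduceMod, _root_.Nat.mod_self, _root_.Fin.reduceEq]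
      ring
    rw [← h2]
    have h3 : ((4 : ℕ) : ℂ) * ((4 : ℕ) : ℂ) * (k : ℂ) = ((16 * k : ℤ) : ℂ) := by push_cast; ring
    rw [h3] at hk
    exact_mod_cast hk
  -- the four-group
  have o2a : orderOf (gw wa ^ 2) = 2 := by
    rw [orderOf_pow' _ (by norm_num), oa]; norm_num
  have o2b : orderOf (gw wb ^ 2) = 2 := by
    rw [orderOf_pow' _ (by norm_num), ob]; norm_num
  obtain ⟨k2, hk2⟩ := sum_pow_pow hχ (ab_comm.pow_pow 2 2) o2a o2b
  have hpos : 0 ≤ (d : ℤ) + 3 * v := by
    have e00 : (χ : G → ℂ) ((gw wa ^ 2) ^ 0 * (gw wb ^ 2) ^ 0) = d := by rw [pow_zero, pow_zero, one_mul, h1]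
    have e10 : (χ : G → ℂ) ((gw wa ^ 2) ^ 1 * (gw wb ^ 2) ^ 0) = v := by
      rw [pow_zero, pow_one, mul_one, hv]
    have e01 : (χ : G → ℂ) ((gw wa ^ 2) ^ 0 * (gw wb ^ 2) ^ 1) = v := by
      have h2 := (ab_pow (i := 0) (j := 2) (by norm_num) (by norm_num)).1 (by decide) (by decide)
      rw [pow_zero, one_mul] at h2
      rw [pow_zero, pow_one, one_mul, hval h2, hv]
    have e11 : (χ : G → ℂ) ((gw wa ^ 2) ^ 1 * (gw wb ^ 2) ^ 1) = v := by
      have h2 := (ab_pow (i := 2) (j := 2) (by norm_num) (by norm_num)).1 (by decide) (by decide)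
      rw [pow_one, pow_one, hval h2, hv]
    rw [Fin.sum_univ_two, Fin.sum_univ_two, Fin.sum_univ_two] at hk2
    change (χ : G → ℂ) ((gw wa ^ 2) ^ 0 * (gw wb ^ 2) ^ 0) + (χ : G → ℂ) ((gw wa ^ 2) ^ 0 * (gw wb ^ 2) ^ 1) +
      ((χ : G → ℂ) ((gw wa ^ 2) ^ 1 * (gw wb ^ 2) ^ 0) + (χ : G → ℂ) ((gw wa ^ 2) ^ 1 * (gw wb ^ 2) ^ 1)) = _ at hk2
    rw [e00, e01, e10, e11] at hk2
    have h3 : ((d : ℤ) + 3 * v : ℤ) = 4 * k2 := by
      have h4 : (((d : ℤ) + 3 * v : ℤ) : ℂ) = ((4 * k2 : ℤ) : ℂ) := by
        push_cast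
        push_cast at hk2
        linear_combination hk2
      exact_mod_cast h4
    rw [h3]
    (clear * -; positivity)
  -- `C₈`
  obtain ⟨l, hl⟩ := sum_pow_pow hχ (Commute.one_right e) o8' (orderOf_one)
  have c2 : IsConj (gw wa) (e ^ 2) := conj_four oa (by
    rw [orderOf_pow' e (by norm_num), o8']; norm_num)
  have c4 : IsConj (gw wa ^ 2) (e ^ 4) := by
    have h2 := H849.OZ.isConj_pow c2 2
    rwa [← pow_mul] at h2
  have c6 : IsConj (gw wa) (e ^ 6) := conj_four oa (by
    rw [orderOf_pow' e (by norm_num), o8']; norm_num)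
  have codd : ∀ m : ℕ, m.Coprime 8 → IsConj e (e ^ m) := fun m hm =>
    conj_of_order 5 (by decide +kernel) o8 (by
      rw [Nat.Coprime.orderOf_pow (by rw [o8']; exact hm.symm), o8])
  have hl' : (d + v + 2 * w + 4 * u : ℤ) = 8 * l := by
    simp only [one_pow, mul_one, Finset.sum_const, Finset.card_univ, Fintype.card_fin, one_smul] at hl
    rw [Fin.sum_univ_eight] at hl
    have q0 : (χ : G → ℂ) (e ^ ((0 : Fin 8) : ℕ)) = d := by
      rw [show ((0 : Fin 8) : ℕ) = 0 from rfl, pow_zero, h1]
    have q1 : (χ : G → ℂ) (e ^ ((1 : Fin 8) : ℕ)) = u := by rw [hval (codd _ (by decide)), hu]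
    have q2 : (χ : G → ℂ) (e ^ ((2 : Fin 8) : ℕ)) = w := by rw [← hw]; exact hval c2
    have q3 : (χ : G → ℂ) (e ^ ((3 : Fin 8) : ℕ)) = u := by rw [hval (codd _ (by decide)), hu]
    have q4 : (χ : G → ℂ) (e ^ ((4 : Fin 8) : ℕ)) = v := by rw [← hv]; exact hval c4
    have q5 : (χ : G → ℂ) (e ^ ((5 : Fin 8) : ℕ)) = u := by rw [hval (codd _ (by decide)), hu]
    have q6 : (χ : G → ℂ) (e ^ ((6 : Fin 8) : ℕ)) = w := by rw [← hw]; exact hval c6
    have q7 : (χ : G → ℂ) (e ^ ((7 : Fin 8) : ℕ)) = u := by rw [hval (codd _ (by decide)), hu]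
    rw [q0, q1, q2, q3, q4, q5, q6, q7] at hl
    have h3 : ((d + v + 2 * w + 4 * u : ℤ) : ℂ) = ((8 * l : ℤ) : ℂ) := by
      push_cast
      push_cast at hl
      linear_combination hl
    exact_mod_cast h3
  -- parity of `u`
  have hu2 : (2 : ℤ) ∣ u - d := by
    obtain ⟨M, hM⟩ := Blocks.ExistsModular.exists_isPModular Nat.prime_two
    have h3 := H849.OZ.av_sub_mem (χ := χ) Nat.prime_two hM.2.1.isPrime hM.2.2 e (j := 0) (n := 3) (by
      rw [pow_zero, one_pow, show 2 ^ 3 = 8 from rfl, ← o8', pow_orderOf_eq_one])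
    rw [pow_zero] at h3
    have h4 : av χ e - av χ (1 : G) = ((u - d : ℤ) : AlgInt) := by
      apply Subtype.ext
      rw [show ((av χ e - av χ (1 : G) : AlgInt) : ℂ) = (av χ e : ℂ) - (av χ (1 : G) : ℂ) from rfl, av_coe, av_coe, hu, h1]
      push_cast
      rfl
    rwa [h4, int_mem_iff Nat.prime_two hM.2.1.isPrime hM.2.2] at h3
  refine ⟨v, by rw [← H409.S8.JTwo.a_sq]; exact hv, hlt, ?_, hpos, by exact_mod_cast hdvd⟩
  (clear * - hk' hl' hu2; solve | lia | omega)


/-! ### the outer automorphism -/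

/-- conjugation by the odd automorphism of the graph -/
def sg : MulAut G := Cfsg.Agent.H269.CubeJ2.cj pT pT_mem

theorem pT_val (i : Fin 100) : ((pT i : Fin 100) : ℕ) = lk tT i := mkPerm_val tT tT iT i

theorem sg_conj {w w' g : List ℕ} (h : allB (fun i => Nat.beq (lk tT (run w i))
    (run g (run w' (run g.reverse (lk tT i))))) 100 = true) : IsConj (gw w') (sg (gw w)) := by
  refine isConj_iff.2 ⟨gw g, Subtype.ext ?_⟩
  show pw g * pw w' * (pw g)⁻¹ = pT * pw w * pT⁻¹
  symm
  rw [mul_inv_eq_iff_eq_mul, ← pw_reverse]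
  ext i
  rw [Equiv.Perm.mul_apply, pT_val, pw_val, Equiv.Perm.mul_apply, Equiv.Perm.mul_apply, Equiv.Perm.mul_apply, pw_val,
    pw_val, pw_val, pT_val]
  exact Nat.eq_of_beq_eq_true ((allB_iff _ _).1 h i i.2)

/-- the outer automorphism interchanges the classes 19 and 20 -/
theorem sg5 : IsConj (gw (rL (20 : Fin 21))) (sg (gw (rL (19 : Fin 21)))) :=
  sg_conj (g := [2, 3, 1, 2, 3, 4, 2, 3, 1, 2, 3, 4, 2, 3, 1, 0, 1]) (by decide +kernel)

/-- the outer automorphism interchanges the classes 15 and 17 -/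
theorem sg10 : IsConj (gw (rL (17 : Fin 21))) (sg (gw (rL (15 : Fin 21)))) :=
  sg_conj (g := [3, 4, 0, 1, 2, 3, 2, 1, 0, 1, 2, 3, 1]) (by decide +kernel)

/-- the square of an element of order 10 -/
theorem sq10 : gw (rL (15 : Fin 21)) ^ 2 = gw (rL (19 : Fin 21)) := by
  rw [pow_two_gw]
  exact chk_eq (by decide +kernel)

/-- the involution in an element of order 10 -/
theorem pow10 : IsConj (gw (rL (1 : Fin 21))) (gw (rL (15 : Fin 21)) ^ 5) := by
  refine isConj_iff.2 ⟨gw [1, 0, 1, 2, 3, 4, 1, 2, 3, 2, 1, 0, 1], ?_⟩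
  rw [mul_inv_eq_iff_eq_mul, show 5 = 2 * 2 + 1 from rfl, pow_succ, pow_mul, pow_two_gw, pow_two_gw, ← gw_append,
    ← gw_append, ← gw_append]
  exact chk_eq (by decide +kernel)

/-! ### rational values -/

/-- The value at `y` is an integer if the generators of `⟨y⟩` have the same value. -/
theorem rat' {H : Type*} [Group H] [Finite H] {ψ : IrrCharacter H} {y : H}
    (hy : ∀ m : ℕ, m.Coprime (Nat.card H) → (ψ : H → ℂ) (y ^ m) = (ψ : H → ℂ) y) : ∃ k : ℤ, (ψ : H → ℂ) y = k := by
  have hint := GaloisBasic.isIntegral_apply (Core.isIrr_isCharacter ψ.2) y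
  refine GaloisBasic.exists_int_of_isIntegral hint (GaloisBasic.exists_rat_of_forall_ringEquiv hint.tower_top ?_)
  intro σ
  obtain ⟨m, hm, hσ⟩ := GaloisBasic.exists_pow_of_ringEquiv (G := H) σ
  rw [hσ _ (Core.isIrr_isCharacter ψ.2)]
  exact hy m hm

/-- The congruence of rational values. -/
theorem congr' {H : Type*} [Group H] [Finite H] {ψ : IrrCharacter H} {r : ℕ} (hr : r.Prime) {g : H} {j n : ℕ}
    (hj : (g ^ j) ^ (r ^ n) = g ^ (r ^ n)) {a b : ℤ} (ha : (ψ : H → ℂ) g = a) (hb : (ψ : H → ℂ) (g ^ j) = b) :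
    (r : ℤ) ∣ a - b := by
  obtain ⟨M, hM⟩ := Blocks.ExistsModular.exists_isPModular hr
  have h1 := H849.OZ.av_sub_mem (χ := ψ) hr hM.2.1.isPrime hM.2.2 g hj
  have h2 : av ψ g - av ψ (g ^ j) = ((a - b : ℤ) : AlgInt) := by
    apply Subtype.ext
    rw [show ((av ψ g - av ψ (g ^ j) : AlgInt) : ℂ) = (av ψ g : ℂ) - (av ψ (g ^ j) : ℂ) from rfl, av_coe, av_coe, ha, hb]
    push_cast
    rfl
  rwa [h2, int_mem_iff hr hM.2.1.isPrime hM.2.2] at h1

/-- Four classes in the norm of an irreducible character. -/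
theorem norm4 {H : Type*} [Group H] [Finite H] {ψ : IrrCharacter H} {ι : Type*} (s : Finset ι) (r : ι → H)
    (hr : ∀ i ∈ s, ∀ j ∈ s, IsConj (r i) (r j) → i = j) (k : ι → ℤ) (hk : ∀ i ∈ s, (ψ : H → ℂ) (r i) = k i) :
    ∑ i ∈ s, (k i : ℝ) ^ 2 / (cent (r i) : ℝ) ≤ 1 := by
  classical
  have := Fintype.ofFinite H
  let K : ι → Finset H := fun j => Finset.univ.filter fun g => IsConj (r j) g
  have hK : ∀ j g, g ∈ K j ↔ IsConj (r j) g := fun j g => by simp only [K, _root_.isConj_iff, _root_.Finset.univ_filter_exists, _root_.Finset.mem_image, _root_.Finset.mem_univ, _root_.true_and]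
  have h1 : ∀ j, (K j).card * cent (r j) = Nat.card H := fun j => H849.OZ.card_class (r j)
  have hN : (0 : ℝ) < Nat.card H := by exact_mod_cast Nat.card_pos
  have hc : ∀ j, (0 : ℝ) < cent (r j) := fun j => by
    have : 0 < cent (r j) := by
      rcases Nat.eq_zero_or_pos (cent (r j)) with h | h
      · have h2 := h1 j
        rw [h, mul_zero] at h2
        exact absurd h2.symm Nat.card_pos.ne'
      · exact h
    exact_mod_cast this
  have h2 : ∑ g ∈ s.biUnion K, Complex.normSq ((ψ : H → ℂ) g) ≤ ∑ g : H, Complex.normSq ((ψ : H → ℂ) g) :=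
    Finset.sum_le_sum_of_subset_of_nonneg (Finset.subset_univ _) fun _ _ _ => Complex.normSq_nonneg _
  rw [Finset.sum_biUnion, H695.OneZero.sum_normSq] at h2
  · have h3 : ∀ i ∈ s, ∑ g ∈ K i, Complex.normSq ((ψ : H → ℂ) g) = (Nat.card H : ℝ) * ((k i : ℝ) ^ 2 / (cent (r i) : ℝ)) := by
      intro i hi
      have h4 : ∀ g ∈ K i, Complex.normSq ((ψ : H → ℂ) g) = (k i : ℝ) ^ 2 := by
        intro g hg
        rw [← Core.classFunction_apply_eq (Core.isIrr_isClassFunction ψ.2) ((hK i g).1 hg), hk i hi, Complex.normSq_intCast,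
          pow_two]
      rw [Finset.sum_congr rfl h4, Finset.sum_const, nsmul_eq_mul]
      have h5 : ((K i).card : ℝ) * (cent (r i) : ℝ) = (Nat.card H : ℝ) := by exact_mod_cast h1 i
      rw [← h5]
      field_simp [(hc i).ne']
    rw [Finset.sum_congr rfl h3, ← Finset.mul_sum, ← Nat.card_eq_fintype_card] at h2
    have h6 : (Nat.card H : ℝ) * ∑ i ∈ s, (k i : ℝ) ^ 2 / (cent (r i) : ℝ) ≤ (Nat.card H : ℝ) * 1 := by
      rw [mul_one]; exact h2
    exact le_of_mul_le_mul_left h6 hN
  · intro i hi j hj hij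
    rw [Function.onFun, Finset.disjoint_left]
    intro g hg hg'
    exact hij (hr i hi j hj (((hK i g).1 hg).trans ((hK j g).1 hg').symm))

/-! ### invariant characters of degree 14 -/

/-- the powers of the element `r i` for the classes of its type -/
theorem pow_val_eq (i i' : Fin 21) (hi : ∀ j : Fin 21, ov j = ov i → cv j = cv i → j = i ∨ j = i')
    (hval : (χ : G → ℂ) (gw (rL i')) = (χ : G → ℂ) (gw (rL i))) (m : ℕ) (hm : m.Coprime (Nat.card G)) :
    (χ : G → ℂ) (gw (rL i) ^ m) = (χ : G → ℂ) (gw (rL i)) := by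
  obtain ⟨j, h1, h2, h3⟩ := type (gw (rL i) ^ m)
  rw [order_pow hm, (rep i).1] at h2
  rw [cent_pow hm, (rep i).2] at h3
  rw [← Core.classFunction_apply_eq (Core.isIrr_isClassFunction χ.2) h1]
  rcases hi j h2.symm h3.symm with rfl | rfl
  · rfl
  · exact hval

/-- **No invariant character of degree 14.** -/
theorem no_inv (hd : charDegree (χ : G → ℂ) = 14) (hinv : ∀ (b : MulAut G) (x : G), (χ : G → ℂ) (b x) = (χ : G → ℂ) x) :
    False := by
  classical
  have hne : (χ : G → ℂ) ≠ 1 := by
    intro h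
    have h2 := H686.CharKit.charDegree_irr χ
    rw [hd, h] at h2
    norm_num at h2
  have h1 : (χ : G → ℂ) 1 = ((14 : ℤ) : ℂ) := by
    rw [← H686.CharKit.charDegree_irr χ, hd]
    norm_num
  obtain ⟨v, hv, hlt, h16, h0, -⟩ := key hne
  rw [hd] at hlt h16 h0
  rw [abs_lt] at hlt
  push_cast at hlt h16 h0
  have hv2 : v = -2 := by omega
  subst hv2
  have hcf := Core.isIrr_isClassFunction χ.2
  have e5 : (χ : G → ℂ) (gw (rL (20 : Fin 21))) = (χ : G → ℂ) (gw (rL (19 : Fin 21))) := by
    rw [Core.classFunction_apply_eq hcf sg5, hinv]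
  have e10 : (χ : G → ℂ) (gw (rL (17 : Fin 21))) = (χ : G → ℂ) (gw (rL (15 : Fin 21))) := by
    rw [Core.classFunction_apply_eq hcf sg10, hinv]
  have p5 := pow_val_eq (χ := χ) 19 20 (by decide +kernel) e5
  have p10 := pow_val_eq (χ := χ) 15 17 (by decide +kernel) e10
  obtain ⟨y, hy⟩ := rat' (ψ := χ) p5
  obtain ⟨q, hq⟩ := rat' (ψ := χ) p10
  have o19 : gw (rL (19 : Fin 21)) ^ 5 = 1 := by
    have h := pow_orderOf_eq_one (gw (rL (19 : Fin 21)))
    rw [(rep 19).1] at h
    exact h
  have o15 : gw (rL (15 : Fin 21)) ^ 10 = 1 := by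
    have h := pow_orderOf_eq_one (gw (rL (15 : Fin 21)))
    rw [(rep 15).1] at h
    exact h
  -- modulo 5
  have c1 : (5 : ℤ) ∣ y - 14 := by
    have := congr' (ψ := χ) (r := 5) (by norm_num) (g := gw (rL (19 : Fin 21))) (j := 0) (n := 1)
      (by rw [pow_zero, one_pow, pow_one, o19]) hy (by rw [pow_zero]; exact h1)
    exact_mod_cast this
  have c2 : (5 : ℤ) ∣ q - (-2) := by
    have := congr' (ψ := χ) (r := 5) (by norm_num) (g := gw (rL (15 : Fin 21))) (j := 5) (n := 1)
      (by rw [← pow_mul, pow_one, show 5 * 5 = 10 * 2 + 5 from rfl, pow_add, pow_mul, o15, one_pow, one_mul]) hq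
      (by rw [← Core.classFunction_apply_eq hcf pow10]; exact hv)
    exact_mod_cast this
  -- modulo 2
  have c3 : (2 : ℤ) ∣ q - y := by
    have := congr' (ψ := χ) (r := 2) (by norm_num) (g := gw (rL (15 : Fin 21))) (j := 6) (n := 1)
      (by rw [← pow_mul, pow_one, show 6 * 2 = 10 + 2 from rfl, pow_add, o15, one_mul]) hq (b := y) (by
        rw [show 6 = 2 * 3 from rfl, pow_mul, sq10, ← hy]
        have h2 : gw (rL (19 : Fin 21)) ^ 3 = gw (rL (19 : Fin 21)) ^ 13 := by
          rw [show 13 = 5 * 2 + 3 from rfl, pow_add, pow_mul, o19, one_pow, one_mul]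
        rw [h2]
        exact p5 13 (by rw [card_G]; decide))
    exact_mod_cast this
  -- the norm
  have hn := norm4 (ψ := χ) ({15, 17, 19, 20} : Finset (Fin 21)) (fun i => gw (rL i)) (fun i _ j _ h => classes.2 i j h)
    (fun i => if i = 15 ∨ i = 17 then q else y) (by
      intro i hi
      simp only [Finset.mem_insert, Finset.mem_singleton] at hi
      rcases hi with rfl | rfl | rfl | rfl
      · exact hq
      · exact e10.trans hq
      · exact hy
      · exact e5.trans hy)
  simp only [(rep _).2] at hn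
  have hs : ∑ i ∈ ({15, 17, 19, 20} : Finset (Fin 21)), (((if i = 15 ∨ i = 17 then q else y : ℤ) : ℝ) ^ 2 / (cv i : ℝ)) =
      2 * (q : ℝ) ^ 2 / 10 + 2 * (y : ℝ) ^ 2 / 50 := by
    have v15 : cv ((15 : Fin 21) : ℕ) = 10 := by decide +kernel
    have v17 : cv ((17 : Fin 21) : ℕ) = 10 := by decide +kernel
    have v19 : cv ((19 : Fin 21) : ℕ) = 50 := by decide +kernel
    have v20 : cv ((20 : Fin 21) : ℕ) = 50 := by decide +kernel
    rw [Finset.sum_insert (by decide), Finset.sum_insert (by decide), Finset.sum_insert (by decide),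
      Finset.sum_singleton, v15, v17, v19, v20, if_pos (by decide), if_pos (by decide), if_neg (by decide),
      if_neg (by decide)]
    push_cast
    ring
  rw [hs] at hn
  have h5 : 5 * q ^ 2 + y ^ 2 ≤ 25 := by
    have : (5 * (q : ℝ) ^ 2 + (y : ℝ) ^ 2) ≤ 25 := by linarith only [hn]
    exact_mod_cast this
  have hq2 : q ≤ 2 ∧ -2 ≤ q := ⟨by nlinarith only [h5], by nlinarith only [h5]⟩
  have hy2 : y ≤ 5 ∧ -5 ≤ y := ⟨by nlinarith only [h5], by nlinarith only [h5]⟩
  have hq3 : q = -2 := by omega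
  subst hq3
  have : y = 4 ∨ y = -1 := by (clear * - c1 hy2; omega)
  rcases this with rfl | rfl <;> omega

end Cfsg.Agent.H893.S8.JTwoOut
end

-- part: H893/S8/JTwoOutOf
section
/-!
# S4908, `J₂` : the piece OUT, assembly from the degree 14 (helper893)
-/

set_option autoImplicit false

namespace Cfsg.Agent.H893.S8.JTwoOut

open Cfsg Cfsg.Spor Subgroup
open Cfsg.Agent.SporadicA.J2Hundred (G simple card_G)
open Cfsg.Agent.H704.S8 (OutRow3)

universe v

theorem center_G : Subgroup.center G = ⊥ := by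
  have hs := simple
  have hn : (Subgroup.center G).Normal := inferInstance
  rcases hn.eq_bot_or_eq_top with h | h
  · exact h
  · exfalso
    have hcomm : ∀ a b : G, a * b = b * a := fun a b => by
      have : b ∈ Subgroup.center G := by rw [h]; trivial
      exact Subgroup.mem_center_iff.1 this a
    let _ : CommGroup G := { (inferInstance : Group G) with mul_comm := hcomm }
    have h1 : (Nat.card G).Prime := IsSimpleGroup.prime_card
    rw [card_G] at h1
    norm_num at h1

theorem index_G : (MulAut.conj : G →* MulAut G).range.index = 2 := by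
  obtain ⟨f⟩ := Cfsg.Agent.J2.HundredGens.J2_iso Cfsg.Agent.S1619.result.2.2.2
  rw [← H55.OutGen.card_out_eq_index, ← H55.OutGen.card_out_congr f]
  exact S2066.result

/-- **The degrees differ**, given the degree 14. -/
theorem ne_of (h14 : 14 ∈ charDegrees G) : charDegrees G ≠ charDegrees (MulAut G) := by
  intro heq
  have : Finite G := Nat.finite_of_card_ne_zero (by rw [card_G]; norm_num)
  rw [heq] at h14
  rcases H469.S8.deg_aut_inv center_G index_G h14 with ⟨θ, h1, hinv⟩ | ⟨f, hf, h2⟩
  · refine no_inv (χ := θ) ?_ hinv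
    have h2 := H686.CharKit.charDegree_irr θ
    rw [h1] at h2
    exact_mod_cast h2
  · have h3 : f = 7 := by omega
    subst h3
    have := H409.S8.JTwo.fourteen_le hf (by norm_num)
    omega

/-- **OUT for `J₂`**, given the degree 14. -/
theorem out_of (h14 : 14 ∈ charDegrees G) {X : Type v} [Group X] (h : IsoJ2 X) : OutRow3 2 X := by
  obtain ⟨e⟩ := h
  obtain ⟨f⟩ := Cfsg.Agent.J2.HundredGens.J2_iso Cfsg.Agent.S1619.result.2.2.2
  refine ⟨?_, fun _ => ?_⟩
  · rw [← H55.OutGen.card_out_eq_index, H55.OutGen.card_out_congr (e.trans f), H55.OutGen.card_out_eq_index, index_G]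
  · rw [Cfsg.Agent.H424.DegTools.charDegrees_congr (e.trans f),
      Cfsg.Agent.H424.DegTools.charDegrees_congr (MulAut.congr (e.trans f))]
    exact ne_of h14

end Cfsg.Agent.H893.S8.JTwoOut
end

-- part: H678/S8/JTwoRel
section
/-!
# Data for `J₂`: an invariant relation of valency 32 on the 315 subsets (helper678)

Generated file. `RM` = the matrix (bit `315 x + y`).
-/

set_option autoImplicit false

namespace Cfsg.Agent.H678.S8.JTwoRel

/-- the matrix of the relation -/
def RM : ℕ := 0xfdc03e300000000043810400202002203180018000000000000000000000000000000000000000e047f839000000000000404c9200331201080008000000000000000000000000000000000000000704e23de000000c00001200242400842400900090000000000000000000000000000000000000009f90a7c400014a05020400000240000240090009000000000000000000000000000000000000001323e76300000000000006102424404424009000900000000000000000000000000000000000000d81bd60e00000010020003120002480000801100112040000000000000000000000000000000001b370627200014005220c0000000200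000080110011204000000000000000000000000000000000098f3c47800c81420102000000000000000001800183060000000000000000000000000000000006ce1877080a68402100000000000000000000020002183480000000000000000000000000000000c7d8ee10fe8000000000000000000000000000000000816f000000000000000000000000000023680000000c0058028460000080a8206040000220000814022000000000000000000010000000046e000000002740c0004001022000a1204002000220200d00a00000000000000000000100000000f200020000021200c020014020a80950021405500002040000000000000000000000001000000029a0800000001800020ad0000820104402a8010104409100200000000000000000000001000000053420000000808000ac2030820008420900250000410140090000000000000000000000100000009940800000240040424030018010840011181801008800024080000000000000000000010000001328200000003140200201090380440000086000508a0000822000000000000000000000100000024b0080000002c810409021002804040040104014420000211100000000000000000000010000004960200000180028044438009080000000101001560800208c0000000000000000000000100000058c00002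000601458000800019501400140040402010008014400000000000000000000010000016600000080400000258016808040000012c4294130000c0000000000000000000000000010000021d000800004242200005a0019000000120026012010080480a000000000000000000000010000043a0020000101210000609204040800080009201a1040212008000000000000000000000010000079080000000400038240010e002aa00400504150000481000000000000000000000000000100000d9000080001000050a00080c0080310c49000410020681010000000000000000000000000100001b200020000090400800a00c0002109e2080101000092600080000000000000000000000001000026a00008000182048000000202014a15220080002006881100400000000000000000000000100004d400020000c00a0400080229010228480000800024080940300000000000000000000000010000a68000000842011a0000520002294000000003068400049004800000000000000000000000100019c0000000801022010000a880280212022020600081414c00000000000000000000000000010002c600800000481093000000081055101400001040240082424000000000000000000000000010008cc00000800830400002c0000c0102002400280004a8500490800000000000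00000000000001001198000020024040000180803400020052402000802a01104c200000000000000000000000001002cc0020000002200020c4c220021004040072044c000084040000000000000000000000000001005c40000008000421146002000420008001aa20040a1820003000000000000000000000000000100b8800000200003009232000900080000302a0240098008019000000000000000000000000000100e50000000080800c6900012002c08200004006a00004041218000000000000000000000000001014d000020001210c10000430048881001000040c2800004c030000000000000000000000000001033800002000002100080808a2002205aa0000218200151000100000000000000000000000000010ad000000008008000040060e048000880a0a0c000028a80281000000000000000000000000000115a00000002000000042600418000004a42a30000028a88084100000000000000000000000000011ca000000200004422480040008302140021102a0e00005000100000000000000000000000000010020950400040058200024200000900000000c004240000600140200c8000000000000c00400000006224008004106000049000800100001000380020000090042902000200000400000242000000000c0012600400080001000030221200408004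000841001800051208000100000000003000100000010444401040024400008004040ac003000000020140000800a0008821000000000009000400000028083040004900000040000f0101006000000200200808020a3040000080000000012000200000048802a00002404400000401a10060004000001028800040014001804800000000001880000000008188008804081a0008600040000800200200064020000400281008c00000000000048000008000250011020000800509000000820210a0200081004002020000886000008400000006000001000002a21008000810400042400120000010000800322000824000b008000800010000000c2000000000924401001201000022c000200000501000000428000800105200804000800000022400040000002110000c2000800008020880004084202a208600010000000000018482040000021000000004000440088018062020000002005210022000000008080080400c11003004000000005200400000000040600148013002100100001400018001100020020800000c0304480000000010000c0040000000088104010401004300000100a400a002404020800a00000000240800004060000002408000000002400838004800400400020180410008800020008008084001110006040000000042804000000000204c0048060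00420400100400044000c0100020220000010124118000000000100090040000000110010803180040024001082090000000001000410001080510090040200000002240000008000102020020464004200c001000120800000005000100000084460026010000088400000200000000042008580001480000420000050800208100000a8000024000a04200810000000202800000400004041402020060c0000c00200481000000000080880000104604006408000100420000040000000004000c114000008440400008084280041502020008800000000c0200010006000000c0000800000100912800048000001120001014042440100010004000000290000c0001400008204000100000020002300208000841000400202a9000000300610000000820000004030008801100040000100000042400481084000001000908008a802000080200082000800480000c00204001004200000008000804002114000180080000200d150000002120300800000002000008120008402800080000200002002480018004100203200a0000001400104808010000400200000900006880010400000400000040084000c080000503800a18000000000040082010044003000000c0006042010200000040000001088021020010080003000c200010016000000000c081200800640000800200003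20000000002000808480084000400008141500081000040544c000200000000000018c01400000102000000008000a20080024000400880c010014040100400600020224000000112400010400000002400000002004045000500000601210208000028202000808602000000008020c010000010020880000000040040042400840020412000402400280000002800a23000040000001088400007010000000000000401022000282028060800140010000400041040c00400002080010480200002004080800000000801008800050800005120008000850010011500141000002000000081820000e0008000000000000801484401001040040908080000020204000040000804801090420081000040000010300004000000849080200430000102042008200040000020010000000c4301006010000004003100000000200400200208840090008000400260000000521000208300400100104000001411101000000002000001040400428000090000090c0480000008410502400404000000080c00200000032040040000000084020a2002420000200002080002048c8000000008001004510200004800400040408002000000089090040080c0000400240100040040000090016000010009200902000000080c0400000004000800920420024000c1100484000000000800080054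0000800824001008000202048020000200000800122004410880000c40640000000000004100080102002412004200000201400140000000004100019810004040000466c00000000000004000060100080821201020000100440042000000100020008020284000100202040060200000480608000042100060004100000408150020000000200000081050200800010200008506000004080844c100000100800000201800200000068400100000000200090802400090080160000120400048a001108000010000000200900041000121000001000000410000898000808200804a004081002000801420400040000000200c000300000a800100000000400328001084200182004200000004000400000c100008212010004080000281010200000800001004002a004000000b0001092010004210010120000045000000000081030d00080000000008000401200400a000120050080a0104008c00000002020000090040040800040100110060002000000100010200a2000000148240024000000014e0000102a00004000010080000400d500000000200000800006800c00200020040000021000e00a410020001504000000001004c1050200000000008000040000ca0080000021000010c00440054004010000828401000040010404002050400000000200008012002900c00428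040040a0000200000000800041000809120000018080044200008002000000080204210130010008000c040002200040011000001200440140200214000020011000020000000100830000a000280000b0880000501002000300000821010000048000802000048880000200000400a12004000590000120004024000000000100100001400c8801400000010030080050800000004008901004030405200000100002222000000050000082000a004000204012010000820080000001001a0024006060040240000000008402202000001002000c1200000480204400800080080000001002108404089000000c0000800008c008041000010200100c4080101400000808080002000000200820010221a08610000040000002240000004000000814022320002040080420000000200000040203008080c0032810001000000200400000010200200c00a098000804040010800000020000000808040882000810000a0808400010060003000002064004000042000200400101300000000080080204200a0000402044000400010009480510140000000048004000080c020045000000040000020000482060000583000009000043020400000500000410400004001002108440020000004000000809101800090001821000000000a004240002000081000410880001080806010400000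0000800040000284208080044080000400400010154405102000000100040000200c02114000000000040010020002109001036000002100100300010000440800c04000001002002411004040000000001000400409102030400302000000800020441002000000840012082000202008064100000000000020802242010030004000884000c00000000100100410004400608014000000803000400520000000080020254001801218000000400202800010001100002024000810000210080900000820200000008090010028000008160004010080011003010000401110008000000201880400480040800000000800408d00120000210000008898000000110120400001000c00400808000040141000400008000082010a0800c00420000800080008004801040000004500060810000080140400408006000000004024010800808200004001200108013000100400000450030000000081281001010040200000000402440801006200400000000281a000000510024000004010101008080001001104001000080000408002980018180000000000a000045020101000000044048810000020409001001004800000008004400068000200109c004000000001006100020110040120000900202020300000100000000800810012006000800000004600000145248004000045200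0800002000023000020105001000000000888011001014000400000410881004120004090400000401000080108100020010410000100000404003001400400800040020e200042022020000010600200002004020081000b0000000000010041400400240100801004004040008484c800000002030008002600001000100030200000000004801000c8020008008000000c0414152400000050000102200000c00009082010002000000000021000006400a000204100200800541408000000501001408000002400021810004008000000000020208005140043000000400010040010441400000010408104082100000c0002000440400000100020020200428008000480068000c0018001000400000346000000100800300810100400000200000804000a5000c800408000004004420040000008000080160184100000480201040002000000100100801080181802240002040000000140000100008012044009010810010100200800010010000004010040884000a00000421040280040088404000010044010000800040445000200100100000008001500090109040001020000800000020148000005000013080088008008414000000401000000400818080200000004460210801000a0000100001009520000004004000c0205000200000800001004042840024040004020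00000500ac0000000210000410009410000060100041000800000040004020020508001010001000602050001002080000282280040001000020090a010000802000000080090800208008001010024008010001200e000100a8000400000401000080305400000800000008048010800808014000002080011802400000200800c209000010080010080110012000800000008002240082002000804c002000010480088811400002080000000000008c068040800002000000080214000c0001010410048400041080002000810a000024000000084801004104000402000000008010100608008018010040c004014001009000001110002000000200821005004004000000040040120000a200000104800c0400001000422901101002020000000000003818090020000200000004009000181000500420042000100100044204080a00000041000008180401041000010080000000404440008800000312100100004110000a00400025040020000000802060101100040000400000800082208080a800000100000c80010002100005000840024084080800012030000800000020001000408088100000024480401010000003010200a02001804000010008401102800008000000800100004500810000488400001001095081000000e000004000100100800105042000001000000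08002091100800c00100084220010000040000006000001104041800a000080000000431040100000002014c0004300090000032000001004000048081080001200040020240008000404100410000001000208220260000004000403800000004004400110801008221008040011000c000400000020002001028000c00200022050001100000040100800a10818010000010020400848800020000000008200400410c00208240000011000c1500000000e0010000600000400800440c008000040000000802000010c48000000823101000004000400a002800103060000008100002208008800400000080002010101800800000a4400100045100000010260201000210000000222108080080020000000800020004500600008088040008041008012010008000540020080000200210c0800a000000000002010040400032004001060014800100024000220080010508000002100000a0080280040000000020100001004e000801088001001144000000404022a010020000000024206000800804000000000201010010440800281008000080011081008108000015020010000008009300080880000000000008109110020009c020001800000004010000060000001050808200a0000800000008244101000000010051042000520200008420100000800010020840010100050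00084400010000482004040000000101420840018008001008c000000400010190800001042000800109000004100010410040000000201580008480040008062100000400000001824000140000600040c00000104004104004000000108008a008208220000500000000001012000000080d10100a0040220401000008200400002000010818000228480200801008008200002002000800001000832021102000000000821100080000000844800204000103082400000094040002000000ca010080002004000000120400114000800001000450002080208010c0c00000000000101830002140400100000c002009000c00004000000000a0002800c80808800012001040000000008881000422000030400110010008288000002000008002008010e0004821022000040000000410000010020018114040040808040080080400040010000020040080908040020400040a008001000210814000040801200008000822080080080800000080020028006204202800000100010200000020401103800008020840020201108008000020000020002002104202180004080a002010000000400021000012200842002000280408008080080010000010010020908000800081000020000058108102140c00200040000200020a00800801020000008001000b000a00482020000100900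02010010100050000000014c01002020012080080002000000800100204420212100080000801000001040202001008028008820008000a100080082002000400000100005900200020000040018000140132a0000100502000800008000080c002008210000040000010a0040050000000684000000c2040080401081210000208000008040900000808204000040000010800a400800000000000068094808500180101420800000000000900800800041840000080000020002a00600000000000040a844005090840041008800200000000c00800200404500000080000101002048200000004201010000540840804100100a04000800041000480008018200000000080010102002180020004000900104004080400121054000088000001022008000200830000000000800a0006300022000000000000a0010120680400c100040004042004004000008020015000020000080400812200a0000004004440001400500110000280012100004100040800084104000000002000810281002000200500420010005040400020415000008200000040600080080012400000000020084040405000010000800700810100280200089010002020000000cc000000088104000000004001000104444000080040210400048408480810a00000200200000026400000088010400000000040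12021210030000008010022020004014000448000001002300201001000000201005400002000002408028012080120081000004000000128008000208002241080100420000000400a20000200000300112020000442002000041004001400008028100000d2012000000000004002c00a0000200004100414041204200004021000000048c00000000000a8220100200242001000008202000000040044080141040c020001000800440000001400100240008c010010221000000000082220000040000402084402840000000020011040028004083001002008000a0040240000088000820200000400008082104082400000000805404100000008c000002200980080100300000022000820200000400008220005800000488240400204009001004000021120080000100800000080408042800000040001080102220000001000080240101424040040101840108000040080021000050000500000000200105000a8000014000204100200c5000000400001060408010900000000001410000450000008000410020504000000a0140000420a8801800002200802000020080400100800808000a0000000040040b0011000120400002801201022001000080000c000c0021800000000020208002280000010000a0400418000448001800802200400100000004042001100a48000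000002100000815000000100028140003048004082100040080001020011000080400001a004020081000000010051000000100028020c01000210800060000a8000002200100170000002080c0000000000008091014000000100040821081000400400010012402020200002800840800120824000000002000208082800000010008208420100010200011001102220002002000a8080000800b00000000100000c008280000001001814020010041600001800008021001100040008200410002600000000110000004150000000100000000001e001820040800c000000040000000000000102480c20100000060006000109109420000000000003b00d000008000c000000040000000000000012c248080000060003000010d42900000000000007801800001c000022000000000100000000000258024003001800000404042683200000000000000e980000100100080800080004000000000081240084009000c00000404043088a1000000000000039800011000001040108000000000840082040081008024200010000800a20218820000000000100042058804000140100000000000001000812420102008600010000400223080a80000000000010010408000004024140090100060004000010004000033004000000101040033c100000000000008140000000040481010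e110010080800000000040001190400000000810604180190000000000012004000000001240000d050000020002040900030402200000045000000a0232408000000000008002005008000c0010085200020004000400400090401800000011400002202910280000000000010400006610104000020020030008028000000020430000060000100080098801a10000000000080010003005800000400000400b00030a0000000804900006000010002000ca80484000000000008001800c020802000002020000810540010000004021100200080000102111600032000000000000600c00240080008001000000010302020408000408180080080000080814420c480000000000004a6082008002000000000200000800000110248001000c400340000000424a081300000000000020014824210000000000000200002050014102000010024401050000000490820c8100000000000200284420180000000200000a2008100800800000810200082022000000209880322000000000001020430100840000020000022028000800208000201010002122000000088c80a180000000000002180200220000000800420002000680020408002002004240004208000011045085000000000000230040004003010080001000000420002840800018080000484000400080214811c000000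0000020040212001010010000004000c0040004089001001000902000610000000868a0280000000000200080420002208010000001000081020106040000901000088800004001090a1c008000000000040004001108200020080000040080480040c1000012080004001400040014854101400000000000024020009002000800210000124000800084400001820000101010004001491011110000000000004402100800600c200280000200080008000002022044000080080802000468003600000000000200010824021010008a0000020008008800040000880420008000280010001290a1040000000000080001040000070020200860200080028001000013000004001008100080022321210000000000004200080000000300808a00808002010a04000001900000400048100020022018c84000000000008004002004010600000204000400200220408100000410421400000200031022a4040000000000002400000000040480009204002400400a400080000048049020000100009402a1030000000000002001000000000040910140900051004020080000402000210080100200230015c008000000000010008000020040448100130001014000020000100408000804020040800880454038000000000000000104008002002020828028008800812000000080044000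b0000404000200c035400000000000008000900040400440881000c00280020200000004420010000000414200a0080634000000000010000080000006002005004014141001100001000008022108000001004112012622000000000000004004000088000202120202802802080200000080009002240010008002821104500000000000020000901001000142000043000a00082020000004408010000001010880204a20c40000000000020001000000000802102002514040005400002000080420600000020010409160a080000000000002000240410008002000062013000110000000110000204080c0000020806980221000000000000000060400041004124011120100010000000001200180008000001c01008046a009000000000000040004040a0410400080010082010208000000820002009000600002040251007080000000000004000600000b0122002088000020002000010080400900004000020c0801800560c00000000000000000282001400080100240110600020200020000030210000822010000140108b10000000000000041200c080000050100040300204020000000140000102022000100180254021410000000000000080000940100c08011010010020002000020808004800004000881100044828884000000000000000008400104000840100a4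0442010208000000002440400008a0200000409402340000000000000024418000800044400000c0002108200000104000010080420040012001520458000000000000000080100101c000a40080840002000200009008001800000802200600004068a840000000000001000000104200400808000a082000a0022020000000c420000000900088265009040000000000000000000414008001010111158001000000006001000020000800045800434200e080000000000000020000000000455009181008000000822400000400400000280800220c002cc08800000000004000000000d02480000000402220002000a00c00000089200000020200880c90034400000000000000000001240412000000041106004600000048010000080000801091004256008880000000000000004000000101154008404000200020202800200100800000a000804209810980a000000000000000011040001c0110100011100200020002010000400021000088020090080308a2800000000000000418100010008001000041042a04200000100001000101000200140142520089100000000000001000000000580051100410100200020440000801001000108410000050040a948800000000000000003080003040404021014000200020020020001000204002200040840a08402a80000000000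00000b0020401002004000004002a4002000022000100010400002024014016210b0000000000000001000000000021405080944000200025000002004020004110400000142442848200000000000000000001e000220020182000000220022800004800000000a0900010821202308140000000000000008082161002004001000000002200220400210000401004002880020142408424000000000000000008080c050100110400004000040011200240000000103008002810240529020000000000000008052100b000084010000004000000010a0108000040800404140004089281030000000000000004081008480200010020020000040204102010400004021010105000000468c0140000000000000c004000128000800408000800010009012200040000409000504080000902244500000000000000000081000010100200401020008820a884000010200004000a00000a248054901000000000000010800210424000000004000080488008800420040000804080040202084888013800000000000008000000400822000148000014000010540801002100000201010000510902288180000000000000088002049000000004008801084100004080042000010028008020041244c0c0040000000000001840800004802000010000040841000104080200080008002100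200c011114200e000000000000002240804800000020000004204040014040802002000200110020024010414b10200000000000008a040800000000004001200100014000060c8040000000c020280810009184088200000000000042022008000000004100820000041000100864040000000300a8004800244042a80000000000000840400100002400000040040040002040183100102000000400151000128410530000000000000045000402000020040100001100004080400091010800000200015800018941048100000000000b4000000000001800000000000000502800480d80004200200002140300085a0842000000000002920000000000000018000000000014088102840c000410080002044090021422b00000000000005240000000000000004400000040040c000088360000210210000600011021443600000000000005a0000000000000000500140004010000000891300008108040060000110855082100010000000000048000000000000a80000000000000000000014c9204120200401248aa0848010500100000000004040000000020000a000000000000000000001661804180100101862a8880005120010000000020200000001000000010002000000000000000000803249383c02a82100248402004001000000000800000040000000000000a80000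0000000000008a5020488848a0c24600204a80080010000000800000000010800000000100200000000000000008b40210a440a0863120488080210001000000000040000000008000800000081000000000000028042318088454441041620084006000100000000040000000000280000000080000400000000002810384802454450410528008014400010000000000004000000028000000000000140000000000582641800210c10104552001900280001000000000000400000080800000000010004000000000148330480010430482154000c8019000010000000000100008000004000001000000020000000001940a0284146010c002642040042a00001000004000000000000080400000000400002000000000000c27200d0344a0c3004000a60040000100000004000000080000000000120000000010000000060a819080200180c8d090045004180000100000000000004002000000000800000000104000000120a84c0801018006e40c4004114100000100000400020000010800000000000000000004000000008026186341c8a82040242400802000001000010000100000800000000000000000000060000000320801370908309105002441080400000100000800008008000000000100000000000002000000098200191c4c20c8085003300010800000100000000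400000002000002000000800000000800000a300602c0a024030c20a22000303000000100000002000000020000020000000080000000080002890030a48120120a28282280018200000010000000000000100000200000000002008000008000310233210088021242830801022140000001000010000000000080000000000020200000000800002840d0a18602203650005000a40800000010000000020000000000400010000000002000004001340280a44086430000cc20502009000000010000000000004000000000000400000000a00004001a144005088222060225880808026000000010000000000080000000000010000000002200004004a5100140240a8411034800208984000000010002000000000000021000000040000000000004000024b180c0b0522451004042820080000000100004000040000000000000000020000000200020008230121890f82a000a10011003100000000100000000220000000000000000002000000080010020890180e8e06a8002810041c0020000000010000000080000000000020000000080000004001003032140c431023088300104210140000000010000000000040000008000000000080000000401091089981004221015209080102848000000001000000008000000000001000000208000000000100290640b8208089934000580090100000000010000000040000000000008000000000000200081002406051c2146a0928010200204600000000010000000020000000000008000000000000080041003012144714602c508040a01010400000000010000000000000000000040000000202000040001090981425114230404900410840480000000000000000000000000000000000000000000000000000000000000000000001fffffffe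

end Cfsg.Agent.H678.S8.JTwoRel
end

-- part: H678/S8/JTwoFourteen
section
/-!
# The Hall-Janko group has an irreducible character of degree 14 (helper678, for S4908)

The action on the 315 subsets (involutions of class 2A), a relation of valency 32 given by its matrix `RM`, eigenvalue
`2 + 6 √5`.

* `kernel_of_index` : degrees from an indexed orbit and an invariant relation on the indices, complex eigenvalues;
* `kernel_of_tables` : the version with tables;
* `deg_14` : the result.
-/

set_option autoImplicit false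
set_option maxRecDepth 100000

namespace Cfsg.Agent.H678.S8

open Cfsg Equiv Cfsg.Agent.SporadicA.PermTab Cfsg.Agent.H678.DG
open scoped ComplexConjugate

section index

universe u v

variable {G : Type u} [Group G] [Finite G] {Y : Type v} [MulAction G Y] {M n : ℕ}

/-- **Degrees from an indexed orbit and a relation of the indices.** -/
theorem kernel_of_index (y : Fin M → Y) (hinj : Function.Injective y) (i₀ : Fin M)
    (hcl : ∀ g : G, ∀ i, ∃ j, g • y i = y j) (htrG : ∀ i, ∃ g : G, g • y i₀ = y i)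
    (K : Subgroup G) (hK : ∀ g ∈ K, g • y i₀ = y i₀) (cls : Fin M → Fin n) (r : Fin n → Fin M)
    (hcls : ∀ g ∈ K, ∀ i j, g • y i = y j → cls j = cls i)
    (htr : ∀ i, ∃ g ∈ K, g • y (r (cls i)) = y i)
    (E : Fin M → Fin M → Bool)
    (hE : ∀ (g : G) i j i' j', g • y i = y i' → g • y j = y j' → E i' j' = E i j) (B : Fin n → Fin n → ℕ)
    (hB : ∀ i j, (Finset.univ.filter fun k : Fin M => E (r i) k = true ∧ cls k = j).card = B i j)
    (kk : Fin n → ℕ) (hk : ∀ j, (Finset.univ.filter fun i => cls i = j).card = kk j)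
    (a : Fin n → ℂ) (t : ℂ) (hBa : ∀ i, ∑ j, (B i j : ℂ) * a j = t * a i)
    (huniq : ∀ a' : Fin n → ℂ, (∀ i, ∑ j, (B i j : ℂ) * a' j = t * a' i) → ∀ i, a' i = a' (cls i₀) * a i)
    (ha : a (cls i₀) = 1) :
    ∃ χ : IrrCharacter G, (charDegree (χ : G → ℂ) : ℂ) * ∑ j, (kk j : ℂ) * (a j * conj (a j)) = (M : ℂ) := by
  classical
  let act : MulAction G (Idx.Orb y) := Idx.orbAct y hcl
  let e := Idx.eqv y hinj
  let ft : Fintype (Idx.Orb y) := Fintype.ofEquiv _ e
  have hsm : ∀ (g : G) (x : Idx.Orb y), (g • x).1 = g • x.1 := fun _ _ => rfl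
  have he : ∀ i, (e i).1 = y i := fun _ => rfl
  have hes : ∀ x : Idx.Orb y, y (e.symm x) = x.1 := fun x => by rw [← he, e.apply_symm_apply]
  have htrans : MulAction.IsPretransitive G (Idx.Orb y) := by
    have key : ∀ x : Idx.Orb y, ∃ g : G, g • e i₀ = x := by
      intro x
      obtain ⟨g, hg⟩ := htrG (e.symm x)
      refine ⟨g, Subtype.ext ?_⟩
      rw [hsm, he, hg, hes]
    refine ⟨fun x z => ?_⟩
    obtain ⟨g, rfl⟩ := key x
    obtain ⟨h, rfl⟩ := key z
    exact ⟨h * g⁻¹, by rw [mul_smul, inv_smul_smul]⟩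
  have hcard : Fintype.card (Idx.Orb y) = M := by
    rw [Fintype.card_congr e.symm, Fintype.card_fin]
  have h0 : e.symm (e i₀) = i₀ := e.symm_apply_apply i₀
  obtain ⟨χ, hχ⟩ := Sph.exists_of_kernel (X := Idx.Orb y)
    (fun x z => if E (e.symm x) (e.symm z) = true then (1 : ℂ) else 0) (by
      intro g x z
      show (if E (e.symm (g • x)) (e.symm (g • z)) = true then (1 : ℂ) else 0) =
        if E (e.symm x) (e.symm z) = true then (1 : ℂ) else 0
      rw [hE g (e.symm x) (e.symm z) (e.symm (g • x)) (e.symm (g • z)) (by rw [hes, hes, hsm])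
        (by rw [hes, hes, hsm])]) (e i₀) K
    (fun g hg => Subtype.ext (hK g hg)) (fun x => cls (e.symm x)) (fun i => e (r i)) (by
      intro g hg x
      refine hcls g hg _ _ ?_
      rw [hes, hes, hsm]) (by
      intro x
      obtain ⟨g, hg, h⟩ := htr (e.symm x)
      refine ⟨g, hg, Subtype.ext ?_⟩
      rw [hsm, he, h, hes]) (fun i j => (B i j : ℂ)) (by
      intro i j
      rw [← hB i j, ← Finset.sum_filter, Finset.sum_const, nsmul_eq_mul, mul_one, Finset.filter_filter]
      congr 1
      refine Finset.card_bij (fun x _ => e.symm x) ?_ ?_ ?_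
      · intro x hx
        rw [Finset.mem_filter] at hx ⊢
        refine ⟨Finset.mem_univ _, ?_, hx.2.1⟩
        have h1 := hx.2.2
        rw [e.symm_apply_apply] at h1
        exact h1
      · intro x _ z _ h
        exact e.symm.injective h
      · intro k hk
        rw [Finset.mem_filter] at hk
        refine ⟨e k, ?_, e.symm_apply_apply k⟩
        rw [Finset.mem_filter]
        refine ⟨Finset.mem_univ _, ?_, ?_⟩
        · rw [e.symm_apply_apply]
          exact hk.2.2
        · rw [e.symm_apply_apply, e.symm_apply_apply]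
          exact hk.2.1) kk (by
      intro j
      rw [← hk j]
      refine Finset.card_bij (fun x _ => e.symm x) ?_ ?_ ?_
      · intro x hx
        rw [Finset.mem_filter] at hx ⊢
        exact ⟨Finset.mem_univ _, hx.2⟩
      · intro x _ z _ h
        exact e.symm.injective h
      · intro k hk
        rw [Finset.mem_filter] at hk
        refine ⟨e k, ?_, e.symm_apply_apply k⟩
        rw [Finset.mem_filter]
        refine ⟨Finset.mem_univ _, ?_⟩
        rw [e.symm_apply_apply]
        exact hk.2) a t hBa (by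
      intro a' h i
      show a' i = a' (cls (e.symm (e i₀))) * a i
      rw [h0]
      exact huniq a' h i) (by
      show a (cls (e.symm (e i₀))) = 1
      rw [h0]
      exact ha)
  rw [hcard] at hχ
  exact ⟨χ, hχ⟩

end index

section tables

open Cfsg.Agent.H678.DG.Blk

variable {N M : ℕ} {G : Subgroup (Perm (Fin N))}

/-- A relation on the indices invariant under the generators is invariant. -/
theorem rel_inv {F : ℕ → Y N} {GT : Set (Perm (Fin N))} (hG : G = Subgroup.closure GT) (R : ℕ → ℕ → Bool)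
    (hinj : ∀ x < M, ∀ y < M, F x = F y → x = y)
    (hcl : ∀ g : G, ∀ x < M, ∃ y < M, g • F x = F y)
    (hgen : ∀ g ∈ GT, ∀ (hg : g ∈ G), ∀ x < M, ∀ y < M, ∀ x' < M, ∀ y' < M, (⟨g, hg⟩ : G) • F x = F x' →
      (⟨g, hg⟩ : G) • F y = F y' → R x' y' = R x y) (g : G) :
    ∀ x < M, ∀ y < M, ∀ x' < M, ∀ y' < M, g • F x = F x' → g • F y = F y' → R x' y' = R x y := by
  obtain ⟨g, hg⟩ := g
  subst hG
  induction hg using Subgroup.closure_induction with
  | mem g hg => exact hgen g hg (Subgroup.subset_closure hg)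
  | one =>
    intro x hx y hy x' hx' y' hy' h1 h2
    rw [show (⟨1, one_mem _⟩ : Subgroup.closure GT) = 1 from rfl, one_smul] at h1 h2
    rw [hinj x hx x' hx' h1, hinj y hy y' hy' h2]
  | mul a b ha hb iha ihb =>
    intro x hx y hy x' hx' y' hy' h1 h2
    have e : (⟨a * b, mul_mem ha hb⟩ : Subgroup.closure GT) = ⟨a, ha⟩ * ⟨b, hb⟩ := rfl
    rw [e, mul_smul] at h1 h2
    obtain ⟨x1, hx1, h3⟩ := hcl ⟨b, hb⟩ x hx
    obtain ⟨y1, hy1, h4⟩ := hcl ⟨b, hb⟩ y hy
    rw [h3] at h1
    rw [h4] at h2
    rw [iha x1 hx1 y1 hy1 x' hx' y' hy' h1 h2, ihb x hx y hy x1 hx1 y1 hy1 h3 h4]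
  | inv a ha iha =>
    intro x hx y hy x' hx' y' hy' h1 h2
    have e : (⟨a⁻¹, inv_mem ha⟩ : Subgroup.closure GT) = (⟨a, ha⟩ : Subgroup.closure GT)⁻¹ := rfl
    rw [e, inv_smul_eq_iff] at h1 h2
    exact (iha x' hx' y' hy' x hx y hy h1.symm h2.symm).symm

/-- the invariance of the relation with rows `rw` under the table `q` -/
def chkR (M : ℕ) (row : ℕ → ℕ) (q : ℕ) : Bool :=
  allB (fun x => forceB (row x) fun m => forceB (row (lk q x)) fun m' =>
    allB (fun y => beqb (tb m' (lk q y)) (tb m y)) M) M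

private theorem chkR_of {M q : ℕ} {row : ℕ → ℕ} (h : allL (chkPQc M M row) [(q, q)] = true) : chkR M row q = true :=
  (allB_iff _ _).2 fun x hx => by
    have h1 := (allB_iff _ _).1 ((allL_iff _ _).1 (chkPQ_of_c h) _ List.mem_cons_self) x hx
    rw [forceB_eq] at h1
    exact ((band_eq_true _ _).1 h1).2

/-- The collapsed matrix. -/
def chkBR (M n : ℕ) (row : ℕ → ℕ) (bs : List ℕ) (B : ℕ → ℕ → ℕ) : Bool :=
  allB (fun i => forceB (row (rt bs i)) fun m => allB (fun j => cntB (fun y => band (Nat.beq (lab bs y) j)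
    (tb m y)) M (B i j)) n) n

/-- **Degrees from tables**, the relation given by its matrix. -/
theorem kernel_of_tables {n : ℕ} {mk : ℕ → ℕ} {GT : Set (Perm (Fin N))} (hG : G = Subgroup.closure GT)
    {PQ : List (ℕ × ℕ)} (hGT : ∀ g ∈ GT, ∃ pq ∈ PQ, ∀ i : Fin N, ((g i : Fin N) : ℕ) = lk pq.1 i)
    (hin : ∀ pq ∈ PQ, InG G pq.1) {bs : List ℕ} {KW : List (List (ℕ × ℕ))} (hKW : ∀ w ∈ KW, ∀ pq ∈ w, pq ∈ PQ)
    {pr : ℕ → ℕ} {kk : ℕ → ℕ} {B : ℕ → ℕ → ℕ} (hM : 0 < M) (hlab0 : lab bs 0 = 0)
    (h1 : allL (chkPQ N M mk) PQ = true) (h2 : chkInj M N mk = true) (h3 : allL (chkW M bs) KW = true)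
    (h4 : chkF M bs PQ KW pr = true) (h5 : chkK M n bs kk = true) (row : ℕ → ℕ)
    (hR : ∀ pq ∈ PQ, chkR M row pq.2 = true) (h6 : chkBR M n row bs B = true)
    (hn : 0 < n) (a : Fin n → ℂ) (t : ℂ) (hBa : ∀ i : Fin n, ∑ j : Fin n, (B i j : ℂ) * a j = t * a i)
    (huniq : ∀ a' : Fin n → ℂ, (∀ i : Fin n, ∑ j : Fin n, (B i j : ℂ) * a' j = t * a' i) →
      ∀ i, a' i = a' ⟨0, hn⟩ * a i) (ha : a ⟨0, hn⟩ = 1) :
    ∃ χ : IrrCharacter G, (charDegree (χ : G → ℂ) : ℂ) * ∑ j : Fin n, (kk j : ℂ) * (a j * conj (a j)) = (M : ℂ) := by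
  classical
  set! F := Fm N mk with hF
  have hinj := inj_of_chk (N := N) h2
  have hPQ : ∀ pq ∈ PQ, Cor G F M (lk pq.2) := by
    intro pq hpq
    obtain ⟨g, hg, hgi⟩ := hin pq hpq
    exact ⟨⟨g, hg⟩, cor_of_chkPQ ((allL_iff _ _).1 h1 pq hpq) ⟨g, hg⟩ hgi⟩
  have hcl : ∀ g : G, ∀ x < M, ∃ y < M, g • F x = F y := closed hG (by
    intro g hgT hg x hx
    obtain ⟨pq, hpq, hgi⟩ := hGT g hgT
    obtain ⟨h7, h8⟩ := cor_of_chkPQ ((allL_iff _ _).1 h1 pq hpq) (⟨g, hg⟩ : G) hgi x hx
    exact ⟨_, h7, h8⟩) hinj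
  have hrel := rel_inv (M := M) (F := F) hG (fun x y => tb (row x) y) hinj hcl (by
    intro g hgT hg x hx y hy x' hx' y' hy' h7 h8
    obtain ⟨pq, hpq, hgi⟩ := hGT g hgT
    obtain ⟨h9, h10⟩ := cor_of_chkPQ ((allL_iff _ _).1 h1 pq hpq) (⟨g, hg⟩ : G) hgi x hx
    obtain ⟨h11, h12⟩ := cor_of_chkPQ ((allL_iff _ _).1 h1 pq hpq) (⟨g, hg⟩ : G) hgi y hy
    have e1 : lk pq.2 x = x' := hinj _ h9 _ hx' (h10.symm.trans h7)
    have e2 : lk pq.2 y = y' := hinj _ h11 _ hy' (h12.symm.trans h8)
    have h13 := (allB_iff _ _).1 (hR pq hpq) x hx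
    rw [forceB_eq, forceB_eq] at h13
    have h14 := (beqb_iff _ _).1 ((allB_iff _ _).1 h13 y hy)
    rw [e1, e2] at h14
    exact h14)
  have hword : ∀ w ∈ KW, Cor G F M (ev (snds w)) := by
    intro w hw
    refine Cor.ev fun Q hQ => ?_
    obtain ⟨P, hP⟩ := mem_snds hQ
    exact hPQ _ (hKW w hw _ hP)
  let K := KK hcl hinj (lab bs)
  have hwK : ∀ w ∈ KW, ∃ g ∈ K, ∀ x < M, ev (snds w) x < M ∧ g • F x = F (ev (snds w) x) := by
    intro w hw
    obtain ⟨g, hg⟩ := hword w hw
    have h7 := (allL_iff _ _).1 h3 w hw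
    unfold chkW at h7
    rw [band_eq_true] at h7
    have h8 : ev (snds w) 0 = 0 := Nat.eq_of_beq_eq_true h7.1
    refine ⟨g, ⟨?_, ?_⟩, hg⟩
    · have h9 := (hg 0 hM).2
      rwa [h8] at h9
    · intro x hx y hy hxy
      have h9 := hg x hx
      rw [h9.2] at hxy
      rw [← hinj _ h9.1 _ hy hxy]
      exact Nat.eq_of_beq_eq_true ((allB_iff _ _).1 h7.2 x hx)
  unfold chkF at h4
  rw [allB_iff] at h4
  have hreachG : ∀ x, x < M → ∃ g : G, g • F 0 = F x := by
    intro x
    induction x using Nat.strong_induction_on with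
    | _ x ih =>
      intro hx
      have h7 := h4 x hx
      rw [bor_iff, forceB_eq, band_eq_true, bor_iff, band_eq_true, band_eq_true, anyB_iff, anyB_iff] at h7
      rcases h7 with h7 | ⟨h7, h8⟩
      · rw [Nat.eq_of_beq_eq_true h7]
        exact ⟨1, one_smul _ _⟩
      · have h9 : pr x < x := Nat.blt_eq ▸ h7
        obtain ⟨g, hg⟩ := ih _ h9 (h9.trans hx)
        rcases h8 with ⟨-, w, hw, h8⟩ | ⟨-, pq, hpq, h8⟩
        · obtain ⟨k, -, hk⟩ := hwK w hw
          refine ⟨k * g, ?_⟩
          rw [mul_smul, hg, (hk _ (h9.trans hx)).2, Nat.eq_of_beq_eq_true h8]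
        · obtain ⟨k, hk⟩ := hPQ pq hpq
          refine ⟨k * g, ?_⟩
          rw [mul_smul, hg, (hk _ (h9.trans hx)).2, Nat.eq_of_beq_eq_true h8]
  have hreachK : ∀ x, x < M → ∃ g ∈ K, g • F (rt bs (lab bs x)) = F x := by
    intro x
    induction x using Nat.strong_induction_on with
    | _ x ih =>
      intro hx
      have h7 := h4 x hx
      rw [bor_iff, forceB_eq, band_eq_true, bor_iff, band_eq_true, band_eq_true, anyB_iff, anyB_iff] at h7
      rcases h7 with h7 | ⟨h7, h8⟩
      · rw [Nat.eq_of_beq_eq_true h7, hlab0]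
        exact ⟨1, K.one_mem, one_smul _ _⟩
      · have h9 : pr x < x := Nat.blt_eq ▸ h7
        rcases h8 with ⟨h10, w, hw, h8⟩ | ⟨h10, -⟩
        · obtain ⟨g, hg, hgx⟩ := ih _ h9 (h9.trans hx)
          obtain ⟨k, hkK, hk⟩ := hwK w hw
          refine ⟨k * g, K.mul_mem hkK hg, ?_⟩
          rw [← Nat.eq_of_beq_eq_true h10, mul_smul, hgx, (hk _ (h9.trans hx)).2, Nat.eq_of_beq_eq_true h8]
        · rw [Nat.eq_of_beq_eq_true h10]
          exact ⟨1, K.one_mem, one_smul _ _⟩
  unfold chkK at h5
  rw [band_eq_true, band_eq_true, allB_iff, allB_iff, allB_iff] at h5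
  obtain ⟨h5a, h5b, h5c⟩ := h5
  have hlt : ∀ x < M, lab bs x < n := fun x hx => Nat.blt_eq ▸ h5a x hx
  have hrt : ∀ j < n, rt bs j < M := fun j hj => Nat.blt_eq ▸ h5b j hj
  have hc0 : (⟨lab bs 0, hlt 0 hM⟩ : Fin n) = ⟨0, hn⟩ := Fin.ext hlab0
  refine kernel_of_index (G := G) (Y := Y N) (M := M) (n := n) (fun x => F x) ?_ ⟨0, hM⟩ ?_ ?_ K ?_
    (fun x => ⟨lab bs x, hlt x x.2⟩) (fun j => ⟨rt bs j, hrt j j.2⟩) ?_ ?_
    (fun x y => tb (row x) y) ?_ (fun i j => B i j) ?_ (fun j => kk j) ?_ a t hBa ?_ ?_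
  · intro x y hxy
    exact Fin.ext (hinj x x.2 y y.2 hxy)
  · intro g x
    obtain ⟨y, hy, h⟩ := hcl g x x.2
    exact ⟨⟨y, hy⟩, h⟩
  · intro x
    exact hreachG x x.2
  · intro g hg
    exact hg.1
  · intro g hg x y hxy
    exact Fin.ext (hg.2 x x.2 y y.2 hxy)
  · intro x
    exact hreachK x x.2
  · intro g x y x' y' h7 h8
    exact hrel g x x.2 y y.2 x' x'.2 y' y'.2 h7 h8
  · intro i j
    unfold chkBR at h6
    rw [allB_iff] at h6
    have h7 := h6 i i.2
    rw [forceB_eq, allB_iff] at h7
    have h8 := (cntB_iff _ _ _).1 (h7 j j.2)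
    rw [← card_fin] at h8
    rw [← h8]
    congr 1
    ext y
    simp only [Finset.mem_filter, Finset.mem_univ, true_and]
    rw [band_eq_true]
    constructor
    · rintro ⟨h9, h10⟩
      refine ⟨?_, h9⟩
      have h11 : lab bs y = j := congrArg Fin.val h10
      rw [h11]
      exact Nat.beq_refl _
    · rintro ⟨h9, h10⟩
      exact ⟨h10, Fin.ext (Nat.eq_of_beq_eq_true h9)⟩
  · intro j
    have h8 := (cntB_iff _ _ _).1 (h5c j j.2)
    rw [← card_fin] at h8
    rw [← h8]
    congr 1
    ext y
    simp only [Finset.mem_filter, Finset.mem_univ, true_and]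
    constructor
    · intro h
      have h11 : lab bs y = j := congrArg Fin.val h
      rw [h11]
      exact Nat.beq_refl _
    · intro h
      exact Fin.ext (Nat.eq_of_beq_eq_true h)
  · intro a' h i
    show a' i = a' ⟨lab bs 0, hlt 0 hM⟩ * a i
    rw [hc0]
    exact huniq a' h i
  · show a ⟨lab bs 0, hlt 0 hM⟩ = 1
    rw [hc0]
    exact ha

end tables

namespace JTwo

open Cfsg.Agent.SporadicA.J2Data Cfsg.Agent.SporadicA.J2Hundred Cfsg.Agent.H678.DG.JTwoData
  Cfsg.Agent.H678.DG.Blk Cfsg.Agent.H678.DG.JTwoDeg Cfsg.Agent.H678.S8.JTwoRel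

/-- the rows of the relation -/
def row (x : ℕ) : ℕ := Nat.land (Nat.shiftRight RM (Nat.mul 315 x)) 66749594872528440074844428317798503581334516323645399060845050244444366430645017188217565216767

/-- the collapsed matrix -/
def B32 (i j : ℕ) : ℕ := ([[0, 32, 0, 0, 0, 0], [1, 5, 20, 5, 1, 0], [0, 8, 8, 16, 0, 0], [0, 1, 8, 17, 5, 1],
  [0, 1, 0, 25, 1, 5], [0, 0, 0, 16, 16, 0]].getD i []).getD j 0

theorem rA : chkR 315 row qA = true := chkR_of (by decide +kernel)
theorem rB : chkR 315 row qB = true := chkR_of (by decide +kernel)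
theorem rC : chkR 315 row qC = true := chkR_of (by decide +kernel)
theorem rD : chkR 315 row qD = true := chkR_of (by decide +kernel)
theorem rE : chkR 315 row qE = true := chkR_of (by decide +kernel)

theorem hR : ∀ pq ∈ PQ, chkR 315 row pq.2 = true := by
  intro pq h
  simp only [PQ, List.mem_cons, List.not_mem_nil, or_false] at h
  rcases h with rfl | rfl | rfl | rfl | rfl
  exacts [rA, rB, rC, rD, rE]

theorem cBR : chkBR 315 6 row bs B32 = true := by decide +kernel

theorem uniq {r a0 a1 a2 a3 a4 a5 : ℂ} (hr : r ^ 2 = 5)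
    (h0 : 32 * a1 = (2 + 6 * r) * a0)
    (h1 : a0 + 5 * a1 + 20 * a2 + 5 * a3 + a4 = (2 + 6 * r) * a1)
    (h2 : 8 * a1 + 8 * a2 + 16 * a3 = (2 + 6 * r) * a2)
    (h3 : a1 + 8 * a2 + 17 * a3 + 5 * a4 + a5 = (2 + 6 * r) * a3)
    (h4 : a1 + 25 * a3 + a4 + 5 * a5 = (2 + 6 * r) * a4) :
    a1 = a0 * ((1 + 3 * r) / 16) ∧ a2 = a0 * (1 / 4) ∧ a3 = a0 * (-1 / 8) ∧ a4 = a0 * ((1 - 3 * r) / 16) ∧
      a5 = a0 * (-1 / 2) := by
  refine ⟨?_, ?_, ?_, ?_, ?_⟩
  · linear_combination ((1/32) + (0) * r) * h0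
  · linear_combination ((-111/33440) + (5059/501600) * r) * h0 + ((48/1045) + (4/15675) * r) * h1 + ((-3/1672) + (-157/25080) * r) * h2 + ((-5/418) + (17/6270) * r) * h3 + ((1/418) + (-17/31350) * r) * h4 + ((5059/83600) * a0 + (8/5225) * a1 + (-157/4180) * a2 + (17/1045) * a3 + (-17/5225) * a4) * hr
  · linear_combination ((303/66880) + (-1681/334400) * r) * h0 + ((-7/418) + (179/10450) * r) * h1 + ((43/836) + (7/4180) * r) * h2 + ((2/209) + (-23/4180) * r) * h3 + ((-2/1045) + (23/20900) * r) * h4 + ((-5043/167200) * a0 + (537/5225) * a1 + (21/2090) * a2 + (-69/2090) * a3 + (69/10450) * a4) * hr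
  · linear_combination ((-669/13376) + (2191/200640) * r) * h0 + ((69/418) + (-569/6270) * r) * h1 + ((-185/836) + (293/2508) * r) * h2 + ((40/209) + (-67/2508) * r) * h3 + ((-8/209) + (67/12540) * r) * h4 + ((2191/33440) * a0 + (-569/1045) * a1 + (293/418) * a2 + (-67/418) * a3 + (67/2090) * a4) * hr
  · linear_combination ((89/3344) + (-8201/250800) * r) * h0 + ((-447/1045) + (1478/15675) * r) * h1 + ((167/418) + (-1571/6270) * r) * h2 + ((-71/418) + (1579/6270) * r) * h3 + ((489/2090) + (-1579/31350) * r) * h4 + ((-8201/41800) * a0 + (2956/5225) * a1 + (-1571/1045) * a2 + (1579/1045) * a3 + (-1579/5225) * a4) * hr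

/-- **Degree 14.** -/
theorem deg_14' : ∃ χ : IrrCharacter G, charDegree (χ : G → ℂ) = 14 := by
  have hr : ((Real.sqrt 5 : ℝ) : ℂ) ^ 2 = 5 := by
    rw [← Complex.ofReal_pow, Real.sq_sqrt (by norm_num)]
    norm_num
  obtain ⟨χ, hχ⟩ := kernel_of_tables (rfl : G = Subgroup.closure gens) hGT hin hKW (by norm_num) rfl _root_.Cfsg.Agent.H678.DG.JTwoDeg.c1 _root_.Cfsg.Agent.H678.DG.JTwoDeg.c2 _root_.Cfsg.Agent.H678.DG.JTwoDeg.c3 c4 c5 row
    hR cBR (by norm_num)
    ![1, (1 + 3 * ((Real.sqrt 5 : ℝ) : ℂ)) / 16, 1 / 4, -1 / 8, (1 - 3 * ((Real.sqrt 5 : ℝ) : ℂ)) / 16, -1 / 2]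
    (2 + 6 * ((Real.sqrt 5 : ℝ) : ℂ)) (by
      intro i
      (revert i; simp only [Fin.sum_univ_succ, B32, _root_.Fin.forall_fin_succ, _root_.List.getD_eq_getElem?_getD, _root_.List.length_cons, _root_.List.length_nil, _root_.zero_add, Nat.reduceAdd, _root_.Fin.is_lt, _root_.getElem?_pos, _root_.Option.getD_some, _root_.one_div, Fin.isValue, _root_.Fin.coe_ofNat_eq_mod, _root_.Nat.zero_mod, _root_.Matrix.cons_val_zero, _root_.mul_one, _root_.Fin.val_succ, _root_.Matrix.cons_val_succ, _root_.Finset.univ_unique, _root_.Fin.default_eq_zero, _root_.Fin.val_eq_zero, _root_.Matrix.cons_val_fin_one, _root_.Finset.sum_const, _root_.Finset.card_singleton, _root_.one_smul, _root_.List.getElem_cons_zero, _root_.Nat.ofNat_pos, _root_.CharP.cast_eq_zero, _root_.Nat.one_lt_ofNat, _root_.List.getElem_cons_succ, _root_.Nat.cast_ofNat, Nat.reduceLT, _root_.MulZeroClass.zero_mul, _root_.Nat.lt_add_one, _root_.add_zero, _root_.Nat.cast_one, _root_.one_mul, _root_.forall_const]) <;> (repeat' with_reducible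 apply And.intro) <;> ring_nf <;> (try rw [hr]) <;> ring) (by
      intro a' h i
      have e0 := h 0
      have e1 := h 1
      have e2 := h 2
      have e3 := h 3
      have e4 := h 4
      simp only [Fin.sum_univ_succ, B32, _root_.Fin.isValue, _root_.Fin.coe_ofNat_eq_mod, _root_.Nat.zero_mod, _root_.List.getD_eq_getElem?_getD, _root_.List.length_cons, _root_.List.length_nil, _root_.zero_add, _root_.Nat.reduceAdd, _root_.Nat.ofNat_pos, _root_.getElem?_pos, _root_.List.getElem_cons_zero, _root_.Option.getD_some, _root_.Fin.is_lt, _root_.CharP.cast_eq_zero, _root_.MulZeroClass.zero_mul, _root_.Fin.val_succ, _root_.List.getElem_cons_succ, _root_.Nat.cast_ofNat, _root_.Fin.succ_zero_eq_one, _root_.Fin.succ_one_eq_two, _root_.Fin.reduceSucc, _root_.Finset.univ_unique, _root_.Fin.default_eq_zero, _root_.Fin.val_eq_zero, _root_.Finset.sum_const_zero, _root_.add_zero, _root_.Nat.one_mod, _root_.Nat.one_lt_ofNat, _root_.Nat.cast_one, _root_.one_mul, _root_.Nat.reduceMod, _root_.Nat.reduceLT,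 _root_.Finset.sum_singleton] at e0 e1 e2 e3 e4
      obtain ⟨u1, u2, u3, u4, u5⟩ := uniq (a0 := a' 0) (a1 := a' 1) (a2 := a' 2) (a3 := a' 3) (a4 := a' 4)
        (a5 := a' 5) hr (by linear_combination e0) (by linear_combination e1) (by linear_combination e2)
        (by linear_combination e3) (by linear_combination e4)
      fin_cases i
      · simp
      · exact u1
      · exact u2
      · exact u3
      · exact u4
      · exact u5) rfl
  refine ⟨χ, ?_⟩
  have h1 : ∑ j : Fin 6, (kk j : ℂ) * ((![1, (1 + 3 * ((Real.sqrt 5 : ℝ) : ℂ)) / 16, 1 / 4, -1 / 8,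
      (1 - 3 * ((Real.sqrt 5 : ℝ) : ℂ)) / 16, -1 / 2] : Fin 6 → ℂ) j *
      conj ((![1, (1 + 3 * ((Real.sqrt 5 : ℝ) : ℂ)) / 16, 1 / 4, -1 / 8,
      (1 - 3 * ((Real.sqrt 5 : ℝ) : ℂ)) / 16, -1 / 2] : Fin 6 → ℂ) j)) = 45 / 2 := by
    simp only [Fin.sum_univ_succ, kk, _root_.List.getD_eq_getElem?_getD, _root_.List.length_cons, _root_.List.length_nil, _root_.zero_add, _root_.Nat.reduceAdd, _root_.Fin.is_lt, _root_.getElem?_pos, _root_.Option.getD_some, _root_.one_div, _root_.Fin.isValue, _root_.Fin.coe_ofNat_eq_mod, _root_.Nat.zero_mod, _root_.List.getElem_cons_zero, _root_.Nat.cast_one, _root_.Matrix.cons_val_zero, _root_.map_one, _root_.mul_one, _root_.Fin.val_succ, _root_.List.getElem_cons_succ, _root_.Matrix.cons_val_succ, _root_.Nat.cast_ofNat, _root_.map_div₀, _root_.map_add, _root_.map_mul, _root_.Complex.conj_ofReal, _root_.map_inv₀, _root_.map_neg, _root_.map_sub, _root_.Finset.univ_unique, _root_.Fin.default_eq_zero, _root_.Fin.val_eq_zero, _root_.Matrix.cons_val_fin_one, _root_.Finset.sum_const,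 _root_.Finset.card_singleton, _root_.one_smul]
    rw [show (starRingEnd ℂ) 3 = 3 from map_ofNat _ 3, show (starRingEnd ℂ) 16 = 16 from map_ofNat _ 16,
      show (starRingEnd ℂ) 4 = 4 from map_ofNat _ 4, show (starRingEnd ℂ) 8 = 8 from map_ofNat _ 8,
      show (starRingEnd ℂ) 2 = 2 from map_ofNat _ 2]
    ring_nf
    rw [hr]
    norm_num
  rw [h1] at hχ
  have h2 : (charDegree (χ : G → ℂ) : ℂ) = 14 := by
    push_cast at hχ
    linear_combination (2 / 45) * hχ
  exact_mod_cast h2

theorem deg_14 : 14 ∈ charDegrees G := deg_14'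

end JTwo

end Cfsg.Agent.H678.S8
end

-- part: H893/S8/JTwoOut
section
/-!
# S4908, `J₂` : the piece OUT (helper893, with helper678's degree 14)
-/

set_option autoImplicit false

namespace Cfsg.Agent.H893.S8.JTwoOut

open Cfsg
open Cfsg.Agent.H704.S8 (OutRow3)

universe v

/-- **S4908, `J₂`, the field OUT** -/
theorem out_j2 {X : Type v} [Group X] (h : Spor.IsoJ2 X) : OutRow3 2 X :=
  out_of H678.S8.JTwo.deg_14 h

end Cfsg.Agent.H893.S8.JTwoOut
end

-- part: H529/S8/RJ2
section
/-!
# S4908: the row of J2 (helper529)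
-/

set_option autoImplicit false

namespace Cfsg.Agent.H529.S8.Rj2

open Cfsg Cfsg.Agent.H704.S8 Cfsg.Agent.H58.S8 Cfsg.Agent.H529.S8

universe u v

theorem row {X : Type v} [Group X] [Finite X] (h : IsJ2 X) : Row4.{u, v} 2 X := by
  refine row_of4 (mo_j2 h) ?_ (fun D hD => ?_) (fun D hD => ?_) (fun D hD => ?_) (fun D hD => ?_) (fun D hD => ?_)
  · exact fun _ => (H893.S8.JTwoOut.out_j2 (iso_j2 h)).2 rfl
  · exact H91.S8.JTwo.solv (iso_j2 h) D hD
  · exact H409.S8.JTwo.soc1 h D hD
  · exact H409.S8.JTwo.soc2 h D hD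
  · exact noNon_of_frob h.1 (by rw [h.2]; norm_num) (by norm_num) (mo_j2 h) hD (H923.S8.J2.frob_j2 base (iso_j2 h) D)
  · exact cover_prime (md_j2 h) Nat.prime_two (H858.S8.J2Cov.coverAt (iso_j2 h) hD)

end Cfsg.Agent.H529.S8.Rj2
end

private theorem dce_c2002cc25c5f : _root_.True := by
  try have : _root_.True := by simp only [_root_.Cfsg.Agent.H678.S8.JTwo.B32.eq_1]
  try have : _root_.True := by simp only [_root_.Cfsg.Agent.H678.DG.JTwoDeg.kk.eq_1]
  exact _root_.True.intro
end

-- part: H670/S8/J4Num3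
section
set_option linter.all false

/-! # A part of the computation for `J₄` (helper670) -/

set_option autoImplicit false

namespace Cfsg.Agent.H670.S8.J4

theorem num3 : part 11 5 = true := part_fast (by decide +kernel)

end Cfsg.Agent.H670.S8.J4
end

-- part: H493/S8/CoTwoDeg
section
set_option linter.all false
open scoped Cfsg.Agent.FastGrp

/-!
# S4908: the degrees of `Co₂` (helper493)

`deg_ok` : a degree of `Co₂` divides the order, is `1` or at least `23`, and has the residues `0, ±1, ±11` modulo 23,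
`0, ±1` modulo 11, `0, ±1, ±2` modulo 7.
-/

set_option autoImplicit false

namespace Cfsg.Agent.H493.S8.Co2

open Cfsg
open Cfsg.Agent.H651.Two Cfsg.Agent.H511.Ore

universe v

/-- the admissible degrees -/
def ok (d : ℕ) : Bool :=
  [0, 1, 11, 12, 22].contains (d % 23) && [0, 1, 10].contains (d % 11) && [0, 1, 2, 5, 6].contains (d % 7) &&
    (d == 1 || Nat.ble 23 d)

theorem of_any {l : List (ℕ × ℤ)} {m : ℕ} (h : (l.any fun rw => Nat.beq m rw.1) = true) : m ∈ l.map Prod.fst := by
  obtain ⟨x, hx, h1⟩ := List.any_eq_true.1 h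
  rw [Nat.eq_of_beq_eq_true h1]
  exact List.mem_map_of_mem hx

theorem deg_co {d : ℕ} (hd : d ∈ charDegrees Spor.Co2) : d ∣ 42305421312000 ∧ ok d = true := by
  classical
  have := H133.Ore.Co2.fin
  have := H133.Ore.Co2.simple
  have : Finite (IrrCharacter Spor.Co2) := Characters.Core.finite_irr
  have := Fintype.ofFinite (IrrCharacter Spor.Co2)
  obtain ⟨χ, rfl⟩ := hd
  refine ⟨by rw [← H133.Ore.Co2.card]; exact charDegree_dvd χ, ?_⟩
  have h1 := of_any (res_of_has H133.Ore.Co2.not_comm H133.Ore.Co2.card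
    (H133.Ore.Co2.has H133.Ore.Co2.c23 (by simp [H133.Ore.Co2.cd])) (by decide +kernel) χ)
  have h2 := of_any (res_of_has H133.Ore.Co2.not_comm H133.Ore.Co2.card
    (H133.Ore.Co2.has H133.Ore.Co2.c11 (by simp [H133.Ore.Co2.cd])) (by decide +kernel) χ)
  have h3 := H217.EP.Co2.res7 χ
  have h4 : charDegree (χ : Spor.Co2 → ℂ) = 1 ∨ 23 ≤ charDegree (χ : Spor.Co2 → ℂ) := by
    by_cases h : (χ : Spor.Co2 → ℂ) = 1
    · left
      have h5 : (χ : Spor.Co2 → ℂ) 1 = ((charDegree (χ : Spor.Co2 → ℂ) : ℕ) : ℂ) := by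
        obtain ⟨m, -, hm⟩ := Characters.Core.isIrr_apply_one χ.2
        rw [hm, Blocks.Basic.charDegree_of_eq hm]
      have h6 : (1 : ℂ) = ((charDegree (χ : Spor.Co2 → ℂ) : ℕ) : ℂ) := by
        rw [← h5, h]
        rfl
      exact_mod_cast h6.symm
    · exact Or.inr (H612.CoT.MinDeg.deg_ge χ h)
  rw [ok, Bool.and_eq_true, Bool.and_eq_true, Bool.and_eq_true]
  refine ⟨⟨⟨List.contains_iff_mem.2 h1, List.contains_iff_mem.2 ?_⟩, List.contains_iff_mem.2 h3⟩, ?_⟩
  · simpa [H133.Ore.Co2.c11] using h2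
  · rw [Bool.or_eq_true]
    rcases h4 with h | h
    · left; rw [h]; rfl
    · right; rw [Nat.ble_eq]; exact h

/-- **the degrees of `Co₂`** -/
theorem deg_ok {X : Type v} [Group X] (h : Spor.IsoCo2 X) {d : ℕ} (hd : d ∈ charDegrees X) :
    d ∣ 42305421312000 ∧ ok d = true := by
  obtain ⟨e⟩ := h
  rw [H424.DegTools.charDegrees_congr e] at hd
  exact deg_co hd

end Cfsg.Agent.H493.S8.Co2

private theorem dce_d7e31b14cb0d : _root_.True := by
  try have : _root_.True := by simp only [_root_.Cfsg.Agent.H493.S8.Co2.ok.eq_1]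
  exact _root_.True.intro
end

-- part: H809/S8/CoThreeSoc
section
prune_inst 0x8000000000000000000000000000014010000
set_option linter.all false
open scoped Cfsg.Agent.FastGrp

/-!
# S4908: the row SOC1 of `Co₃` (helper809)

The residues of the degrees modulo 11 and 23, the bound 21 and the nonexistence of the degrees 22 and 45 exclude the
socles of Lie type, the alternating groups and the sporadic groups except `M₂₄` and `Co₂` (hypotheses `hm`, `hc` of
`main`).
-/

set_option autoImplicit false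
set_option maxRecDepth 100000

namespace Cfsg.Agent.H809.S8.CoThree

open Cfsg Subgroup
open Cfsg.Agent.H691.AN (AlmostSimple)
open Cfsg.Agent.H653.Sieve Cfsg.Agent.H651.Two Cfsg.Agent.H511.Ore
open Cfsg.Agent.H133.Ore (Co3.c23 Co3.c11)
open Cfsg.Agent.H196.S8 (prime_deg two_deg lie_pp alt_deg exists_split prime_mem lie_five mem_of_irr mem_of_equiv
  prime_dvd_alt)

universe u v

abbrev N : ℕ := 495766656000

/-- the admissible degrees -/
def ok (d : ℕ) : Bool :=
  [0, 1, 11, 12, 22].contains (d % 23) && ([0, 1, 5, 6, 10].contains (d % 11) &&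
    ((d == 1 || Nat.ble 21 d) && (d != 22 && d != 45)))

theorem of_any {l : List (ℕ × ℤ)} {m : ℕ} (h : (l.any fun rw => Nat.beq m rw.1) = true) : m ∈ l.map Prod.fst := by
  obtain ⟨x, hx, h1⟩ := List.any_eq_true.1 h
  rw [Nat.eq_of_beq_eq_true h1]
  exact List.mem_map_of_mem hx

theorem deg_co {d : ℕ} (hd : d ∈ charDegrees Spor.Co3) : d ∣ N ∧ ok d = true := by
  have := H133.Ore.Co3.fin
  have := H133.Ore.Co3.simple
  obtain ⟨χ, rfl⟩ := hd
  refine ⟨by rw [N, ← H133.Ore.Co3.card]; exact charDegree_dvd χ, ?_⟩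
  have h1 := of_any (res_of_has H133.Ore.Co3.not_comm H133.Ore.Co3.card
    (H133.Ore.Co3.has H133.Ore.Co3.c23 (by simp [H133.Ore.Co3.cd])) (by decide +kernel) χ)
  have h2 := of_any (res_of_has H133.Ore.Co3.not_comm H133.Ore.Co3.card
    (H133.Ore.Co3.has H133.Ore.Co3.c11 (by simp [H133.Ore.Co3.cd])) (by decide +kernel) χ)
  have h3 : charDegree (χ : Spor.Co3 → ℂ) = 1 ∨ 21 ≤ charDegree (χ : Spor.Co3 → ℂ) := by
    by_cases h : (χ : Spor.Co3 → ℂ) = 1
    · left
      rw [h]
      unfold charDegree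
      simp
    · exact Or.inr (H133.Ore.Co3.minDeg21 χ h)
  have h4 := H133.Ore.Co3.no22 χ
  have h5 := H133.Ore.Co3.no45 χ
  simp only [ok, Bool.and_eq_true, Bool.or_eq_true, bne_iff_ne, beq_iff_eq, Nat.ble_eq]
  exact ⟨List.contains_iff_mem.2 h1, List.contains_iff_mem.2 h2, h3, h4, h5⟩

theorem pp_chk : ∀ r ∈ [2, 3, 5, 7, 11, 23], ∀ v ∈ List.range 39, 1 ≤ v → r ^ v ∣ N → ok (r ^ v) = true →
    r = 23 ∧ v = 1 ∨ r = 2 ∧ v = 10 := by
  decide +kernel

theorem pp {r v : ℕ} (hr : r.Prime) (hv : 0 < v) (h : r ^ v ∣ N ∧ ok (r ^ v) = true) :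
    r = 23 ∧ v = 1 ∨ r = 2 ∧ v = 10 := by
  have h3 : r ∈ H133.Ore.Co3.facs.map Prod.fst := prime_mem hr H133.Ore.Co3.facs
    (fun x hx => by
      simp only [H133.Ore.Co3.facs, List.mem_cons, List.not_mem_nil, or_false] at hx
      rcases hx with rfl | rfl | rfl | rfl | rfl | rfl <;> norm_num)
    (by rw [H133.Ore.Co3.facs_prod]; exact (dvd_pow_self r hv.ne').trans h.1)
  have h4 : v < 39 := by
    by_contra hcon
    have h5 : 2 ^ 39 ≤ r ^ v := (Nat.pow_le_pow_right (by norm_num) (by omega)).trans (Nat.pow_le_pow_left hr.two_le v)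
    have h6 : r ^ v ≤ 495766656000 := Nat.le_of_dvd (by norm_num) h.1
    norm_num at h5
    omega
  have h7 : r ∈ [2, 3, 5, 7, 11, 23] := by
    simp only [H133.Ore.Co3.facs, List.map_cons, List.map_nil, List.mem_cons, List.not_mem_nil, or_false] at h3
    simp only [List.mem_cons, List.not_mem_nil, or_false]
    tauto
  exact pp_chk r h7 v (List.mem_range.2 h4) hv h.1 h.2

theorem low_chk : ∀ x ∈ [6, 7, 8, 9, 10, 11, 16, 20, 21, 22, 24, 32, 36, 42, 44, 45, 48, 72, 78, 88, 90, 156],
    x ∣ N → ok x = true → False := by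
  decide +kernel

section

variable {A : Type u} [Group A] [Finite A] {S : Subgroup A} (hA : AlmostSimple A S)
  (hD : ∀ d ∈ charDegrees A, d ∣ N ∧ ok d = true)

include hA hD

theorem pr {p : ℕ} (hp : p.Prime) (hd : p ∣ Nat.card S) : p ∣ N := by
  obtain ⟨d, h1, h2⟩ := prime_deg hA hp hd
  exact h2.trans (hD d h1).1

theorem two (hout : Nat.card (Out S) ≤ 2) {a : ℕ} (ha : a ∈ charDegrees S)
    (h1 : a ∣ N → ok a = true → False)
    (h2 : 2 * a ∣ N → ok (2 * a) = true → False) : False := by
  rcases two_deg hA hout ha with h | h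
  · exact h1 (hD _ h).1 (hD _ h).2
  · exact h2 (hD _ h).1 (hD _ h).2

theorem lie_two (hl : IsLieTypeChar 2 S) : False := by
  refine H75.S8.lie_two_false (D := {d | d ∣ N ∧ ok d = true}) ?_ ?_ ?_ ?_ hA hD hl
  · intro a ha h
    rcases pp Nat.prime_two ha h with h1 | h1
    · omega
    · exact Or.inl h1.2
  · rintro d ⟨h1, -⟩ r hr h2
    have h3 := h2.trans h1
    simp only [List.mem_cons, List.not_mem_nil, or_false] at hr
    rcases hr with rfl | rfl | rfl | rfl <;> norm_num at h3
  · exact fun h => low_chk 44 (by decide) h.1 h.2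
  · exact fun h => low_chk 88 (by decide) h.1 h.2

theorem lie_23 (hl : IsLieTypeChar 23 S) : False := by
  have := hA.normal
  have := hA.simple
  have hp : Nat.Prime 23 := by norm_num
  have hi : S.index ∣ Nat.card (Cfsg.Out S) := H816.OutEmb.index_dvd S (by rw [hA.cent]; exact bot_le)
  obtain ⟨t, k, hv, ht, h1, h2⟩ := H690.S8.typ_mem_D (D := {d | d ∣ N ∧ ok d = true}) S hD hp hl
  have ha : k * t.N = 1 := by
    rcases pp hp h1 h2 with h | h
    · exact h.2
    · omega
  obtain ⟨rfl, rfl⟩ := H690.S8.typ_prime hv ha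
  obtain ⟨F, _, _, hF, ⟨e⟩⟩ := ht
  rw [pow_one] at hF
  obtain ⟨-, h6, -⟩ := H664.R1.PSLTwo.degrees_odd (F := F)
    (by rw [hF]; exact hp.odd_of_ne_two (by omega)) (by rw [hF]; norm_num)
  rw [hF] at h6
  have : Fact (Nat.Prime 23) := ⟨hp⟩
  have ho : Nat.card (Out S) = 2 := by
    rw [Nat.card_congr (H234.OutGood.outCongr e).toEquiv,
      H60.HalfPsl.card_out (F := F) (p := 23) (f := 1) (by norm_num) (by rw [pow_one]; exact hF)
        (by norm_num), pow_one, mul_one]
    decide
  exact two hA hD ho.le (H657.DS.mem_equiv e h6) (low_chk 24 (by decide)) (low_chk 48 (by decide))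

theorem lie {r : ℕ} (hr : r.Prime) (h : IsLieTypeChar r S) : False := by
  obtain ⟨v, hv, h1⟩ := lie_pp hA hr h
  rcases pp hr hv (hD _ h1) with ⟨rfl, -⟩ | ⟨rfl, -⟩
  · exact lie_23 hA hD h
  · exact lie_two hA hD h

theorem alt {m : ℕ} (hm : 5 ≤ m) (e : S ≃* alternatingGroup (Fin m)) : False := by
  rcases Nat.lt_or_ge m 7 with h7 | h7
  · have : m = 5 ∨ m = 6 := by omega
    rcases this with rfl | rfl
    · exact lie hA hD (by norm_num) (lie_five e)
    · exact lie hA hD (r := 3) (by norm_num) (H679.isLie_six ⟨e⟩)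
  · have h18 : m ≤ 12 := by
      by_contra hcon
      have h1 := pr hA hD (p := 13) (by norm_num)
        (by rw [Nat.card_congr e.toEquiv]; exact prime_dvd_alt (by norm_num) (by norm_num) hm (by omega))
      norm_num at h1
    have h1 := hD _ (alt_deg hA h7 e)
    refine low_chk (m - 1) ?_ h1.1 h1.2
    interval_cases m <;> decide

theorem tits (h : Lie.IsoTits S) : False := by
  have hout := H489.card_out_tits h
  obtain ⟨e⟩ := h
  obtain ⟨f⟩ := H707.RowTits.equiv
  exact two hA hD hout (mem_of_equiv (e.trans f) H678.DG.Tits.deg_78) (low_chk 78 (by decide)) (low_chk 156 (by decide))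

theorem spor (hm : Spor.IsoM24 S → False) (hc : Spor.IsoCo2 S → False) (h : IsSporadicGroup S) : Spor.IsoCo3 S := by
  have hout := H489.card_out_sporadic h
  have key : ∀ {a : ℕ}, a ∈ charDegrees S → (a ∣ N → ok a = true → False) →
      (2 * a ∣ N → ok (2 * a) = true → False) → Spor.IsoCo3 S :=
    fun ha h1 h2 => (two hA hD hout ha h1 h2).elim
  have kp : ∀ {p M : ℕ}, p.Prime → Nat.card S = M → p ∣ M → ¬ p ∣ N → Spor.IsoCo3 S :=
    fun hp h1 h2 h3 => (h3 (pr hA hD hp (by rw [h1]; exact h2))).elim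
  rcases h with h | h | h | h | h | h | h | h | h | h | h | h | h | h | h | h | h | h | h | h | h | h | h | h | h | h
  · obtain ⟨h1, h2, -⟩ := H603.FD.Spor.m11 (UGT.End.MEleven.isM11 h)
    exact key h1 (low_chk 10 (by decide)) (low_chk 20 (by decide))
  · obtain ⟨h1, h2, -⟩ := H603.FD.Spor.m12 (H603.FD.Spor.isM12 h)
    exact key h1 (low_chk 16 (by decide)) (low_chk 32 (by decide))
  · obtain ⟨h1, h2, -⟩ := H603.FD.Spor.m22 (H417.RecogMathieu.isM22 h)
    exact key h1 (low_chk 21 (by decide)) (low_chk 42 (by decide))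
  · obtain ⟨h1, h2, -⟩ := H603.FD.Spor.m23 (H417.RecogMathieu.isM23 h)
    exact key h2 (low_chk 45 (by decide)) (low_chk 90 (by decide))
  · exact (hm h).elim
  · exact kp (p := 19) (by norm_num) (NotCT.Orders.j1 h) (by norm_num) (by norm_num)
  · exact key (H672.SporIM.j2 h).2 (low_chk 36 (by decide)) (low_chk 72 (by decide))
  · exact kp (p := 19) (by norm_num) (NotCT.Orders.j3 h) (by norm_num) (by norm_num)
  · exact kp (p := 43) (by norm_num) (NotCT.Orders.j4 h) (by norm_num) (by norm_num)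
  · exact kp (p := 13) (by norm_num) (NotCT.Orders.co1 h) (by norm_num) (by norm_num)
  · exact (hc h).elim
  · exact h
  · exact key (mem_of_irr (H765.DS.HSMcL.mcl_22 h)) (low_chk 22 (by decide)) (low_chk 44 (by decide))
  · exact key (mem_of_irr (H765.DS.HSMcL.hs_22 h)) (low_chk 22 (by decide)) (low_chk 44 (by decide))
  · exact kp (p := 13) (by norm_num) (NotCT.Orders.suz h) (by norm_num) (by norm_num)
  · exact kp (p := 17) (by norm_num) (NotCT.Orders.he h) (by norm_num) (by norm_num)
  · exact kp (p := 29) (by norm_num) (NotCT.Orders.ru h) (by norm_num) (by norm_num)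
  · exact kp (p := 31) (by norm_num) (NotCT.Orders.on h) (by norm_num) (by norm_num)
  · exact kp (p := 67) (by norm_num) (NotCT.Orders.ly h) (by norm_num) (by norm_num)
  · exact kp (p := 13) (by norm_num) (NotCT.Orders.fi22 h) (by norm_num) (by norm_num)
  · exact kp (p := 13) (by norm_num) (NotCT.Orders.fi23 h) (by norm_num) (by norm_num)
  · exact kp (p := 29) (by norm_num) (NotCT.Orders.fi24 h) (by norm_num) (by norm_num)
  · exact kp (p := 19) (by norm_num) (NotCT.Orders.hn h) (by norm_num) (by norm_num)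
  · exact kp (p := 31) (by norm_num) (NotCT.Orders.th h) (by norm_num) (by norm_num)
  · exact kp (p := 47) (by norm_num) (NotCT.Orders.b h) (by norm_num) (by norm_num)
  · exact kp (p := 71) (by norm_num) (NotCT.Orders.m h) (by norm_num) (by norm_num)

theorem main (hm : Spor.IsoM24 S → False) (hc : Spor.IsoCo2 S → False) : Spor.IsoCo3 S := by
  have := hA.simple
  rcases exists_split S hA.nonab with ⟨l, hl, ⟨e⟩⟩ | ⟨r, hr, h⟩ | h | h
  · exact (alt hA hD hl e).elim
  · exact (lie hA hD hr h).elim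
  · exact (tits hA hD h).elim
  · exact spor hA hD hm hc h

end

/-- the row with the two exceptional pairs as hypotheses -/
theorem soc1_of
    (hm : ∀ (A : Type u) [Group A] [Finite A] (S : Subgroup A), AlmostSimple A S →
      charDegrees A ⊆ charDegrees Spor.Co3 → Spor.IsoM24 S → False)
    (hc : ∀ (A : Type u) [Group A] [Finite A] (S : Subgroup A), AlmostSimple A S →
      charDegrees A ⊆ charDegrees Spor.Co3 → Spor.IsoCo2 S → False)
    {X : Type v} [Group X] (hX : Spor.IsoCo3 X) {D : Set ℕ} (hD : H704.S8.Deg 1 X D) :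
    H704.S8.Soc1.{u} D X := by
  intro A _ _ S hA h
  obtain rfl : D = charDegrees X := hD.resolve_right fun h => absurd h.1 (by norm_num)
  obtain ⟨f⟩ := hX
  have h1 : charDegrees A ⊆ charDegrees Spor.Co3 := fun d hd => mem_of_equiv f.symm (h hd)
  obtain ⟨e⟩ := main hA (fun d hd => deg_co (h1 hd)) (hm A S hA h1) (hc A S hA h1)
  exact ⟨e.trans f.symm⟩

end Cfsg.Agent.H809.S8.CoThree

private theorem dce_bd12a526814c : _root_.True := by
  try have : _root_.True := by simp only [_root_.Cfsg.Agent.H809.S8.CoThree.ok.eq_1]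
  try have : _root_.True := by simp only [_root_.Cfsg.Agent.H809.S8.CoThree.N.eq_1]
  exact _root_.True.intro
end

-- part: H809/S8/CoThreeRow
section
set_option linter.all false

/-!
# S4908: the row SOC1 of `Co₃`, final form (helper809)
-/

set_option autoImplicit false

namespace Cfsg.Agent.H809.S8.CoThree

open Cfsg

universe u v

/-- **SOC1 for `Co₃`**, model version -/
theorem soc1_iso {X : Type v} [Group X] (hX : Spor.IsoCo3 X) {D : Set ℕ} (hD : H704.S8.Deg 1 X D) :
    H704.S8.Soc1.{u} D X :=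
  soc1_of (fun _ _ _ _ hA h hm => H974.S8.no_m24_co3 hA hm h) (fun _ _ _ _ hA h hc => H974.S8.no_co2_co3 hA hc h)
    hX hD

/-- **SOC1 for `Co₃`** -/
theorem soc1 {X : Type v} [Group X] [Finite X] (hX : Cfsg.IsCo3 X) {D : Set ℕ} (hD : H704.S8.Deg 1 X D) :
    H704.S8.Soc1.{u} D X := soc1_iso (H58.S8.iso_co3 hX) hD

end Cfsg.Agent.H809.S8.CoThree
end

-- part: H586/S8/Co3
section
set_option linter.all false

/-!
# S4908: the row SOC2 of `Co₃` (helper586)
-/

set_option autoImplicit false
set_option maxRecDepth 100000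

namespace Cfsg.Agent.H586.S8.Co3

open Cfsg Cfsg.Agent.H450.S8 Cfsg.Agent.H586.S8

universe u v

/-- the degrees -/
theorem num {X : Type v} [Group X] (hX : Spor.IsoCo3 X) :
    Num (charDegrees X) 495766656000 (resP H970.Ore.Deg.cd 21) := by
  have := H970.Ore.Deg.fin hX
  have := H970.Ore.Deg.simple hX
  exact num_of (H970.Ore.Deg.not_comm hX) (H970.Ore.Deg.card hX) (H970.Ore.Deg.minDeg hX) H970.Ore.Deg.ok
    (H970.Ore.Deg.has hX)

theorem test : soc2Test 495766656000 (P1 495766656000 (resP H970.Ore.Deg.cd 21)) H970.Ore.Deg.facs = true := by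
  decide +kernel

/-- **SOC2 for `Co₃`**, model version -/
theorem soc2_iso {X : Type v} [Group X] (hX : Spor.IsoCo3 X) {D : Set ℕ} (hD : H704.S8.Deg 1 X D) :
    H704.S8.Soc2.{u} D :=
  soc2_one (num hX) (fun x hx => of_decide_eq_true (List.all_eq_true.1 H970.Ore.Deg.facs_prime x hx)) test hD

/-- **SOC2 for `Co₃`** -/
theorem soc2 {X : Type v} [Group X] [Finite X] (hX : Cfsg.IsCo3 X) {D : Set ℕ} (hD : H704.S8.Deg 1 X D) :
    H704.S8.Soc2.{u} D := soc2_iso (H58.S8.iso_co3 hX) hD

end Cfsg.Agent.H586.S8.Co3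
end

-- part: H494/S8/Fi22C3_mg
section
prune_inst 0x210002150044012000000000000004020600001900020080000000400000101200000a10000801102100202000001000002000040000000000004000000000000802890000100019102000901128f090000008000000000000000000000000000014010000
set_option linter.all false
open scoped Cfsg.Agent.FastGrp

-- part: H494/S8/FiSearch
section
/-!
# S4908, Fi22 (helper494): the search of helper618 with the whole result

The same search as in `H618/LD/Num.lean`, with the result: all four signed degrees lie in `LA`, or all in `LB`.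
-/

set_option autoImplicit false

namespace Cfsg.Agent.H494.S8.FiSearch

open Cfsg.Agent.H618.LD.Num Cfsg.Agent.H618.LD.Use

def al (L : List ℕ) (x y z u : ℕ) : Bool := cond (memN x L) (cond (memN y L) (cond (memN z L) (memN u L) false) false) false

def t4 (LA LB : List ℕ) (x y z u : ℕ) : Bool := cond (al LA x y z u) true (al LB x y z u)

def All (L : List ℕ) (x y z u : ℕ) : Prop := x ∈ L ∧ y ∈ L ∧ z ∈ L ∧ u ∈ L

theorem al_spec {L : List ℕ} {x y z u : ℕ} (h : al L x y z u = true) : All L x y z u := by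
  unfold al at h
  rw [cond_tf, cond_tf, cond_tf] at h
  exact ⟨memN_spec h.1, memN_spec h.2.1, memN_spec h.2.2.1, memN_spec h.2.2.2⟩

theorem t4_spec {LA LB : List ℕ} {x y z u : ℕ} (h : t4 LA LB x y z u = true) : All LA x y z u ∨ All LB x y z u := by
  unfold t4 at h
  rcases cond_or' h with h | h
  · exact Or.inl (al_spec h)
  · exact Or.inr (al_spec h)
where
  cond_or' {b y : Bool} (h : cond b true y = true) : b = true ∨ y = true := by cases b <;> simp at h <;> tauto

def slv (LA LB : List ℕ) (kn : KD) (x : ℕ) (lx : List ℕ) (y : ℕ) (ly : List ℕ) (z : ℕ) (lz : List ℕ) (u : ℕ) : Bool :=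
  frc (ab u) fun au =>
  allL (fun wx => frc (Nat.add kn.C (Nat.mul x wx)) fun P1 => frc (Nat.add kn.W wx) fun Q1 =>
    allL (fun wy => frc (Nat.add P1 (Nat.mul y wy)) fun P2 => frc (Nat.add Q1 wy) fun Q2 =>
      allL (fun wz => frc (Nat.add P2 (Nat.mul z wz)) fun P => frc (Nat.mul 100000000 (Nat.add Q2 wz)) fun Q =>
        frc (Nat.add (Nat.sub P Q) (Nat.sub Q P)) fun n =>
        cond (Nat.beq (Nat.mod n au) 0) (frc (Nat.div n au) fun wu =>
          cond (Nat.beq (Nat.add P (Nat.mul u wu)) (Nat.add Q (Nat.mul 100000000 wu)))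
            (cond (Nat.beq (Nat.add kn.C2 (Nat.add (Nat.mul x (Nat.mul wx wx)) (Nat.add (Nat.mul y (Nat.mul wy wy))
                (Nat.add (Nat.mul z (Nat.mul wz wz)) (Nat.mul u (Nat.mul wu wu))))))
                (Nat.mul 100000000 (Nat.add kn.W2 (Nat.add (Nat.mul wx wx) (Nat.add (Nat.mul wy wy)
                (Nat.add (Nat.mul wz wz) (Nat.mul wu wu)))))))
              (t4 LA LB x y z u) true) true) true) lz) ly) lx

theorem slv_spec {LA LB : List ℕ} {kn : KD} {x : ℕ} {lx : List ℕ} {y : ℕ} {ly : List ℕ} {z : ℕ} {lz : List ℕ} {u : ℕ}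
    (h : slv LA LB kn x lx y ly z lz u = true) {wx wy wz wu : ℕ} (hx : wx ∈ lx) (hy : wy ∈ ly) (hz : wz ∈ lz)
    (hu : u ≠ 100000000)
    (e1 : kn.C + (x * wx + (y * wy + (z * wz + u * wu))) = 100000000 * (kn.W + (wx + (wy + (wz + wu)))))
    (e2 : kn.C2 + (x * (wx * wx) + (y * (wy * wy) + (z * (wz * wz) + u * (wu * wu)))) =
      100000000 * (kn.W2 + (wx * wx + (wy * wy + (wz * wz + wu * wu))))) : All LA x y z u ∨ All LB x y z u := by
  unfold slv at h
  simp only [Nat.add_eq, Nat.mul_eq, Nat.sub_eq, frc_eq] at h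
  have h1 := allL_iff.1 (allL_iff.1 (allL_iff.1 h wx hx) wy hy) wz hz
  simp only [cond_ft] at h1
  have hab : ab u = (u - 100000000) + (100000000 - u) := rfl
  have hpos : 0 < ab u := by rw [hab]; omega
  have key : kn.C + x * wx + y * wy + z * wz - 100000000 * (kn.W + wx + wy + wz) +
      (100000000 * (kn.W + wx + wy + wz) - (kn.C + x * wx + y * wy + z * wz)) = ab u * wu := by
    generalize hP : kn.C + x * wx + y * wy + z * wz = P
    generalize hQ : 100000000 * (kn.W + wx + wy + wz) = Q
    have e3 : P + u * wu = Q + 100000000 * wu := by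
      rw [← hP, ← hQ]
      calc kn.C + x * wx + y * wy + z * wz + u * wu = kn.C + (x * wx + (y * wy + (z * wz + u * wu))) := by ring
        _ = _ := e1
        _ = _ := by ring
    rcases le_total u 100000000 with h3 | h3
    · obtain ⟨k, hk⟩ := Nat.exists_eq_add_of_le h3
      have h4 : ab u = k := by rw [hab]; (clear * - h3 hk; omega)
      have h5 : 100000000 * wu = u * wu + k * wu := by rw [← add_mul, ← hk]
      rw [h4]
      (clear * - e1 hP hQ h5; omega)
    · obtain ⟨k, hk⟩ := Nat.exists_eq_add_of_le h3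
      have h4 : ab u = k := by rw [hab]; (clear * - hk; omega)
      have h5 : u * wu = 100000000 * wu + k * wu := by rw [← add_mul, ← hk]
      rw [h4]
      (clear * - e1 hP hQ h5; solve | lia | omega)
  rw [key] at h1
  have h2 := h1 (_root_.Cfsg.Agent.H618.LD.Num.beq_of_eq (by show ab u * wu % ab u = 0; exact Nat.mul_mod_right _ _))
  have h3 : Nat.div (ab u * wu) (ab u) = wu := by
    show ab u * wu / ab u = wu
    exact Nat.mul_div_cancel_left _ hpos
  rw [h3] at h2
  refine t4_spec (h2 (_root_.Cfsg.Agent.H618.LD.Num.beq_of_eq ?_) (_root_.Cfsg.Agent.H618.LD.Num.beq_of_eq e2))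
  calc kn.C + x * wx + y * wy + z * wz + u * wu = kn.C + (x * wx + (y * wy + (z * wz + u * wu))) := by ring
    _ = _ := e1
    _ = _ := by ring

def sel (LA LB : List ℕ) (kn : KD) (a : ℕ) (la : List ℕ) (b : ℕ) (lb : List ℕ) (c : ℕ) (lc : List ℕ) (r : ℕ)
    (lr : List ℕ) : Bool :=
  frc (len la) fun na => frc (len lb) fun nb => frc (len lc) fun nc => frc (len lr) fun nr =>
    cond (cond (Nat.ble na nr) (cond (Nat.ble nb nr) (Nat.ble nc nr) false) false) (slv LA LB kn a la b lb c lc r)
      (cond (cond (Nat.ble na nc) (Nat.ble nb nc) false) (slv LA LB kn a la b lb r lr c)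
        (cond (Nat.ble na nb) (slv LA LB kn a la c lc r lr b) (slv LA LB kn b lb c lc r lr a)))

theorem sel_spec {LA LB : List ℕ} {kn : KD} {a : ℕ} {la : List ℕ} {b : ℕ} {lb : List ℕ} {c : ℕ} {lc : List ℕ} {r : ℕ}
    {lr : List ℕ} (h : sel LA LB kn a la b lb c lc r lr = true) {wa wb wc wr : ℕ} (ha : wa ∈ la) (hb : wb ∈ lb)
    (hc : wc ∈ lc) (hr : wr ∈ lr) (na : a ≠ 100000000) (nb : b ≠ 100000000) (nc : c ≠ 100000000) (nr : r ≠ 100000000)
    (e1 : kn.C + (a * wa + (b * wb + (c * wc + r * wr))) = 100000000 * (kn.W + (wa + (wb + (wc + wr)))))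
    (e2 : kn.C2 + (a * (wa * wa) + (b * (wb * wb) + (c * (wc * wc) + r * (wr * wr)))) =
      100000000 * (kn.W2 + (wa * wa + (wb * wb + (wc * wc + wr * wr))))) : All LA a b c r ∨ All LB a b c r := by
  have p1 : kn.C + (a * wa + (b * wb + (r * wr + c * wc))) = 100000000 * (kn.W + (wa + (wb + (wr + wc)))) := by omega
  have p2 : kn.C + (a * wa + (c * wc + (r * wr + b * wb))) = 100000000 * (kn.W + (wa + (wc + (wr + wb)))) := by (clear * - e1; omega)
  have p3 : kn.C + (b * wb + (c * wc + (r * wr + a * wa))) = 100000000 * (kn.W + (wb + (wc + (wr + wa)))) := by (clear * - e1; omega)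
  have q1 : kn.C2 + (a * (wa * wa) + (b * (wb * wb) + (r * (wr * wr) + c * (wc * wc)))) =
      100000000 * (kn.W2 + (wa * wa + (wb * wb + (wr * wr + wc * wc)))) := by (clear * - e2; omega)
  have q2 : kn.C2 + (a * (wa * wa) + (c * (wc * wc) + (r * (wr * wr) + b * (wb * wb)))) =
      100000000 * (kn.W2 + (wa * wa + (wc * wc + (wr * wr + wb * wb)))) := by (clear * - e2; omega)
  have q3 : kn.C2 + (b * (wb * wb) + (c * (wc * wc) + (r * (wr * wr) + a * (wa * wa)))) =
      100000000 * (kn.W2 + (wb * wb + (wc * wc + (wr * wr + wa * wa)))) := by (clear * - e2; omega)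
  unfold sel at h
  simp only [frc_eq] at h
  rcases cond_or h with h | h
  · exact slv_spec h ha hb hc nr e1 e2
  rcases cond_or h with h | h
  · have h3 := slv_spec h ha hb hr nc p1 q1
    unfold All at h3 ⊢
    itauto
  rcases cond_or h with h | h
  · have h3 := slv_spec h ha hc hr nb p2 q2
    unfold All at h3 ⊢
    itauto
  · have h3 := slv_spec h hb hc hr na p3 q3
    unfold All at h3 ⊢
    itauto

def inner (LA LB : List ℕ) (KN : List KD) (t : List (ℕ × List ℕ)) (a b c r : ℕ) : Bool :=
  withL t a fun la => withL t b fun lb => withL t c fun lc => withL t r fun lr =>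
    allL (fun kn => sel LA LB kn a la b lb c lc r lr) KN

def gg (q m : ℕ) (LA LB : List ℕ) (KN : List KD) (t : List (ℕ × List ℕ)) (a b c r : ℕ) : Bool :=
  cond (okr q m r) (inner LA LB KN t a b c r) true

theorem inner_spec {LA LB : List ℕ} {KN : List KD} {t : List (ℕ × List ℕ)} {rs : ℕ → ℕ → Bool}
    (ht : ∀ x ∈ t, chkRow rs x.1 x.2 = true) {a b c r : ℤ} (na : a.natAbs < 100000000) (nb : b.natAbs < 100000000)
    (nc : c.natAbs < 100000000) (nr : r.natAbs < 100000000)
    (h : inner LA LB KN t (cd a) (cd b) (cd c) (cd r) = true) {wa wb wc wr : ℤ}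
    (ha : Adm a.natAbs wa) (hb : Adm b.natAbs wb) (hc : Adm c.natAbs wc) (hr : Adm r.natAbs wr)
    (ra : rs a.natAbs (wa + 3510).toNat = true) (rb : rs b.natAbs (wb + 3510).toNat = true)
    (rc : rs c.natAbs (wc + 3510).toNat = true) (rr : rs r.natAbs (wr + 3510).toNat = true) {kn : KD} (hkn : kn ∈ KN)
    (e1 : (kn.C : ℤ) - 100000000 * kn.W + a * (wa + 3510) + b * (wb + 3510) + c * (wc + 3510) + r * (wr + 3510) = 0)
    (e2 : (kn.C2 : ℤ) - 100000000 * kn.W2 + a * (wa + 3510) ^ 2 + b * (wb + 3510) ^ 2 + c * (wc + 3510) ^ 2 +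
      r * (wr + 3510) ^ 2 = 0) :
    All LA (cd a) (cd b) (cd c) (cd r) ∨ All LB (cd a) (cd b) (cd c) (cd r) := by
  unfold inner at h
  obtain ⟨la, h1, h⟩ := withL_spec h
  obtain ⟨lb, h2, h⟩ := withL_spec h
  obtain ⟨lc, h3, h⟩ := withL_spec h
  obtain ⟨lr, h4, h⟩ := withL_spec h
  have h5 := allL_iff.1 h kn hkn
  have k1 := ht _ h1
  have k2 := ht _ h2
  have k3 := ht _ h3
  have k4 := ht _ h4
  simp only [ab_cd na] at k1
  simp only [ab_cd nb] at k2
  simp only [ab_cd nc] at k3
  simp only [ab_cd nr] at k4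
  have m1 := chkRow_spec k1 ha ra
  have m2 := chkRow_spec k2 hb rb
  have m3 := chkRow_spec k3 hc rc
  have m4 := chkRow_spec k4 hr rr
  have ba := ha.bd
  have bb := hb.bd
  have bc := hc.bd
  have br := hr.bd
  have oa := ha.one
  have ob := hb.one
  have oc := hc.one
  have or' := hr.one
  have ca := cd_cast na
  have cb := cd_cast nb
  have cc := cd_cast nc
  have cr := cd_cast nr
  have wa' : (((wa + 3510).toNat : ℕ) : ℤ) = wa + 3510 := Int.toNat_of_nonneg (by (clear * - ba; omega))
  have wb' : (((wb + 3510).toNat : ℕ) : ℤ) = wb + 3510 := Int.toNat_of_nonneg (by (clear * - bb; omega))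
  have wc' : (((wc + 3510).toNat : ℕ) : ℤ) = wc + 3510 := Int.toNat_of_nonneg (by (clear * - bc; omega))
  have wr' : (((wr + 3510).toNat : ℕ) : ℤ) = wr + 3510 := Int.toNat_of_nonneg (by (clear * - br; omega))
  refine sel_spec h5 m1 m2 m3 m4 (by (clear * - oa ca; omega)) (by (clear * - ob cb; omega)) (by (clear * - oc cc; omega)) (by (clear * - or' cr; omega)) ?_ ?_
  · zify
    rw [ca, cb, cc, cr, wa', wb', wc', wr']
    linear_combination e1
  · zify
    rw [ca, cb, cc, cr, wa', wb', wc', wr']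
    linear_combination e2

/-- **The search.** -/
theorem search {LA LB : List ℕ} {KN : List KD} {t : List (ℕ × List ℕ)} {rs : ℕ → ℕ → Bool} {q m : ℕ} {D : List ℕ} {K : ℕ}
    (hD : D.Pairwise fun x y => ab x < ab y) (ht : ∀ x ∈ t, chkRow rs x.1 x.2 = true)
    (h : tri D K (gg q m LA LB KN t) = true) {S : ℤ} (hK : (K : ℤ) = 400000000 - S) {a b c r : ℤ}
    (na : a.natAbs < 100000000) (nb : b.natAbs < 100000000)
    (nc : c.natAbs < 100000000) (nr : r.natAbs < 100000000) {wa wb wc wr : ℤ}
    (ha : Adm a.natAbs wa) (hb : Adm b.natAbs wb) (hc : Adm c.natAbs wc) (hr : Adm r.natAbs wr)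
    (ra : rs a.natAbs (wa + 3510).toNat = true) (rb : rs b.natAbs (wb + 3510).toNat = true)
    (rc : rs c.natAbs (wc + 3510).toNat = true) (rr : rs r.natAbs (wr + 3510).toNat = true)
    (ma : cd a ∈ D) (mb : cd b ∈ D) (mc : cd c ∈ D) (hab : a.natAbs ≤ b.natAbs) (hbc : b.natAbs ≤ c.natAbs)
    (hm : m / 2 ^ (r.natAbs % q) % 2 = 1) {kn : KD} (hkn : kn ∈ KN)
    (e0 : S + a + b + c + r = 0)
    (e1 : (kn.C : ℤ) - 100000000 * kn.W + a * (wa + 3510) + b * (wb + 3510) + c * (wc + 3510) + r * (wr + 3510) = 0)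
    (e2 : (kn.C2 : ℤ) - 100000000 * kn.W2 + a * (wa + 3510) ^ 2 + b * (wb + 3510) ^ 2 + c * (wc + 3510) ^ 2 +
      r * (wr + 3510) ^ 2 = 0) :
    All LA (cd a) (cd b) (cd c) (cd r) ∨ All LB (cd a) (cd b) (cd c) (cd r) := by
  have h1 := tri_spec hD h ma mb mc (by rw [ab_cd na, ab_cd nb]; exact hab) (by rw [ab_cd nb, ab_cd nc]; exact hbc)
  have h2 : K - (cd a + (cd b + cd c)) = cd r := by
    have ca := cd_cast na
    have cb := cd_cast nb
    have cc := cd_cast nc
    have cr := cd_cast nr
    (clear * - hK e0 ca cb cc cr; omega)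
  rw [h2] at h1
  unfold gg at h1
  rw [cond_ft] at h1
  exact inner_spec ht na nb nc nr (h1 (okr_of (by rw [ab_cd nr]; exact hr.dvd) (by rw [ab_cd nr]; exact hr.sq)
    (by rw [ab_cd nr]; exact hm))) ha hb hc hr ra rb rc rr hkn e1 e2

/-- the use of the search: the members of `F` and `Θ` -/
theorem use {p q m : ℕ} (hp1 : 1 < p) {D : List ℕ} {tab : List (ℕ × List ℕ)} {rs : ℕ → ℕ → Bool} {LA LB : List ℕ}
    {KN : List KD} {K : ℕ} {S : ℤ} (hD : D.Pairwise fun x y => ab x < ab y) (hDD : chkD p q m D = true)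
    (ht : allL (fun x : ℕ × List ℕ => chkRow rs x.1 x.2) tab = true) (main : tri D K (gg q m LA LB KN tab) = true)
    (hK : (K : ℤ) = 400000000 - S) {α : Type*} [DecidableEq α] {F : Finset α} (hF : F.card = 3) {c w : α → ℤ} {Θ : α}
    (hadm : ∀ χ, χ ∈ F ∨ χ = Θ → Adm (c χ).natAbs (w χ))
    (hrs : ∀ χ, χ ∈ F ∨ χ = Θ → rs (c χ).natAbs (w χ + 3510).toNat = true)
    (hbit : ∀ χ, χ ∈ F ∨ χ = Θ → m / 2 ^ ((c χ).natAbs % q) % 2 = 1) (hcp : ∀ χ ∈ F, (p : ℤ) ∣ c χ - 1) {kn : KD}
    (hkn : kn ∈ KN) (e0 : S + ∑ χ ∈ F, c χ + c Θ = 0)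
    (e1 : (kn.C : ℤ) - 100000000 * kn.W + ∑ χ ∈ F, c χ * (w χ + 3510) + c Θ * (w Θ + 3510) = 0)
    (e2 : (kn.C2 : ℤ) - 100000000 * kn.W2 + ∑ χ ∈ F, c χ * (w χ + 3510) ^ 2 + c Θ * (w Θ + 3510) ^ 2 = 0) :
    (∀ χ, χ ∈ F ∨ χ = Θ → cd (c χ) ∈ LA) ∨ (∀ χ, χ ∈ F ∨ χ = Θ → cd (c χ) ∈ LB) := by
  obtain ⟨x, y, z, hxy, hxz, hyz, rfl, h1, h2⟩ := sort3 hF fun χ => (c χ).natAbs
  have mx : x ∈ ({x, y, z} : Finset α) := by simp
  have my : y ∈ ({x, y, z} : Finset α) := by simp
  have mz : z ∈ ({x, y, z} : Finset α) := by simp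
  have ax := hadm x (Or.inl mx)
  have ay := hadm y (Or.inl my)
  have az := hadm z (Or.inl mz)
  have aΘ := hadm Θ (Or.inr rfl)
  have hs : ∀ g : α → ℤ, ∑ χ ∈ ({x, y, z} : Finset α), g χ = g x + g y + g z := by
    intro g
    rw [Finset.sum_insert (by simp [hxy, hxz]), Finset.sum_pair hyz]
    ring
  rw [hs] at e0 e1 e2
  have hR := search hD (fun a ha => allL_iff.1 ht a ha) main hK (adm_lt ax) (adm_lt ay) (adm_lt az) (adm_lt aΘ)
    ax ay az aΘ (hrs x (Or.inl mx)) (hrs y (Or.inl my)) (hrs z (Or.inl mz)) (hrs Θ (Or.inr rfl))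
    (chkD_spec hp1 hDD ax (adm_lt ax) (hbit x (Or.inl mx)) (hcp x mx))
    (chkD_spec hp1 hDD ay (adm_lt ay) (hbit y (Or.inl my)) (hcp y my))
    (chkD_spec hp1 hDD az (adm_lt az) (hbit z (Or.inl mz)) (hcp z mz)) h1 h2 (hbit Θ (Or.inr rfl)) hkn
    (by linear_combination e0) (by linear_combination e1) (by linear_combination e2)
  have mem : ∀ s, s ∈ ({x, y, z} : Finset α) ∨ s = Θ → s = x ∨ s = y ∨ s = z ∨ s = Θ := by
    intro s; simp only [Finset.mem_insert, Finset.mem_singleton]; itauto
  rcases hR with ⟨k1, k2, k3, k4⟩ | ⟨k1, k2, k3, k4⟩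
  · left
    intro s hs
    rcases mem s hs with rfl | rfl | rfl | rfl <;> assumption
  · right
    intro s hs
    rcases mem s hs with rfl | rfl | rfl | rfl <;> assumption

end Cfsg.Agent.H494.S8.FiSearch
end

-- part: H494/S8/FiData
section
/-!
# S4908, Fi22 (helper494): the principal 13-block of Fi22, kernel check of the search
-/

set_option autoImplicit false
set_option maxRecDepth 100000
set_option maxHeartbeats 4000000

namespace Cfsg.Agent.H494.S8.FiData

open Cfsg.Agent.H618.LD.Num Cfsg.Agent.H618.LD.S13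

def LA : List ℕ := [100360855, 99422632, 101441792, 100138600]

def LB : List ℕ := [100000495, 99885952, 101441792, 100035640]

private theorem slvS (A B : List ℕ) : H618.LD.F81.Slv (FiSearch.slv A B) := by
  constructor
  · intro kn x lx y ly z lz u
    unfold FiSearch.slv
    simp only [frc_eq, allL_iff, List.mem_singleton, forall_eq]
  · intro kn x wx y wy z wz u h
    unfold FiSearch.slv at h ⊢
    simp only [frc_eq, allL_iff, List.mem_singleton, forall_eq, cond_ft] at h ⊢
    intro h1 h2 h3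
    exact h _ (Nat.eq_of_beq_eq_true h2) (Nat.eq_of_beq_eq_true h3) h1 h2 h3

private theorem gg_of {q m : ℕ} {A B : List ℕ} {K : List KD} {t : List (ℕ × List ℕ)} (a b c r : ℕ)
    (h : okr q m r = true → H618.LD.F81.gg2 q m (FiSearch.slv A B) K t a b c r = true) :
    FiSearch.gg q m A B K t a b c r = true := by
  have h1 := H618.LD.F81.gg2_spec (slvS A B) h
  unfold H618.LD.F81.selG at h1
  unfold FiSearch.gg FiSearch.inner FiSearch.sel
  exact h1

private noncomputable def _root_.Cfsg.Agent.KOdfadfea.k0 : (by first | exact type_of% @Cfsg.Agent.H618.LD.Num.frc | exact Unit : Sort _) := by first | (refine @Subtype.val _ (fun g => @Cfsg.Agent.H618.LD.Num.frc = @g) (@Subtype.mk _ _ (@(fun x0 x1 => @Nat.rec.{1} @(fun x2 => @Bool) (@x1 (nat_lit 0)) @(fun x2 x3 => @x1 (@Nat.succ @x2)) @x0)) ?_); rfl') | exact @Cfsg.Agent.H618.LD.Num.frc | exact ()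
private theorem _root_.Cfsg.Agent.KOdfadfea.e0 : (by first | exact @Cfsg.Agent.H618.LD.Num.frc = @_root_.Cfsg.Agent.KOdfadfea.k0 | exact True : Prop) := by first | (delta _root_.Cfsg.Agent.KOdfadfea.k0; exact @Subtype.property _ (fun g => @Cfsg.Agent.H618.LD.Num.frc = @g) _) | rfl | trivial
private noncomputable def _root_.Cfsg.Agent.KOdfadfea.k1 : (by first | exact type_of% @Cfsg.Agent.H618.LD.F81.fld | exact Unit : Sort _) := by first | (refine @Subtype.val _ (fun g => @Cfsg.Agent.H618.LD.F81.fld = @g) (@Subtype.mk _ _ (@(fun x0 x1 x2 => @List.rec.{1, 0} ℕ @(fun x3 => ℕ → @Bool) @x1 @(fun x3 x4 x5 x6 => @Cfsg.Agent.KOdfadfea.k0 (@x0 @x3 @x6) @x5) @x2)) ?_); rewrite [← Cfsg.Agent.KOdfadfea.e0]; (try delta Cfsg.Agent.H618.LD.F81.fld); (try generalize @Cfsg.Agent.H618.LD.Num.frc = g0); rfl') | exact @Cfsg.Agent.H618.LD.F81.fld | exact ()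
private theorem _root_.Cfsg.Agent.KOdfadfea.e1 : (by first | exact @Cfsg.Agent.H618.LD.F81.fld = @_root_.Cfsg.Agent.KOdfadfea.k1 | exact True : Prop) := by first | (delta _root_.Cfsg.Agent.KOdfadfea.k1; exact @Subtype.property _ (fun g => @Cfsg.Agent.H618.LD.F81.fld = @g) _) | rfl | trivial
private noncomputable def _root_.Cfsg.Agent.KOdfadfea.k2 : (by first | exact type_of% @Cfsg.Agent.H618.LD.Num.ab | exact Unit : Sort _) := by first | (refine @Subtype.val _ (fun g => @Cfsg.Agent.H618.LD.Num.ab = @g) (@Subtype.mk _ _ (@(letI c0 := @Nat.sub; @(fun x0 => @Nat.add (@c0 @x0 (nat_lit 100000000)) (@c0 (nat_lit 100000000) @x0)))) ?_); rfl') | exact @Cfsg.Agent.H618.LD.Num.ab | exact ()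
private theorem _root_.Cfsg.Agent.KOdfadfea.e2 : (by first | exact @Cfsg.Agent.H618.LD.Num.ab = @_root_.Cfsg.Agent.KOdfadfea.k2 | exact True : Prop) := by first | (delta _root_.Cfsg.Agent.KOdfadfea.k2; exact @Subtype.property _ (fun g => @Cfsg.Agent.H618.LD.Num.ab = @g) _) | rfl | trivial
private noncomputable def _root_.Cfsg.Agent.KOdfadfea.k11 : (by first | exact type_of% @Cfsg.Agent.H618.LD.F81.st2 | exact Unit : Sort _) := by first | (refine @Subtype.val _ (fun g => @Cfsg.Agent.H618.LD.F81.st2 = @g) (@Subtype.mk _ _ (@(letI c0 := @Cfsg.Agent.H618.LD.F81.st1; @(fun x0 x1 x2 x3 x4 x5 x6 => @Bool.rec.{1} @(fun x7 => ℕ) @x6 (@c0 @x0 @x1 @x2 @x3 @x4 (@Nat.add (nat_lit 100000000) @x5) (@c0 @x0 @x1 @x2 @x3 @x4 (@Nat.sub (nat_lit 100000000) @x5) @x6)) (@Nat.ble @x5 (nat_lit 8035033))))) ?_); (try delta Cfsg.Agent.H618.LD.F81.st2); (try generalize @Cfsg.Agent.H618.LD.F81.st1 = g0); rfl') | exact @Cfsg.Agent.H618.LD.F81.st2 | exact ()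
private theorem _root_.Cfsg.Agent.KOdfadfea.e11 : (by first | exact @Cfsg.Agent.H618.LD.F81.st2 = @_root_.Cfsg.Agent.KOdfadfea.k11 | exact True : Prop) := by first | (delta _root_.Cfsg.Agent.KOdfadfea.k11; exact @Subtype.property _ (fun g => @Cfsg.Agent.H618.LD.F81.st2 = @g) _) | rfl | trivial
private noncomputable def _root_.Cfsg.Agent.KOdfadfea.k12 : (by first | exact type_of% @Cfsg.Agent.H618.LD.Num.allL | exact Unit : Sort _) := by first | (refine @Subtype.val _ (fun g => @Cfsg.Agent.H618.LD.Num.allL = @g) (@Subtype.mk _ _ (@(fun x0 x1 x2 => @List.rec.{1, 0} @x0 @(fun x3 => @Bool) @Bool.true @(fun x3 x4 x5 => @Bool.rec.{1} @(fun x6 => @Bool) @Bool.false @x5 (@x1 @x3)) @x2)) ?_); rfl') | exact @Cfsg.Agent.H618.LD.Num.allL | exact ()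
private theorem _root_.Cfsg.Agent.KOdfadfea.e12 : (by first | exact @Cfsg.Agent.H618.LD.Num.allL = @_root_.Cfsg.Agent.KOdfadfea.k12 | exact True : Prop) := by first | (delta _root_.Cfsg.Agent.KOdfadfea.k12; exact @Subtype.property _ (fun g => @Cfsg.Agent.H618.LD.Num.allL = @g) _) | rfl | trivial
private noncomputable def _root_.Cfsg.Agent.KOdfadfea.k13 : (by first | exact type_of% @Cfsg.Agent.H618.LD.F81.row | exact Unit : Sort _) := by first | (refine @Subtype.val _ (fun g => @Cfsg.Agent.H618.LD.F81.row = @g) (@Subtype.mk _ _ (@(letI c0 := @Nat.sub; letI c1 := @Nat.add; @(fun x0 x1 x2 x3 x4 x5 x6 x7 => @Bool.rec.{1} @(fun x8 => @Bool) (@Cfsg.Agent.KOdfadfea.k12 _ @(fun x8 => @x3 @x7 @x4 @x8 (@c0 @x1 (@c1 @x7 (@c1 @x4 @x8)))) @x5) @Bool.true (@Nat.beq (@Nat.land (@Nat.shiftRight @x2 (@Nat.mod (@c0 @x1 (@c1 @x7 @x4)) @x0)) @x6) (nat_lit 0))))) ?_); rewrite [← Cfsg.Agent.KOdfadfea.e12]; (try delta Cfsg.Agent.H618.LD.F81.row); (try generalize @Cfsg.Agent.H618.LD.Num.allL = g0); rfl') | exact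 @Cfsg.Agent.H618.LD.F81.row | exact ()
private theorem _root_.Cfsg.Agent.KOdfadfea.e13 : (by first | exact @Cfsg.Agent.H618.LD.F81.row = @_root_.Cfsg.Agent.KOdfadfea.k13 | exact True : Prop) := by first | (delta _root_.Cfsg.Agent.KOdfadfea.k13; exact @Subtype.property _ (fun g => @Cfsg.Agent.H618.LD.F81.row = @g) _) | rfl | trivial
private noncomputable def _root_.Cfsg.Agent.KOdfadfea.k14 : (by first | exact type_of% @Cfsg.Agent.H618.LD.F81.go | exact Unit : Sort _) := by first | (refine @Subtype.val _ (fun g => @Cfsg.Agent.H618.LD.F81.go = @g) (@Subtype.mk _ _ (@(fun x0 x1 x2 x3 x4 => @List.rec.{1, 0} ℕ @(fun x5 => (@List.{0} ℕ) → ℕ → @Bool) @(fun x5 x6 => @Bool.true) @(fun x5 x6 x7 x8 x9 => @Cfsg.Agent.KOdfadfea.k0 (@Nat.lor @x9 (@Nat.shiftLeft (nat_lit 1) (@Nat.sub @x0 (@Nat.mod @x5 @x0)))) @(fun x10 => @Bool.rec.{1} @(fun x11 => @Bool) @Bool.false (@x7 (@x5 :: @x8) @x10) (@Cfsg.Agent.KOdfadfea.k12 _ (@Cfsg.Agent.KOdfadfea.k13 @x0 @x1 @x2 @x3 @x5 (@x5 :: @x8) @x10) (@x5 :: @x6))))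 @x4)) ?_); rewrite [← Cfsg.Agent.KOdfadfea.e13, ← Cfsg.Agent.KOdfadfea.e12, ← Cfsg.Agent.KOdfadfea.e0]; (try delta Cfsg.Agent.H618.LD.F81.go Cfsg.Agent.H618.LD.F81.sb); (try generalize @Cfsg.Agent.H618.LD.Num.frc = g0); (try generalize @Cfsg.Agent.H618.LD.Num.allL = g1); (try generalize @Cfsg.Agent.H618.LD.F81.row = g2); rfl') | exact @Cfsg.Agent.H618.LD.F81.go | exact ()
private theorem _root_.Cfsg.Agent.KOdfadfea.e14 : (by first | exact @Cfsg.Agent.H618.LD.F81.go = @_root_.Cfsg.Agent.KOdfadfea.k14 | exact True : Prop) := by first | (delta _root_.Cfsg.Agent.KOdfadfea.k14; exact @Subtype.property _ (fun g => @Cfsg.Agent.H618.LD.F81.go = @g) _) | rfl | trivial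
private theorem _root_.Cfsg.Agent.KOdfadfea.e15.{ku, kv} {α : Type kv} {M : List α → Sort ku} (φ : ∀ l, M l) {z : M List.nil} {s : ∀ a l, M l → M (List.cons a l)} (h0 : φ List.nil = z) (hs : ∀ a l, φ (List.cons a l) = s a l (φ l)) (l : List α) : φ l = @List.rec α M z s l := List.rec h0 (fun a l ih => (hs a l).trans (congrArg (s a l) ih)) l
private noncomputable def _root_.Cfsg.Agent.KOdfadfea.k16.{ku0} : type_of% @List.reverseAux.{ku0} := @(fun x0 x1 x2 => @List.rec.{(ku0+1), ku0} @x0 @(fun x3 => (@List.{ku0} @x0) → @List.{ku0} @x0) @(fun x3 => @x3) @(fun x3 x4 x5 x6 => @x5 (@x3 :: @x6)) @x1 @x2)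
private theorem _root_.Cfsg.Agent.KOdfadfea.e16.{ku0} : @List.reverseAux.{ku0} = @_root_.Cfsg.Agent.KOdfadfea.k16.{ku0} := by delta _root_.Cfsg.Agent.KOdfadfea.k16; funext a0 a1 a2; refine (congrFun (_root_.Cfsg.Agent.KOdfadfea.e15 (fun a1 a2 => @List.reverseAux.{ku0} a0 a1 a2) ?_ (fun c0 c1 => ?_) a1) a2 :) <;> (rfl')
private noncomputable def _root_.Cfsg.Agent.KOdfadfea.k17.{ku0} : type_of% @List.append.{ku0} := @(fun x0 x1 x2 => @List.rec.{(ku0+1), ku0} @x0 @(fun x3 => (@List.{ku0} @x0) → @List.{ku0} @x0) @(fun x3 => @x3) @(fun x3 x4 x5 x6 => @x3 :: (@x5 @x6)) @x1 @x2)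
private theorem _root_.Cfsg.Agent.KOdfadfea.e17.{ku0} : @List.append.{ku0} = @_root_.Cfsg.Agent.KOdfadfea.k17.{ku0} := by delta _root_.Cfsg.Agent.KOdfadfea.k17; funext a0 a1 a2; refine (congrFun (_root_.Cfsg.Agent.KOdfadfea.e15 (fun a1 a2 => @List.append.{ku0} a0 a1 a2) ?_ (fun c0 c1 => ?_) a1) a2 :) <;> (rfl')
private noncomputable def _root_.Cfsg.Agent.KOdfadfea.k18.{ku0} : type_of% @List.flatten.{ku0} := @(fun x0 x1 => @List.rec.{(ku0+1), ku0} (@List.{ku0} @x0) @(fun x2 => @List.{ku0} @x0) [] @(fun x2 x3 x4 => @Cfsg.Agent.KOdfadfea.k17.{ku0} _ @x2 @x4) @x1)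
private theorem _root_.Cfsg.Agent.KOdfadfea.e18.{ku0} : @List.flatten.{ku0} = @_root_.Cfsg.Agent.KOdfadfea.k18.{ku0} := by delta _root_.Cfsg.Agent.KOdfadfea.k18; rewrite [← Cfsg.Agent.KOdfadfea.e17.{ku0}]; funext a0 a1; refine (_root_.Cfsg.Agent.KOdfadfea.e15 (fun a1 => @List.flatten.{ku0} a0 a1) ?_ (fun c0 c1 => ?_) a1 :) <;> (rfl')
private noncomputable def _root_.Cfsg.Agent.KOdfadfea.k19.{ku0, ku1} : type_of% @List.map.{ku0, ku1} := @(fun x0 x1 x2 x3 => @List.rec.{(ku1+1), ku0} @x0 @(fun x4 => @List.{ku1} @x1) [] @(fun x4 x5 x6 => (@x2 @x4) :: @x6) @x3)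
private theorem _root_.Cfsg.Agent.KOdfadfea.e19.{ku0, ku1} : @List.map.{ku0, ku1} = @_root_.Cfsg.Agent.KOdfadfea.k19.{ku0, ku1} := by delta _root_.Cfsg.Agent.KOdfadfea.k19; funext a0 a1 a2 a3; refine (_root_.Cfsg.Agent.KOdfadfea.e15 (fun a3 => @List.map.{ku0, ku1} a0 a1 a2 a3) ?_ (fun c0 c1 => ?_) a3 :) <;> (rfl')
private theorem _root_.Cfsg.Agent.KOdfadfea.e20.{ku} {M : Nat → Sort ku} (φ : ∀ n, M n) {z : M Nat.zero} {s : ∀ n, M n → M (Nat.succ n)} (h0 : φ Nat.zero = z) (hs : ∀ n, φ (Nat.succ n) = s n (φ n)) (n : Nat) : φ n = @Nat.rec M z s n := Nat.rec h0 (fun n ih => (hs n).trans (congrArg (s n) ih)) n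
private noncomputable def _root_.Cfsg.Agent.KOdfadfea.k21 : type_of% @List.range.loop := @(fun x0 x1 => @Nat.rec.{1} @(fun x2 => (@List.{0} ℕ) → @List.{0} ℕ) @(fun x2 => @x2) @(fun x2 x3 x4 => @x3 (@x2 :: @x4)) @x0 @x1)
private theorem _root_.Cfsg.Agent.KOdfadfea.e21 : @List.range.loop = @_root_.Cfsg.Agent.KOdfadfea.k21 := by delta _root_.Cfsg.Agent.KOdfadfea.k21; funext a0 a1; refine (congrFun (_root_.Cfsg.Agent.KOdfadfea.e20 (fun a0 a1 => @List.range.loop a0 a1) ?_ (fun c0 => ?_) a0) a1 :) <;> (rfl')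
private noncomputable def _root_.Cfsg.Agent.KOdfadfea.k22 : (by first | exact type_of% @Cfsg.Agent.SmallSimple.DegreeSearch.divs | exact Unit : Sort _) := by first | (refine @Subtype.val _ (fun g => @Cfsg.Agent.SmallSimple.DegreeSearch.divs = @g) (@Subtype.mk _ _ (@(fun x0 => @List.rec.{1, 0} (ℕ × ℕ) @(fun x1 => @List.{0} ℕ) ((nat_lit 1) :: []) @(fun x1 x2 x3 => @Cfsg.Agent.KOdfadfea.k18.{0} _ (@Cfsg.Agent.KOdfadfea.k19.{0, 0} _ _ @(fun x4 => @Cfsg.Agent.KOdfadfea.k19.{0, 0} _ _ @(fun x5 => @Nat.mul (@Nat.pow (@Prod.fst.{0, 0} _ _ @x1) @x5) @x4) (@Cfsg.Agent.KOdfadfea.k21 (@Nat.add (@Prod.snd.{0, 0} _ _ @x1) (nat_lit 1)) [])) @x3)) @x0)) ?_); rewrite [← Cfsg.Agent.KOdfadfea.e21, ← Cfsg.Agent.KOdfadfea.e19.{0, 0}, ← Cfsg.Agent.KOdfadfea.e18.{0}]; funext a0; refine (_root_.Cfsg.Agent.KOdfadfea.e15 (fun a0 => @Cfsg.Agent.SmallSimple.DegreeSearch.divs a0) ?_ (fun c0 c1 => ?_) a0 :) <;> (rfl')) | exact @Cfsg.Agent.SmallSimple.DegreeSearch.divs | exact ()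
private theorem _root_.Cfsg.Agent.KOdfadfea.e22 : (by first | exact @Cfsg.Agent.SmallSimple.DegreeSearch.divs = @_root_.Cfsg.Agent.KOdfadfea.k22 | exact True : Prop) := by first | (delta _root_.Cfsg.Agent.KOdfadfea.k22; exact @Subtype.property _ (fun g => @Cfsg.Agent.SmallSimple.DegreeSearch.divs = @g) _) | rfl | trivial
private noncomputable def _root_.Cfsg.Agent.KOdfadfea.k23 : (by first | exact type_of% @Cfsg.Agent.H618.LD.F81.chk | exact Unit : Sort _) := by first | (refine @Subtype.val _ (fun g => @Cfsg.Agent.H618.LD.F81.chk = @g) (@Subtype.mk _ _ (@(fun x0 x1 x2 x3 x4 x5 x6 x7 x8 => @Bool.rec.{1} @(fun x9 => @Bool) @Bool.false (@Cfsg.Agent.KOdfadfea.k1 (@Cfsg.Agent.KOdfadfea.k11 @x0 @x1 @x2 @x4 @x5) @(fun x9 => @Cfsg.Agent.KOdfadfea.k0 (@Nat.lor @x9 (@Nat.shiftLeft @x9 @x5)) @(fun x10 => @Cfsg.Agent.KOdfadfea.k14 @x5 @x6 @x10 @x7 (@Cfsg.Agent.KOdfadfea.k16.{0} _ @x8 []) [] (nat_lit 0))) (@Cfsg.Agent.KOdfadfea.k22 @Cfsg.Agent.H618.LD.Num.L) (nat_lit 0)) (@Cfsg.Agent.KOdfadfea.k12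 _ @(fun x9 => @Nat.beq (@Nat.mod @x9 @x2) @x3) @x8))) ?_); rewrite [← Cfsg.Agent.KOdfadfea.e12, ← Cfsg.Agent.KOdfadfea.e22, ← Cfsg.Agent.KOdfadfea.e16.{0}, ← Cfsg.Agent.KOdfadfea.e14, ← Cfsg.Agent.KOdfadfea.e0, ← Cfsg.Agent.KOdfadfea.e11, ← Cfsg.Agent.KOdfadfea.e1]; (try delta Cfsg.Agent.H618.LD.F81.chk); (try generalize @Cfsg.Agent.H618.LD.F81.fld = g0); (try generalize @Cfsg.Agent.H618.LD.F81.st2 = g1); (try generalize @Cfsg.Agent.H618.LD.Num.frc = g2); (try generalize @Cfsg.Agent.H618.LD.F81.go = g3); (try generalize @Cfsg.Agent.SmallSimple.DegreeSearch.divs = g4); (try generalize @Cfsg.Agent.H618.LD.Num.L = g5); (try generalize @Cfsg.Agent.H618.LD.Num.allL = g6); rfl') | exact @Cfsg.Agent.H618.LD.F81.chk | exact ()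
private theorem _root_.Cfsg.Agent.KOdfadfea.e23 : (by first | exact @Cfsg.Agent.H618.LD.F81.chk = @_root_.Cfsg.Agent.KOdfadfea.k23 | exact True : Prop) := by first | (delta _root_.Cfsg.Agent.KOdfadfea.k23; exact @Subtype.property _ (fun g => @Cfsg.Agent.H618.LD.F81.chk = @g) _) | rfl | trivial
private noncomputable def _root_.Cfsg.Agent.KOdfadfea.k36 : (by first | exact type_of% @Cfsg.Agent.H618.LD.Num.memN | exact Unit : Sort _) := by first | (refine @Subtype.val _ (fun g => @Cfsg.Agent.H618.LD.Num.memN = @g) (@Subtype.mk _ _ (@(fun x0 x1 => @List.rec.{1, 0} ℕ @(fun x2 => @Bool) @Bool.false @(fun x2 x3 x4 => @Bool.rec.{1} @(fun x5 => @Bool) @x4 @Bool.true (@Nat.beq @x2 @x0)) @x1)) ?_); rfl') | exact @Cfsg.Agent.H618.LD.Num.memN | exact ()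
private theorem _root_.Cfsg.Agent.KOdfadfea.e36 : (by first | exact @Cfsg.Agent.H618.LD.Num.memN = @_root_.Cfsg.Agent.KOdfadfea.k36 | exact True : Prop) := by first | (delta _root_.Cfsg.Agent.KOdfadfea.k36; exact @Subtype.property _ (fun g => @Cfsg.Agent.H618.LD.Num.memN = @g) _) | rfl | trivial
private noncomputable def _root_.Cfsg.Agent.KOdfadfea.k37 : (by first | exact type_of% @Cfsg.Agent.H494.S8.FiSearch.al | exact Unit : Sort _) := by first | (refine @Subtype.val _ (fun g => @Cfsg.Agent.H494.S8.FiSearch.al = @g) (@Subtype.mk _ _ (@(letI c0 := @Bool.rec.{1}; letI c1 := @Bool.false; letI c2 := @Cfsg.Agent.KOdfadfea.k36; @(fun x0 x1 x2 x3 x4 => @c0 @(fun x5 => @Bool) @c1 (@c0 @(fun x5 => @Bool) @c1 (@c0 @(fun x5 => @Bool) @c1 (@c2 @x4 @x0) (@c2 @x3 @x0)) (@c2 @x2 @x0)) (@c2 @x1 @x0)))) ?_); rewrite [← Cfsg.Agent.KOdfadfea.e36]; (try delta Cfsg.Agent.H494.S8.FiSearch.al); (try generalize @Cfsg.Agent.H618.LD.Num.memN = g0); rfl') | exact @Cfsg.Agent.H494.S8.FiSearch.al | exact ()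
private theorem _root_.Cfsg.Agent.KOdfadfea.e37 : (by first | exact @Cfsg.Agent.H494.S8.FiSearch.al = @_root_.Cfsg.Agent.KOdfadfea.k37 | exact True : Prop) := by first | (delta _root_.Cfsg.Agent.KOdfadfea.k37; exact @Subtype.property _ (fun g => @Cfsg.Agent.H494.S8.FiSearch.al = @g) _) | rfl | trivial
private noncomputable def _root_.Cfsg.Agent.KOdfadfea.k38 : (by first | exact type_of% @Cfsg.Agent.H494.S8.FiSearch.t4 | exact Unit : Sort _) := by first | (refine @Subtype.val _ (fun g => @Cfsg.Agent.H494.S8.FiSearch.t4 = @g) (@Subtype.mk _ _ (@(fun x0 x1 x2 x3 x4 x5 => @Bool.rec.{1} @(fun x6 => @Bool) (@Cfsg.Agent.KOdfadfea.k37 @x1 @x2 @x3 @x4 @x5) @Bool.true (@Cfsg.Agent.KOdfadfea.k37 @x0 @x2 @x3 @x4 @x5))) ?_); rewrite [← Cfsg.Agent.KOdfadfea.e37]; (try delta Cfsg.Agent.H494.S8.FiSearch.t4); (try generalize @Cfsg.Agent.H494.S8.FiSearch.al = g0); rfl') | exact @Cfsg.Agent.H494.S8.FiSearch.t4 | exact ()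
private theorem _root_.Cfsg.Agent.KOdfadfea.e38 : (by first | exact @Cfsg.Agent.H494.S8.FiSearch.t4 = @_root_.Cfsg.Agent.KOdfadfea.k38 | exact True : Prop) := by first | (delta _root_.Cfsg.Agent.KOdfadfea.k38; exact @Subtype.property _ (fun g => @Cfsg.Agent.H494.S8.FiSearch.t4 = @g) _) | rfl | trivial
private noncomputable def _root_.Cfsg.Agent.KOdfadfea.k39 : (by first | exact type_of% @Cfsg.Agent.H494.S8.FiSearch.slv | exact Unit : Sort _) := by first | (refine @Subtype.val _ (fun g => @Cfsg.Agent.H494.S8.FiSearch.slv = @g) (@Subtype.mk _ _ (@(letI c0 := @Cfsg.Agent.KOdfadfea.k0; letI c1 := @Cfsg.Agent.KOdfadfea.k12; letI c2 := @Nat.add; letI c3 := @Nat.mul; letI c4 := @Nat.sub; letI c5 := @Bool.rec.{1}; letI c6 := @Bool.true; letI c7 := @Nat.beq; @(fun x0 x1 x2 x3 x4 x5 x6 x7 x8 x9 => @c0 (@Cfsg.Agent.KOdfadfea.k2 @x9) @(fun x10 => @c1 _ @(fun x11 => @c0 (@c2 (@Cfsg.Agent.H618.LD.Num.KD.C @x2) (@c3 @x3 @x11)) @(fun x12 => @c0 (@c2 (@Cfsg.Agent.H618.LD.Num.KD.W @x2) @x11) @(fun x13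 => @c1 _ @(fun x14 => @c0 (@c2 @x12 (@c3 @x5 @x14)) @(fun x15 => @c0 (@c2 @x13 @x14) @(fun x16 => @c1 _ @(fun x17 => @c0 (@c2 @x15 (@c3 @x7 @x17)) @(fun x18 => @c0 (@c3 (nat_lit 100000000) (@c2 @x16 @x17)) @(fun x19 => @c0 (@c2 (@c4 @x18 @x19) (@c4 @x19 @x18)) @(fun x20 => @c5 @(fun x21 => @Bool) @c6 (@c0 (@Nat.div @x20 @x10) @(fun x21 => @c5 @(fun x22 => @Bool) @c6 (@c5 @(fun x22 => @Bool) @c6 (@Cfsg.Agent.KOdfadfea.k38 @x0 @x1 @x3 @x5 @x7 @x9) (@c7 (@c2 (@Cfsg.Agent.H618.LD.Num.KD.C2 @x2) (@c2 (@c3 @x3 (@c3 @x11 @x11)) (@c2 (@c3 @x5 (@c3 @x14 @x14)) (@c2 (@c3 @x7 (@c3 @x17 @x17)) (@c3 @x9 (@c3 @x21 @x21)))))) (@c3 (nat_lit 100000000) (@c2 (@Cfsg.Agent.H618.LD.Num.KD.W2 @x2) (@c2 (@c3 @x11 @x11) (@c2 (@c3 @x14 @x14) (@c2 (@c3 @x17 @x17) (@c3 @x21 @x21)))))))) (@c7 (@c2 @x18 (@c3 @x9 @x21)) (@c2 @x19 (@c3 (nat_lit 100000000) @x21))))) (@c7 (@Nat.mod @x20 @x10) (nat_lit 0)))))) @x8))) @x6))) @x4)))) ?_); rewrite [← Cfsg.Agent.KOdfadfea.e38, ← Cfsg.Agent.KOdfadfea.e12, ← Cfsg.Agent.KOdfadfea.e2,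 ← Cfsg.Agent.KOdfadfea.e0]; (try delta Cfsg.Agent.H494.S8.FiSearch.slv); (try generalize @Cfsg.Agent.H618.LD.Num.frc = g0); (try generalize @Cfsg.Agent.H618.LD.Num.ab = g1); (try generalize @Cfsg.Agent.H618.LD.Num.allL = g2); (try generalize @Cfsg.Agent.H494.S8.FiSearch.t4 = g3); rfl') | exact @Cfsg.Agent.H494.S8.FiSearch.slv | exact ()
private theorem _root_.Cfsg.Agent.KOdfadfea.e39 : (by first | exact @Cfsg.Agent.H494.S8.FiSearch.slv = @_root_.Cfsg.Agent.KOdfadfea.k39 | exact True : Prop) := by first | (delta _root_.Cfsg.Agent.KOdfadfea.k39; exact @Subtype.property _ (fun g => @Cfsg.Agent.H494.S8.FiSearch.slv = @g) _) | rfl | trivial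

theorem main : tri D 401363879 (FiSearch.gg 11 1123 LA LB KN tab) = true :=
  H618.LD.F81.tri_of_chk (q := 11) (m := 1123) (p := 13) (ρ := 10) (ρ' := 3) (M := 131025) (by decide) (by intros; omega)
    gg_of (by (first | (rewrite [Cfsg.Agent.KOdfadfea.e23, Cfsg.Agent.KOdfadfea.e39]; decide +kernel) | decide +kernel))

theorem p0 : part (fa 401363879 (FiSearch.gg 11 1123 LA LB KN tab)) 7 (D.drop 0) = true :=
  H618.LD.F81.part_of (by rw [← tri_eq]; exact main) _ _

theorem p1 : part (fa 401363879 (FiSearch.gg 11 1123 LA LB KN tab)) 6 (D.drop 7) = true :=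
  H618.LD.F81.part_of (by rw [← tri_eq]; exact main) _ _

theorem p2 : part (fa 401363879 (FiSearch.gg 11 1123 LA LB KN tab)) 8 (D.drop 13) = true :=
  H618.LD.F81.part_of (by rw [← tri_eq]; exact main) _ _

end Cfsg.Agent.H494.S8.FiData
end

-- part: H494/S8/FiBlk
section
/-!
# S4908, Fi22 (helper494): the degrees of Fi22 prime to 13

`deg13` : a degree of `Fi22` prime to `13` is one of `1, 3080, 360855, 577368, 1360800, 1441792, 138600` (the principal
13-block: the moments of helper618 leave two possibilities, the column of an element of order `7` excludes one).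
-/

set_option autoImplicit false
set_option linter.unusedSectionVars false

open Cfsg

namespace Cfsg.Agent.H494.S8.FiBlk

open Cfsg.Agent.H618.LD Cfsg.Agent.LThreeFi22 Cfsg.Agent.H618.LD.Tw Cfsg.Agent.H618.LD.Ev Cfsg.Agent.H618.LD.Blk Cfsg.Agent.H618.LD.Num
  Cfsg.Agent.H618.LD.Mom Cfsg.Agent.H618.LD.Prin Cfsg.Agent.H618.LD.Find
open Cfsg.Agent.H494.S8.FiData (LA LB)
open Cfsg.Agent.KFacts.FiTT (TK)

universe u

variable {G : Type u} [Group G] [Finite G] {T : Set G}

/-- the members of the principal 13-block -/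
structure Mem (NE X : Finset (IrrCharacter G)) (ε : IrrCharacter G → ℤ) (d : ℤ) (κ κ' Θ : IrrCharacter G)
    (F : Finset (IrrCharacter G)) : Prop where
  oneNE : Blk.one G ∈ NE
  hκNE : κ ∈ NE
  hκNE' : κ' ∈ NE
  ΘX : Θ ∈ X
  memF : ∀ χ, χ ∈ F ↔ χ ≠ κ' ∧ χ ≠ κ ∧ χ ≠ Blk.one G ∧ χ ∈ NE
  hFc : F.card = 3
  split : ∀ {A : Type} [AddCommMonoid A] (g : IrrCharacter G → A), ∑ χ ∈ NE, g χ = g (Blk.one G) + (g κ + (g κ' + ∑ χ ∈ F, g χ))
  cF : ∀ χ ∈ F, (13 : ℤ) ∣ co X ε d χ - 1
  cΘ : (13 : ℤ) ∣ co X ε d Θ + 6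
  m0 : co X ε d (Blk.one G) + (co X ε d κ + (co X ε d κ' + ∑ χ ∈ F, co X ε d χ)) + co X ε d Θ = 0
  c1 : co X ε d (Blk.one G) = 1
  cκ : co X ε d κ = -3080
  cκ' : co X ε d κ' = -1360800
  lt : ∀ χ, χ ∈ F ∨ χ = Θ → (co X ε d χ).natAbs < 100000000
  res : (∀ χ, χ ∈ F ∨ χ = Θ → cd (co X ε d χ) ∈ LA) ∨ (∀ χ, χ ∈ F ∨ χ = Θ → cd (co X ε d χ) ∈ LB)

variable [IsSimpleGroup G]

theorem exists_mem (hna : ¬ IsMulCommutative G) (e : G ≃* Spor.Fi22) [Fact (Nat.Prime 11)] {P' : Sylow 11 G}
    {K' : Subgroup G} {NE' X' : Finset (IrrCharacter G)} {ε' : IrrCharacter G → ℤ} {d' : ℤ} {k : G}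
    (D' : D11 (TK e) P' K' NE' X' ε' d' k) [Fact (Nat.Prime 13)] {P : Sylow 13 G}
    {K : Subgroup G} {NE X : Finset (IrrCharacter G)} {ε : IrrCharacter G → ℤ} {d : ℤ}
    (D : D13 P K NE X ε d) {κ : IrrCharacter G} (hκ : charDegree (κ : G → ℂ) = 3080)
    (hw : ww (TK e) (κ : G → ℂ) = 702) {κ' : IrrCharacter G} (hκ' : charDegree (κ' : G → ℂ) = 1360800)
    (hw' : ww (TK e) (κ' : G → ℂ) = 78) {Θ : IrrCharacter G} (hΘ : Θ ∈ X) :
    ∃ F, Mem NE X ε d κ κ' Θ F := by
  classical
  have C := Inst.ctx e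
  have B := D.B
  have key : ∀ {χ : IrrCharacter G} {n : ℕ}, charDegree (χ : G → ℂ) = n → ¬ (13 : ℤ) ∣ n → ¬ (13 : ℤ) ∣ n - 6 →
      ¬ (13 : ℤ) ∣ n + 6 → χ ∈ NE := by
    intro χ n hn h1 h2 h3
    have hd := dg_eq hn
    rcases D.mem (χ := χ) (by rw [hd]; exact h1) with h | h
    · exact h
    · exfalso
      have h4 := B.congX χ h
      rw [hd] at h4
      rcases B.sd with h5 | h5 <;> rw [h5] at h4
      · push_cast at h4
        rw [one_mul] at h4
        exact h2 h4
      · push_cast at h4
        have h6 : -1 * (n : ℤ) - 6 = -(n + 6) := by ring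
        rw [h6, dvd_neg] at h4
        exact h3 h4
  have hdκ := dg_eq hκ
  have hdκ' := dg_eq hκ'
  push_cast at hdκ hdκ'
  have hκNE : κ ∈ NE := key hκ (by norm_num) (by norm_num) (by norm_num)
  have hκNE' : κ' ∈ NE := key hκ' (by norm_num) (by norm_num) (by norm_num)
  have hεκ : ε κ = -1 := by
    have h1 := B.cong κ hκNE
    rw [hdκ] at h1
    rcases B.sg κ hκNE with h2 | h2
    · exfalso; rw [h2] at h1; revert h1; norm_num
    · exact h2
  have hεκ' : ε κ' = -1 := by
    have h1 := B.cong κ' hκNE'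
    rw [hdκ'] at h1
    rcases B.sg κ' hκNE' with h2 | h2
    · exfalso; rw [h2] at h1; revert h1; norm_num
    · exact h2
  have hκ1 : κ ≠ Blk.one G := ne_of_deg hκ deg_one (by norm_num)
  have hκ1' : κ' ≠ Blk.one G := ne_of_deg hκ' deg_one (by norm_num)
  have hκκ' : κ' ≠ κ := ne_of_deg hκ' hκ (by norm_num)
  have hΘ1 : Θ ≠ Blk.one G := by
    rintro rfl
    exact Finset.disjoint_left.1 B.disj B.one hΘ
  obtain ⟨m0, m1, m2⟩ := mom C (by norm_num) B hΘ
  set! F := ((NE.erase (Blk.one G)).erase κ).erase κ' with hF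
  have mF : ∀ {χ}, χ ∈ F ↔ χ ≠ κ' ∧ χ ≠ κ ∧ χ ≠ Blk.one G ∧ χ ∈ NE := by
    intro χ; rw [hF, Finset.mem_erase, Finset.mem_erase, Finset.mem_erase]
  have hsplit' : ∀ {A : Type} [AddCommMonoid A] (g : IrrCharacter G → A),
      ∑ χ ∈ NE, g χ = g (Blk.one G) + (g κ + (g κ' + ∑ χ ∈ F, g χ)) := by
    intro A _ g
    rw [← Finset.add_sum_erase NE g B.one, ← Finset.add_sum_erase (NE.erase (Blk.one G)) g
      (Finset.mem_erase.2 ⟨hκ1, hκNE⟩), ← Finset.add_sum_erase ((NE.erase (Blk.one G)).erase κ) g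
      (Finset.mem_erase.2 ⟨hκκ', Finset.mem_erase.2 ⟨hκ1', hκNE'⟩⟩)]
  have hsplit : ∀ g : IrrCharacter G → ℤ, ∑ χ ∈ NE, g χ = g (Blk.one G) + g κ + g κ' + ∑ χ ∈ F, g χ := by
    intro g
    rw [hsplit' g]
    ring
  have hFc : F.card = 3 := by
    rw [hF, Finset.card_erase_of_mem (Finset.mem_erase.2 ⟨hκκ', Finset.mem_erase.2 ⟨hκ1', hκNE'⟩⟩),
      Finset.card_erase_of_mem (Finset.mem_erase.2 ⟨hκ1, hκNE⟩), Finset.card_erase_of_mem B.one, B.cNE]
  have m00 := m0
  rw [hsplit] at m0 m1 m2
  have c1 : co X ε d (Blk.one G) = 1 := by rw [co_NE B B.one, B.eone, dg_one]; norm_num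
  have cκ : co X ε d κ = -3080 := by rw [co_NE B hκNE, hεκ, hdκ]; norm_num
  have cκ' : co X ε d κ' = -1360800 := by rw [co_NE B hκNE', hεκ', hdκ']; norm_num
  rw [c1, cκ, cκ'] at m0 m1 m2
  rw [ww_one C, hw, hw'] at m1 m2
  have hmem : ∀ χ, χ ∈ F ∨ χ = Θ → (χ ∈ NE ∨ χ ∈ X) ∧ χ ≠ Blk.one G := by
    intro χ h
    rcases h with h | rfl
    · exact ⟨Or.inl (mF.1 h).2.2.2, (mF.1 h).2.2.1⟩
    · exact ⟨Or.inr hΘ, hΘ1⟩
  have hadm : ∀ χ, χ ∈ F ∨ χ = Θ → Adm (co X ε d χ).natAbs (ww (TK e) (χ : G → ℂ)) := by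
    intro χ h
    obtain ⟨h1, h2⟩ := hmem χ h
    rw [natAbs_co B h1]
    exact adm C χ (ne_one_deg hna h2)
  have hlt : ∀ χ, χ ∈ F ∨ χ = Θ → (co X ε d χ).natAbs < 100000000 := fun χ h => Use.adm_lt (hadm χ h)
  have hcF : ∀ χ ∈ F, (13 : ℤ) ∣ co X ε d χ - 1 := fun χ h => by
    have h1 := (mF.1 h).2.2.2
    rw [co_NE B h1]
    exact B.cong χ h1
  have hU := FiSearch.use (p := 13) (q := 11) (m := 1123) (by norm_num) (S := -1363879) (rs := Cfsg.Agent.H618.LD.S13.rs)
    Cfsg.Agent.H618.LD.S13.hD Cfsg.Agent.H618.LD.S13.hDD Cfsg.Agent.H618.LD.S13.ht FiData.main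
    (by norm_num) hFc (c := co X ε d) (w := fun χ => ww (TK e) (χ : G → ℂ)) (Θ := Θ) hadm
    (fun χ h => rs13_of (hadm χ h).bd (by
      rw [natAbs_co B (hmem χ h).1]
      rcases D'.tri C χ with h1 | h1 | h1
      · exact Or.inl h1
      · exact Or.inr (Or.inl h1)
      · exact Or.inr (Or.inr (D'.w1 C h1))))
    (fun χ h => by rw [natAbs_co B (hmem χ h).1]; exact res11 hna e χ)
    hcF (kn := ⟨1477104483660, 14820, 7971935616337680, 79895088⟩) List.mem_cons_self
    (by linear_combination m0)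
    (by push_cast; linear_combination m1) (by push_cast; linear_combination m2)
  refine ⟨F, B.one, hκNE, hκNE', hΘ, fun _ => mF, hFc, hsplit', hcF, ?_, ?_, c1, cκ, cκ', hlt, hU⟩
  · rw [co_X hΘ]
    have h1 := B.congX Θ hΘ
    have h2 : -d * dg Θ + 6 = -(d * dg Θ - (6 : ℕ)) := by push_cast; ring
    rw [h2]
    exact (dvd_neg).2 h1
  · rw [c1, cκ, cκ']
    linear_combination m0

theorem co_LA {c : ℤ} (hlt : c.natAbs < 100000000) (h : cd c ∈ LA) :
    c = 360855 ∨ c = -577368 ∨ c = 1441792 ∨ c = 138600 := by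
  have h1 := cd_cast hlt
  unfold LA at h
  simp only [List.mem_cons, List.not_mem_nil, or_false] at h
  omega

theorem co_LB {c : ℤ} (hlt : c.natAbs < 100000000) (h : cd c ∈ LB) :
    c = 495 ∨ c = -114048 ∨ c = 1441792 ∨ c = 35640 := by
  have h1 := cd_cast hlt
  unfold LB at h
  simp only [List.mem_cons, List.not_mem_nil, or_false] at h
  (solve | lia | omega)

theorem bd6 {x m : ℤ} (h : x ^ 2 + m ≤ 42) (hm : 0 ≤ m) : -6 ≤ x ∧ x ≤ 6 := by
  constructor <;> nlinarith only [h, hm]

theorem arB {x y z t : ℤ} (hx : (7 : ℤ) ∣ x - 495) (hy : (7 : ℤ) ∣ y - -114048) (hz : (7 : ℤ) ∣ z - 1441792)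
    (ht : (7 : ℤ) ∣ t - 35640) (h : 1 + x + y + z + t = 0) (hq : 1 + x ^ 2 + y ^ 2 + z ^ 2 + 2 * t ^ 2 ≤ 42) : False := by
  have bx := bd6 (x := x) (m := 1 + y ^ 2 + z ^ 2 + 2 * t ^ 2) (by linarith) (by (clear * -; positivity))
  have bY := bd6 (x := y) (m := 1 + x ^ 2 + z ^ 2 + 2 * t ^ 2) (by linarith) (by (clear * -; positivity))
  have bz := bd6 (x := z) (m := 1 + x ^ 2 + y ^ 2 + 2 * t ^ 2) (by linarith) (by (clear * -; positivity))
  have bt := bd6 (x := t) (m := 1 + x ^ 2 + y ^ 2 + z ^ 2 + t ^ 2) (by linarith) (by (clear * -; positivity))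
  have ex : x = -2 ∨ x = 5 := by (clear * - hy hz ht h bx; omega)
  have ey : y = 3 ∨ y = -4 := by omega
  have ez : z = 2 ∨ z = -5 := by omega
  have et : t = 3 ∨ t = -4 := by omega
  rcases ex with rfl | rfl <;> rcases ey with rfl | rfl <;> rcases ez with rfl | rfl <;> rcases et with rfl | rfl <;>
    first
      | (exfalso; revert h; norm_num; done)
      | (exfalso; revert hq; norm_num; done)

omit [IsSimpleGroup G] in
/-- the second possibility is excluded by the column of an element of order `7` -/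
theorem no_B {P : Sylow 13 G} [Fact (Nat.Prime 13)] {K : Subgroup G} {NE X : Finset (IrrCharacter G)}
    {ε : IrrCharacter G → ℤ} {d : ℤ} (B : PB P K 6 2 NE X ε d) {κ κ' Θ : IrrCharacter G} {F : Finset (IrrCharacter G)}
    (M : Mem NE X ε d κ κ' Θ F) (hLB : ∀ χ, χ ∈ F ∨ χ = Θ → cd (co X ε d χ) ∈ LB) {g : G} (hog : orderOf g = 7)
    (ha : ∀ χ : IrrCharacter G, ∃ a : ℤ, (χ : G → ℂ) g = a ∧ (7 : ℤ) ∣ a - charDegree (χ : G → ℂ))
    (hs : ∀ S : Finset (IrrCharacter G), ∑ χ ∈ S, Complex.normSq ((χ : G → ℂ) g) ≤ 42) : False := by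
  classical
  choose a ha1 ha2 using ha
  set! b : IrrCharacter G → ℤ := fun χ => if χ ∈ X then -d * a χ else ε χ * a χ with hb
  have hbX : ∀ χ ∈ X, b χ = -d * a χ := fun χ h => if_pos h
  have hbN : ∀ χ ∈ NE, b χ = ε χ * a χ := fun χ h => if_neg fun h' => Finset.disjoint_left.1 B.disj h h'
  have ha2' : ∀ χ : IrrCharacter G, (7 : ℤ) ∣ a χ - dg χ := ha2
  have h7 : ∀ χ, χ ∈ NE ∨ χ ∈ X → (7 : ℤ) ∣ b χ - co X ε d χ := by
    rintro χ (h | h)
    · rw [hbN χ h, co_NE B h, ← mul_sub]
      exact (ha2' χ).mul_left _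
    · rw [hbX χ h, co_X h, ← mul_sub]
      exact (ha2' χ).mul_left _
  have hsq : ∀ χ, χ ∈ NE ∨ χ ∈ X → b χ ^ 2 = a χ ^ 2 := by
    rintro χ (h | h)
    · rw [hbN χ h]
      rcases B.sg χ h with h1 | h1 <;> rw [h1] <;> ring
    · rw [hbX χ h]
      rcases B.sd with h1 | h1 <;> rw [h1] <;> ring
  have hrel : ∀ Θ ∈ X, ∑ χ ∈ NE, b χ + b Θ = 0 := by
    intro Θ hΘ
    have h1 := B.rel Θ hΘ g (by rw [hog]; norm_num)
    rw [ha1 Θ, Finset.sum_congr rfl (g := fun χ => ((b χ : ℤ) : ℂ)) (fun χ h => by
      rw [ha1 χ, hbN χ h]; push_cast; rfl), ← Int.cast_sum] at h1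
    have h2 : ∑ χ ∈ NE, b χ = d * a Θ := by exact_mod_cast h1
    rw [h2, hbX Θ hΘ]; ring
  have hsum : ∑ χ ∈ NE, b χ ^ 2 + ∑ χ ∈ X, b χ ^ 2 ≤ 42 := by
    have h1 := hs (NE ∪ X)
    rw [Finset.sum_union B.disj] at h1
    have h2 : ∀ χ, χ ∈ NE ∨ χ ∈ X → Complex.normSq ((χ : G → ℂ) g) = ((b χ ^ 2 : ℤ) : ℝ) := by
      intro χ h
      rw [ha1 χ, hsq χ h, ← Complex.ofReal_intCast, Complex.normSq_ofReal]
      push_cast; ring
    rw [Finset.sum_congr rfl fun χ h => h2 χ (Or.inl h), Finset.sum_congr rfl fun χ h => h2 χ (Or.inr h)] at h1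
    exact_mod_cast h1
  have hX2 : ∑ χ ∈ X, b χ ^ 2 = 2 * b Θ ^ 2 := by
    have h1 : ∀ χ ∈ X, b χ ^ 2 = b Θ ^ 2 := by
      intro χ h
      have h2 := hrel χ h
      have h3 := hrel Θ M.ΘX
      have h4 : b χ = b Θ := by linarith only [h2, h3]
      rw [h4]
    rw [Finset.sum_congr rfl h1, Finset.sum_const, B.cX]
    simp
  rw [hX2, M.split fun χ => b χ ^ 2] at hsum
  have hr := hrel Θ M.ΘX
  rw [M.split b] at hr
  have hb1 : b (Blk.one G) = 1 := by
    rw [hbN _ M.oneNE, B.eone, one_mul]
    have h1 : (Blk.one G : G → ℂ) g = 1 := rfl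
    rw [ha1] at h1
    exact_mod_cast h1
  have k1 := h7 κ (Or.inl M.hκNE)
  have k2 := h7 κ' (Or.inl M.hκNE')
  rw [M.cκ] at k1
  rw [M.cκ'] at k2
  obtain ⟨x, y, z, hxy, hxz, hyz, hF⟩ := Finset.card_eq_three.1 M.hFc
  have hsx : ∀ f : IrrCharacter G → ℤ, ∑ χ ∈ F, f χ = f x + (f y + f z) := by
    intro f
    rw [hF, Finset.sum_insert (by simp [hxy, hxz]), Finset.sum_pair hyz]
  rw [hsx] at hsum hr
  have m0 := M.m0
  rw [hsx, M.c1, M.cκ, M.cκ'] at m0
  have mx : x ∈ F := by rw [hF]; simp
  have my : y ∈ F := by rw [hF]; simp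
  have mz : z ∈ F := by rw [hF]; simp
  have mN : ∀ χ ∈ F, χ ∈ NE := by
    intro χ h
    exact ((M.memF χ).1 h).2.2.2
  have lx := co_LB (M.lt x (Or.inl mx)) (hLB x (Or.inl mx))
  have ly := co_LB (M.lt y (Or.inl my)) (hLB y (Or.inl my))
  have lz := co_LB (M.lt z (Or.inl mz)) (hLB z (Or.inl mz))
  have lΘ := co_LB (M.lt Θ (Or.inr rfl)) (hLB Θ (Or.inr rfl))
  have px := M.cF x mx
  have py := M.cF y my
  have pz := M.cF z mz
  have pΘ := M.cΘ
  have qx := h7 x (Or.inl (mN x mx))
  have qy := h7 y (Or.inl (mN y my))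
  have qz := h7 z (Or.inl (mN z mz))
  have qΘ := h7 Θ (Or.inr M.ΘX)
  rw [hb1] at hsum hr
  generalize co X ε d x = cx at *
  generalize co X ε d y = cy at *
  generalize co X ε d z = cz at *
  generalize co X ε d Θ = cΘ at *
  generalize b x = bx at *
  generalize b y = bY at *
  generalize b z = bz at *
  generalize b Θ = bΘ at *
  generalize b κ = bκ at *
  generalize b κ' = bκ' at *
  have e1 : bκ = 0 := by
    have h1 := bd6 (x := bκ) (m := 1 + bκ' ^ 2 + bx ^ 2 + bY ^ 2 + bz ^ 2 + 2 * bΘ ^ 2) (by linarith only [hsum]) (by (clear * -; positivity))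
    omega
  have e2 : bκ' = 0 := by
    have h1 := bd6 (x := bκ') (m := 1 + bκ ^ 2 + bx ^ 2 + bY ^ 2 + bz ^ 2 + 2 * bΘ ^ 2) (by linarith only [hsum]) (by (clear * -; positivity))
    omega
  subst e1 e2
  have eΘ : cΘ = 35640 := by omega
  subst eΘ
  have ex : cx = 495 ∨ cx = -114048 ∨ cx = 1441792 := by (clear * - lx ly pz m0; solve | lia | omega)
  have ey : cy = 495 ∨ cy = -114048 ∨ cy = 1441792 := by (clear * - ly lz m0 ex; solve | lia | omega)
  have ez : cz = 495 ∨ cz = -114048 ∨ cz = 1441792 := by (clear * - lz m0 ex ey; solve | lia | omega)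
  rcases ex with rfl | rfl | rfl <;> rcases ey with rfl | rfl | rfl <;> rcases ez with rfl | rfl | rfl <;>
    first
      | (exfalso; revert m0; norm_num; done)
      | exact arB qx qy qz qΘ (by linarith only [hr]) (by linarith)
      | exact arB qx qz qy qΘ (by linarith only [hr]) (by linarith)
      | exact arB qy qx qz qΘ (by linarith) (by linarith)
      | exact arB qy qz qx qΘ (by linarith) (by linarith)
      | exact arB qz qx qy qΘ (by linarith) (by linarith)
      | exact arB qz qy qx qΘ (by linarith) (by linarith)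

/-- **The degrees of `Fi22` prime to `13`.** -/
theorem deg13 (hna : ¬ IsMulCommutative G) (e : G ≃* Spor.Fi22) {g : G} (hog : orderOf g = 7)
    (ha : ∀ χ : IrrCharacter G, ∃ a : ℤ, (χ : G → ℂ) g = a ∧ (7 : ℤ) ∣ a - charDegree (χ : G → ℂ))
    (hs : ∀ S : Finset (IrrCharacter G), ∑ χ ∈ S, Complex.normSq ((χ : G → ℂ) g) ≤ 42)
    (χ : IrrCharacter G) (hχ : ¬ 13 ∣ charDegree (χ : G → ℂ)) :
    charDegree (χ : G → ℂ) = 1 ∨ charDegree (χ : G → ℂ) = 3080 ∨ charDegree (χ : G → ℂ) = 360855 ∨
      charDegree (χ : G → ℂ) = 577368 ∨ charDegree (χ : G → ℂ) = 1360800 ∨ charDegree (χ : G → ℂ) = 1441792 ∨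
      charDegree (χ : G → ℂ) = 138600 := by
  have i11 : Fact (Nat.Prime 11) := ⟨by norm_num⟩
  have i13 : Fact (Nat.Prime 13) := ⟨by norm_num⟩
  obtain ⟨⟨χ₁, d1, w1⟩, ⟨χ₂, d2, w2⟩⟩ := exists_pair e
  obtain ⟨P, K, NE, X, ε, d, k, D⟩ := exists_D11 e
  obtain ⟨P', K', NE', X', ε', d', D'⟩ := exists_D13 e
  obtain ⟨-, κ', hκ', hκw⟩ := find11 hna e D d2 w2
  have key : ∀ Θ ∈ X', ∃ F, Mem NE' X' ε' d' χ₁ κ' Θ F ∧ ∀ χ, χ ∈ F ∨ χ = Θ → cd (co X' ε' d' χ) ∈ LA := by
    intro Θ hΘ
    obtain ⟨F, M⟩ := exists_mem hna e D D' d1 w1 hκ' hκw hΘ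
    refine ⟨F, M, ?_⟩
    rcases M.res with h | h
    · exact h
    · exact (no_B D'.B M h hog ha hs).elim
  have fin : ∀ χ, (χ ∈ NE' ∨ χ ∈ X') → (co X' ε' d' χ).natAbs < 100000000 → cd (co X' ε' d' χ) ∈ LA →
      charDegree (χ : G → ℂ) = 360855 ∨ charDegree (χ : G → ℂ) = 577368 ∨ charDegree (χ : G → ℂ) = 1441792 ∨
      charDegree (χ : G → ℂ) = 138600 := by
    intro χ hm hlt h
    have h1 := co_LA hlt h
    have h2 := natAbs_co D'.B hm
    (clear * - h1 h2; solve | lia | omega)
  have hmem := D'.mem (χ := χ) (fun h => hχ (by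
    unfold dg at h
    exact_mod_cast h))
  rcases hmem with h | h
  · obtain ⟨Θ, hΘ⟩ : X'.Nonempty := by rw [← Finset.card_pos, D'.B.cX]; norm_num
    obtain ⟨F, M, hL⟩ := key Θ hΘ
    by_cases h1 : χ = Blk.one G
    · left; rw [h1]; exact deg_one
    by_cases h2 : χ = χ₁
    · right; left; rw [h2]; exact d1
    by_cases h3 : χ = κ'
    · rw [h3, hκ']; (clear * -; tauto)
    have h4 : χ ∈ F := (M.memF χ).2 ⟨h3, h2, h1, h⟩
    have h5 := fin χ (Or.inl h) (M.lt χ (Or.inl h4)) (hL χ (Or.inl h4))
    itauto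
  · obtain ⟨F, M, hL⟩ := key χ h
    have h5 := fin χ (Or.inr h) (M.lt χ (Or.inr rfl)) (hL χ (Or.inr rfl))
    itauto

end Cfsg.Agent.H494.S8.FiBlk
end

-- part: H494/S8/FiNum
section
/-!
# S4908, Fi22, COVER for r = 3 (helper494): the arithmetic

`core` : six signed degrees, one exceptional degree and their values at an element of order `7`.
-/

set_option autoImplicit false

namespace Cfsg.Agent.H494.S8.FiNum

/-- the degrees of `Fi22` prime to `13` -/
def Is13 (f : ℤ) : Prop := f = 1 ∨ f = 3080 ∨ f = 360855 ∨ f = 577368 ∨ f = 1360800 ∨ f = 1441792 ∨ f = 138600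

/-- `d r^i` is `f`, `2 f` or `f / 2` -/
def Bad (d : ℤ) : Prop := ∃ f, Is13 f ∧ (d = f ∨ d = 2 * f ∨ 2 * d = f)

theorem bad_one {d δ : ℤ} (hδ : δ = 1 ∨ δ = -1) (h : (13 : ℤ) ∣ δ * d - 6) (hb : Bad (d * 3 ^ 1)) : False := by
  obtain ⟨f, hf, h1⟩ := hb
  unfold Is13 at hf
  rcases hδ with rfl | rfl <;> rcases hf with rfl | rfl | rfl | rfl | rfl | rfl | rfl <;> (solve | lia | omega)

theorem bad_two {d ε : ℤ} (hε : ε = 1 ∨ ε = -1) (h : (13 : ℤ) ∣ ε * d - 1) (hb : Bad (d * 3 ^ 2)) : False := by
  obtain ⟨f, hf, h1⟩ := hb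
  unfold Is13 at hf
  rcases hε with rfl | rfl <;> rcases hf with rfl | rfl | rfl | rfl | rfl | rfl | rfl <;> (clear * - h1 h; solve | lia | omega)

theorem bad_ne {d ε : ℤ} (hε : ε = 1 ∨ ε = -1) (h : (13 : ℤ) ∣ ε * d - 1) (h3 : (3 : ℤ) ∣ d) (hb : Bad d) :
    ε * d = 360855 ∨ ε * d = -577368 ∨ ε * d = -1360800 ∨ ε * d = 277200 := by
  obtain ⟨f, hf, h1⟩ := hb
  unfold Is13 at hf
  rcases hε with rfl | rfl <;> rcases hf with rfl | rfl | rfl | rfl | rfl | rfl | rfl <;> (clear * - h3 h1 h; solve | lia | omega)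

theorem bad_ex {d δ : ℤ} (hδ : δ = 1 ∨ δ = -1) (h : (13 : ℤ) ∣ δ * d - 6) (h3 : (3 : ℤ) ∣ d) (hb : Bad d) :
    δ * d = -138600 ∨ δ * d = 288684 ∨ δ * d = 680400 := by
  obtain ⟨f, hf, h1⟩ := hb
  unfold Is13 at hf
  rcases hδ with rfl | rfl <;> rcases hf with rfl | rfl | rfl | rfl | rfl | rfl | rfl <;> (solve | lia | omega)

theorem count {a b c e s : ℤ} (ha : 0 ≤ a) (hb : 0 ≤ b) (hc : 0 ≤ c) (he : 0 ≤ e) (h6 : a + b + c + e = 6)
    (hs : s = -138600 ∨ s = 288684 ∨ s = 680400) (h : 360855 * a - 577368 * b - 1360800 * c + 277200 * e = s) :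
    a = 4 ∧ b = 2 := by
  have ha6 : a ≤ 6 := by omega
  have hb6 : b ≤ 6 := by omega
  have hc6 : c ≤ 6 := by omega
  have he6 : e = 6 - a - b - c := by omega
  subst he6
  interval_cases a <;> interval_cases b <;> (clear * - hs h hc hc6 he; omega)

theorem sq_A {b : ℤ} (h : (7 : ℤ) ∣ b - 360855) : 3 * b + 10 ≤ b ^ 2 := by
  rcases (by omega : b ≤ -2 ∨ 5 ≤ b) with h1 | h1 <;> nlinarith only [h1]

theorem sq_B {b : ℤ} (h : (7 : ℤ) ∣ b - -577368) : 3 * b + 4 ≤ b ^ 2 := by
  rcases (by omega : b ≤ -1 ∨ 6 ≤ b) with h1 | h1 <;> nlinarith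

theorem sq_C {b : ℤ} (h : (7 : ℤ) ∣ b - -1360800) : 3 * b ≤ b ^ 2 := by
  rcases (by omega : b ≤ 0 ∨ 7 ≤ b) with h1 | h1 <;> nlinarith only [h1, _root_.sq_nonneg (b : ℤ)]

theorem sq_E {b : ℤ} (h : (7 : ℤ) ∣ b - 277200) : 3 * b ≤ b ^ 2 := by
  rcases (by omega : b ≤ 0 ∨ 7 ≤ b) with h1 | h1 <;> nlinarith only [h1, _root_.sq_nonneg (b : ℤ)]

theorem core {ι : Type*} (NE : Finset ι) (hc : NE.card = 6) (co b : ι → ℤ)
    (hco : ∀ χ ∈ NE, co χ = 360855 ∨ co χ = -577368 ∨ co χ = -1360800 ∨ co χ = 277200)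
    (h7 : ∀ χ ∈ NE, (7 : ℤ) ∣ b χ - co χ) {s t : ℤ} (hs : s = -138600 ∨ s = 288684 ∨ s = 680400)
    (h0 : ∑ χ ∈ NE, co χ = s) (hb : ∑ χ ∈ NE, b χ = t) (hq : ∑ χ ∈ NE, b χ ^ 2 + 2 * t ^ 2 ≤ 42) : False := by
  classical
  set! i : ℤ → ι → ℤ := fun A χ => if co χ = A then 1 else 0 with hi
  have hnn : ∀ A, 0 ≤ ∑ χ ∈ NE, i A χ := fun A => Finset.sum_nonneg fun χ _ => by
    show 0 ≤ ite _ _ _
    split <;> norm_num
  have h1 : ∀ χ ∈ NE, i 360855 χ + i (-577368) χ + i (-1360800) χ + i 277200 χ = 1 ∧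
      co χ = 360855 * i 360855 χ - 577368 * i (-577368) χ - 1360800 * i (-1360800) χ + 277200 * i 277200 χ ∧
      3 * b χ + (10 * i 360855 χ + 4 * i (-577368) χ) ≤ b χ ^ 2 := by
    intro χ hχ
    have h2 := h7 χ hχ
    simp only [hi]
    rcases hco χ hχ with h | h | h | h <;> rw [h] at h2 ⊢
    · have := sq_A h2
      refine ⟨by norm_num, by norm_num, by norm_num; linarith⟩
    · have := sq_B h2
      refine ⟨by norm_num, by norm_num, by norm_num; linarith⟩
    · have := sq_C h2
      refine ⟨by norm_num, by norm_num, by norm_num; linarith⟩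
    · have := sq_E h2
      refine ⟨by norm_num, by norm_num, by norm_num; linarith⟩
  have e1 : ∑ χ ∈ NE, i 360855 χ + ∑ χ ∈ NE, i (-577368) χ + ∑ χ ∈ NE, i (-1360800) χ + ∑ χ ∈ NE, i 277200 χ = 6 := by
    rw [← Finset.sum_add_distrib, ← Finset.sum_add_distrib, ← Finset.sum_add_distrib,
      Finset.sum_congr rfl fun χ h => (h1 χ h).1, Finset.sum_const, hc]
    norm_num
  have e2 : 360855 * ∑ χ ∈ NE, i 360855 χ - 577368 * ∑ χ ∈ NE, i (-577368) χ - 1360800 * ∑ χ ∈ NE, i (-1360800) χ +
      277200 * ∑ χ ∈ NE, i 277200 χ = s := by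
    rw [← h0, Finset.sum_congr rfl fun χ h => (h1 χ h).2.1, Finset.sum_add_distrib, Finset.sum_sub_distrib,
      Finset.sum_sub_distrib, Finset.mul_sum, Finset.mul_sum, Finset.mul_sum, Finset.mul_sum]
  have e3 : 3 * t + (10 * ∑ χ ∈ NE, i 360855 χ + 4 * ∑ χ ∈ NE, i (-577368) χ) ≤ ∑ χ ∈ NE, b χ ^ 2 := by
    rw [← hb, Finset.mul_sum, Finset.mul_sum, Finset.mul_sum, ← Finset.sum_add_distrib, ← Finset.sum_add_distrib]
    exact Finset.sum_le_sum fun χ h => (h1 χ h).2.2
  obtain ⟨c1, c2⟩ := count (hnn _) (hnn _) (hnn _) (hnn _) e1 hs e2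
  rw [c1, c2] at e3
  linarith only [hq, e3, sq_nonneg (4 * t + 3)]

end Cfsg.Agent.H494.S8.FiNum
end

-- part: H456/SB/Rat
section
/-!
# S4884: rational `q`-elements with a small centralizer (helper456)

* `vanish`       : `y` a rational `q`-element, `|C(y)| ≤ q ^ 2`: the characters `≠ 1` of degree divisible by `q` vanish at `y`;
* `rowQ_of_rat`  : the row.
-/

set_option autoImplicit false
set_option linter.unusedSectionVars false

open Cfsg Subgroup
open scoped ComplexConjugate

namespace Cfsg.Agent.H456.SB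

open Cfsg.Agent.Characters.Core Cfsg.Agent.H635.SB Cfsg.Agent.H635.PQ Cfsg.Agent.H709.PB Cfsg.Agent.H317.PQ

universe u

variable {G : Type u} [Group G] [Finite G]

theorem dvd_sub_of_int {p : ℕ} (hp : p.Prime) (χ : IrrCharacter G) {g : G} (hg : ∃ k : ℕ, orderOf g = p ^ k)
    {k : ℤ} (hk : (χ : G → ℂ) g = k) : (p : ℤ) ∣ k - (charDegree (χ : G → ℂ) : ℤ) := by
  obtain ⟨M, hM⟩ := Blocks.ExistsModular.exists_isPModular hp
  have h1 := CharactersDeep.ModCongr.memLocalIdeal_character_sub hM χ.2 g g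
    ⟨1, mul_one g, Commute.one_right g, hg, by rw [orderOf_one]; exact fun h => hp.one_lt.ne' (Nat.dvd_one.1 h)⟩
  rw [inv_mul_cancel, hk, Blocks.Basic.irr_one_eq_charDegree χ.2] at h1
  have h2 : ((k : ℂ) - (charDegree (χ : G → ℂ) : ℂ)) = ((k - (charDegree (χ : G → ℂ) : ℤ) : ℤ) : ℂ) := by
    push_cast; rfl
  rw [h2, Blocks.Local.memLocalIdeal_intCast_iff hM] at h1
  exact h1

/-- rational elements have integral values -/
theorem exists_int_of_rational {y : G} (hr : ∀ m : ℕ, m.Coprime (Nat.card G) → IsConj y (y ^ m)) (χ : IrrCharacter G) :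
    ∃ k : ℤ, (χ : G → ℂ) y = k := by
  refine Characters.GaloisBasic.exists_int_of_rat (isIrr_isCharacter χ.2) y
    ((Characters.GaloisBasic.exists_rat_iff (isIrr_isCharacter χ.2) y).2 fun m hm => ?_)
  obtain ⟨c, hc⟩ := isConj_iff.1 (hr m hm)
  rw [← hc]
  exact isIrr_isClassFunction χ.2 y c

end Cfsg.Agent.H456.SB
end

-- part: H343/S8/Fi22Seven
section
/-!
# S4908: the column of an element of order 7 for `Fi₂₂` and `3.Fi₂₂` (helper343)

* `sum_over` : `|V| ∑ |χ(g)|²` over the characters lying over a linear character of a central subgroup `V` is `|C(g)|`, if `g`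
  is not conjugate to `g v`, `1 ≠ v ∈ V`;
* `col7`, `col7X` : elements of order 7 of `3.Fi₂₂`, `Fi₂₂`.
-/

set_option autoImplicit false
set_option linter.unusedSectionVars false

namespace Cfsg.Agent.H343.S8.Fi22Seven

open Cfsg Subgroup Cfsg.Agent.Characters.Core Cfsg.Agent.H388.AN
open scoped ComplexConjugate

universe u v

section general

variable {N : Type u} [Group N] [Finite N]

theorem over_mul {V : Subgroup N} (hc : V ≤ center N) {l : V →* ℂˣ} {χ : N → ℂ} (hχ : IsIrrCharacter N χ)
    (h : Over V l χ) (g : N) (v : V) : χ (g * v) = l v * χ g := by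
  have := Fintype.ofFinite N
  obtain ⟨w, -, hw⟩ := Cfsg.Agent.CharDeep.DegreeBound.exists_omega hχ (hc v.2)
  have h1 := hw 1
  rw [one_mul, h v, mul_comm] at h1
  have h2 : (l v : ℂ) = w := mul_right_cancel₀ (isIrr_apply_one_ne_zero hχ) h1
  rw [hw g, h2]

theorem over_unique {V : Subgroup N} {l l' : V →* ℂˣ} {χ : N → ℂ} (hχ : IsIrrCharacter N χ)
    (h : Over V l χ) (h' : Over V l' χ) : l = l' := by
  refine MonoidHom.ext fun v => Units.ext ?_
  have h1 := (h v).symm.trans (h' v)
  exact mul_left_cancel₀ (isIrr_apply_one_ne_zero hχ) h1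

theorem sum_lin {V : Type*} [Group V] [Fintype V] (l l' : V →* ℂˣ) [Decidable (l = l')] :
    ∑ v : V, (l v : ℂ) * conj (l' v : ℂ) = if l = l' then (Nat.card V : ℂ) else 0 := by
  have h1 : classInner (fun a => (l a : ℂ)) (fun a => (l' a : ℂ)) = if l = l' then (1 : ℂ) else 0 := by
    by_cases h : l = l'
    · rw [if_pos h, h]
      exact classInner_irr_self (Cfsg.Agent.H595.Central.isIrr_hom l')
    · rw [if_neg h]
      refine classInner_irr_ne (Cfsg.Agent.H595.Central.isIrr_hom l) (Cfsg.Agent.H595.Central.isIrr_hom l') fun h2 => h ?_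
      exact MonoidHom.ext fun v => Units.ext (congrFun h2 v)
  rw [classInner_def, inv_mul_eq_iff_eq_mul₀ card_ne_zero_complex] at h1
  rw [h1]
  split_ifs <;> simp

open Classical in
/-- **Column over a linear character of a central subgroup.** -/
theorem sum_over [Fintype (IrrCharacter N)] (V : Subgroup N) (hc : V ≤ center N) (l : V →* ℂˣ) (g : N)
    (hg : ∀ v ∈ V, v ≠ 1 → ¬ IsConj g (g * v)) :
    (Nat.card V : ℝ) * ∑ χ : IrrCharacter N, (if Over V l χ then Complex.normSq ((χ : N → ℂ) g) else 0) =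
      Nat.card (centralizer ({g} : Set N)) := by
  have := Fintype.ofFinite V
  have hex : ∀ χ : IrrCharacter N, ∃ l' : V →* ℂˣ, Over V l' χ := fun χ => exists_lin hc χ.2
  choose L hL using hex
  have hiff : ∀ χ : IrrCharacter N, Over V l χ ↔ l = L χ := fun χ =>
    ⟨fun h => over_unique χ.2 h (hL χ), fun h => by rw [h]; exact hL χ⟩
  have key : ((Nat.card V : ℂ)) * ∑ χ : IrrCharacter N, (if Over V l χ then (Complex.normSq ((χ : N → ℂ) g) : ℂ) else 0) =
      Nat.card (centralizer ({g} : Set N)) := by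
    calc ((Nat.card V : ℂ)) * ∑ χ : IrrCharacter N, (if Over V l χ then (Complex.normSq ((χ : N → ℂ) g) : ℂ) else 0)
        = ∑ χ : IrrCharacter N, (∑ v : V, (l v : ℂ) * conj (L χ v : ℂ)) * (Complex.normSq ((χ : N → ℂ) g) : ℂ) := by
          rw [Finset.mul_sum]
          refine Finset.sum_congr rfl fun χ _ => ?_
          rw [sum_lin]
          by_cases h : l = L χ
          · rw [if_pos ((hiff χ).2 h), if_pos h]
          · rw [if_neg (fun h2 => h ((hiff χ).1 h2)), if_neg h, mul_zero, zero_mul]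
      _ = ∑ v : V, (l v : ℂ) * ∑ χ : IrrCharacter N, (χ : N → ℂ) g * conj ((χ : N → ℂ) (g * v)) := by
          rw [Finset.sum_congr rfl fun χ _ => Finset.sum_mul _ _ _, Finset.sum_comm]
          refine Finset.sum_congr rfl fun v _ => ?_
          rw [Finset.mul_sum]
          refine Finset.sum_congr rfl fun χ _ => ?_
          rw [over_mul hc χ.2 (hL χ) g v, map_mul, ← Complex.mul_conj]
          ring
      _ = Nat.card (centralizer ({g} : Set N)) := by
          rw [Finset.sum_eq_single (1 : V)]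
          · rw [Cfsg.Agent.H686.CharKit.col_orth, OneMemClass.coe_one, mul_one, if_pos (IsConj.refl g), map_one,
              Units.val_one, one_mul]
          · intro v _ hv
            rw [Cfsg.Agent.H686.CharKit.col_orth, if_neg (hg v v.2 fun h => hv (Subtype.ext h)), mul_zero]
          · intro h
            exact absurd (Finset.mem_univ _) h
  have h2 : ((((Nat.card V : ℝ) * ∑ χ : IrrCharacter N, (if Over V l χ then Complex.normSq ((χ : N → ℂ) g) else 0) : ℝ)) : ℂ) =
      ((Nat.card (centralizer ({g} : Set N)) : ℝ) : ℂ) := by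
    push_cast
    rw [← key]
    congr 1
    refine Finset.sum_congr rfl fun χ _ => ?_
    split_ifs <;> simp
  exact_mod_cast h2

theorem card_cent_le {X : Type v} [Group X] [Finite X] (π : N →* X) (g : N) :
    Nat.card (centralizer ({g} : Set N)) ≤ Nat.card π.ker * Nat.card (centralizer ({π g} : Set X)) := by
  let f : centralizer ({g} : Set N) →* centralizer ({π g} : Set X) :=
    (π.comp (centralizer ({g} : Set N)).subtype).codRestrict _ (fun x => by
      rw [mem_centralizer_singleton_iff]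
      show π x * π g = π g * π x
      rw [← map_mul, ← map_mul, mem_centralizer_singleton_iff.1 x.2])
  rw [← f.ker.card_mul_index, Subgroup.index_ker]
  refine Nat.mul_le_mul ?_ (Nat.card_le_card_of_injective _ Subtype.val_injective)
  let i : f.ker → π.ker := fun x => ⟨x.1.1, by
    have h := congrArg Subtype.val x.2
    exact h⟩
  refine Nat.card_le_card_of_injective i ?_
  intro x y h
  have h1 : (i x : N) = i y := congrArg Subtype.val h
  exact Subtype.ext (Subtype.ext h1)

/-- the partial column -/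
theorem col_le {V : Subgroup N} (hc : V ≤ center N) (l : V →* ℂˣ) (g : N)
    (hg : ∀ v ∈ V, v ≠ 1 → ¬ IsConj g (g * v)) {m : ℕ} (hm : Nat.card (centralizer ({g} : Set N)) ≤ Nat.card V * m)
    (S : Finset (IrrCharacter N)) (hS : ∀ χ ∈ S, Over V l χ) :
    ∑ χ ∈ S, Complex.normSq ((χ : N → ℂ) g) ≤ m := by
  classical
  have := finite_irr (G := N)
  have := Fintype.ofFinite (IrrCharacter N)
  have h1 := sum_over V hc l g hg
  have h2 : ∑ χ ∈ S, Complex.normSq ((χ : N → ℂ) g) ≤
      ∑ χ : IrrCharacter N, (if Over V l χ then Complex.normSq ((χ : N → ℂ) g) else 0) := by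
    rw [Finset.sum_congr rfl fun χ hχ => (if_pos (hS χ hχ)).symm]
    refine Finset.sum_le_univ_sum_of_nonneg fun χ => ?_
    split_ifs
    · exact Complex.normSq_nonneg _
    · exact le_refl _
  have h3 : (0 : ℝ) < Nat.card V := by exact_mod_cast Nat.card_pos
  have h4 : (Nat.card (centralizer ({g} : Set N)) : ℝ) ≤ Nat.card V * m := by exact_mod_cast hm
  rw [← h1] at h4
  exact h2.trans (le_of_mul_le_mul_left h4 h3)

end general

/-! ### `Fi₂₂` -/

section fi

variable {X : Type v} [Group X] [Finite X]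

theorem isConj_pow (hX : Spor.IsoFi22 X) {x : X} (hx : orderOf x = 7) {m : ℕ} (hm : m.Coprime 7) : IsConj x (x ^ m) := by
  have hf : Fact (Nat.Prime 7) := ⟨by norm_num⟩
  have hC := H559.FiSpec.cent7 hX hx
  obtain ⟨e⟩ := hX
  have I := H836.inv_of_iso e
  have hP : Nat.card (zpowers x) = 7 := by rw [Nat.card_zpowers, hx]
  have hN := H836.Main.card_normalizer_seven I hP
  refine H707.Block.isConj_pow_of_relIndex hP ?_ (mem_zpowers x) hm
  rw [← H836.Main.centralizer_zpowers] at hC
  have h1 := Subgroup.relIndex_mul_relIndex (⊥ : Subgroup X) _ _ bot_le (centralizer_le_normalizer (zpowers x : Set X))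
  rw [Subgroup.relIndex_bot_left, Subgroup.relIndex_bot_left, hC, hN] at h1
  omega

theorem exists_seven (hX : Spor.IsoFi22 X) : ∃ x : X, orderOf x = 7 := by
  have hf : Fact (Nat.Prime 7) := ⟨by norm_num⟩
  exact exists_prime_orderOf_dvd_card' (G := X) 7 (by rw [H559.FiSpec.card_eq hX]; norm_num)

/-- **(X3) the column of an element of order 7 of `Fi₂₂`** -/
theorem col7X (hX : Spor.IsoFi22 X) : ∃ g : X, orderOf g = 7 ∧
    (∀ χ : IrrCharacter X, ∃ a : ℤ, (χ : X → ℂ) g = a ∧ (7 : ℤ) ∣ a - (charDegree (χ : X → ℂ) : ℤ)) ∧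
    ∀ S : Finset (IrrCharacter X), ∑ χ ∈ S, Complex.normSq ((χ : X → ℂ) g) ≤ 42 := by
  classical
  obtain ⟨g, hg⟩ := exists_seven hX
  have h7 : (7 : ℕ) ∣ Nat.card X := hg ▸ _root_.orderOf_dvd_natCard g
  refine ⟨g, hg, fun χ => ?_, fun S => ?_⟩
  · obtain ⟨a, ha⟩ := H456.SB.exists_int_of_rational (y := g)
      (fun m hm => isConj_pow hX hg (Nat.Coprime.coprime_dvd_right h7 hm)) χ
    exact ⟨a, ha, H456.SB.dvd_sub_of_int (by norm_num) χ ⟨1, by rw [hg, pow_one]⟩ ha⟩
  · have := finite_irr (G := X)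
    have := Fintype.ofFinite (IrrCharacter X)
    have h1 := Cfsg.Agent.H686.CharKit.sum_normSq g
    rw [H559.FiSpec.cent7 hX hg] at h1
    refine (Finset.sum_le_univ_sum_of_nonneg fun χ => Complex.normSq_nonneg _).trans (le_of_eq ?_)
    rw [h1]
    norm_num

variable {N : Type u} [Group N] [Finite N]

/-- **(N3) the column of an element of order 7 of `3.Fi₂₂`** -/
theorem col7 (V : Subgroup N) [V.Normal] (hV : Nat.card V = 3) (hc : V ≤ center N) (hX : Spor.IsoFi22 X)
    (e : (N ⧸ V) ≃* X) : ∃ g : N, orderOf g = 7 ∧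
    (∀ χ : IrrCharacter N, ∃ a : ℤ, (χ : N → ℂ) g = a ∧ (7 : ℤ) ∣ a - (charDegree (χ : N → ℂ) : ℤ)) ∧
    ∀ (l : V →* ℂˣ) (S : Finset (IrrCharacter N)), (∀ χ ∈ S, Over V l χ) →
      ∑ χ ∈ S, Complex.normSq ((χ : N → ℂ) g) ≤ 42 := by
  obtain ⟨x, hx⟩ := exists_seven hX
  let π : N →* X := e.toMonoidHom.comp (QuotientGroup.mk' V)
  have hπ : Function.Surjective π := e.surjective.comp (QuotientGroup.mk'_surjective V)
  have hker : ∀ y, π y = 1 ↔ y ∈ V := by
    intro y
    change e (QuotientGroup.mk' V y) = 1 ↔ _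
    rw [map_eq_one_iff e e.injective, QuotientGroup.mk'_apply, QuotientGroup.eq_one_iff]
  have hk : π.ker = V := by
    ext y
    rw [MonoidHom.mem_ker, hker]
  have hx7 : x ^ 7 = 1 := by rw [← hx, pow_orderOf_eq_one]
  have hV3 : ∀ v ∈ V, v ^ 3 = 1 := by
    intro v hv
    have h1 := pow_card_eq_one' (x := (⟨v, hv⟩ : V))
    rw [hV] at h1
    exact congrArg Subtype.val h1
  have hV7 : ∀ v ∈ V, v ^ 7 = 1 → v = 1 := by
    intro v hv h7
    calc v = v ^ 7 * ((v ^ 3) ^ 2)⁻¹ := by group
      _ = 1 := by rw [h7, hV3 v hv, one_pow, inv_one, one_mul]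
  obtain ⟨n, hn⟩ := hπ x
  have hg : π (n ^ 15) = x := by
    rw [map_pow, hn, show (15 : ℕ) = 7 * 2 + 1 from rfl, pow_succ, pow_mul, hx7, one_pow, one_mul]
  have hg7 : (n ^ 15) ^ 7 = 1 := by
    have h1 : (n ^ 7) ^ 3 = 1 := hV3 _ ((hker _).1 (by rw [map_pow, hn, hx7]))
    rw [← pow_mul, show 15 * 7 = 7 * 3 * 5 from rfl, pow_mul, pow_mul, h1, one_pow]
  have hf : Fact (Nat.Prime 7) := ⟨by norm_num⟩
  have hgo : orderOf (n ^ 15) = 7 := orderOf_eq_prime hg7 (by
    intro h1
    rw [h1, map_one] at hg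
    rw [← hg, orderOf_one] at hx
    norm_num at hx)
  have h7 : (7 : ℕ) ∣ Nat.card N := hgo ▸ _root_.orderOf_dvd_natCard (n ^ 15)
  generalize n ^ 15 = g at hg hg7 hgo
  have hrat : ∀ m : ℕ, m.Coprime (Nat.card N) → IsConj g (g ^ m) := by
    intro m hm
    obtain ⟨c, hc'⟩ := isConj_iff.1 (isConj_pow hX hx (Nat.Coprime.coprime_dvd_right h7 hm))
    obtain ⟨y, rfl⟩ := hπ c
    have h1 : (g ^ m)⁻¹ * (y * g * y⁻¹) ∈ V := by
      rw [← hker, map_mul, map_inv, map_pow, map_mul, map_mul, map_inv, hg, hc', inv_mul_cancel]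
    obtain ⟨v, hv⟩ : ∃ v, v = (g ^ m)⁻¹ * (y * g * y⁻¹) := ⟨_, rfl⟩
    rw [← hv] at h1
    have h2 : y * g * y⁻¹ = g ^ m * v := by rw [hv]; group
    have h3 : Commute (g ^ m) v := mem_center_iff.1 (hc h1) (g ^ m)
    have h4 : (y * g * y⁻¹) ^ 7 = 1 := by rw [conj_pow, hg7]; group
    have h5 : v = 1 := hV7 v h1 (by
      rw [h2, h3.mul_pow, ← pow_mul, mul_comm, pow_mul, hg7, one_pow, one_mul] at h4
      exact h4)
    exact isConj_iff.2 ⟨y, by rw [h2, h5, mul_one]⟩
  refine ⟨g, hgo, fun χ => ?_, fun l S hS => ?_⟩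
  · obtain ⟨a, ha⟩ := H456.SB.exists_int_of_rational (y := g) hrat χ
    exact ⟨a, ha, H456.SB.dvd_sub_of_int (by norm_num) χ ⟨1, by rw [hgo, pow_one]⟩ ha⟩
  · have h1 := col_le hc l g (fun v hv hv1 hcj => ?_) (m := 42) ?_ S hS
    · exact_mod_cast h1
    · obtain ⟨c, hc'⟩ := isConj_iff.1 hcj
      apply hv1
      apply hV7 v hv
      have h3 : Commute g v := mem_center_iff.1 (hc hv) g
      have h4 : (c * g * c⁻¹) ^ 7 = 1 := by rw [conj_pow, hg7]; group
      rwa [hc', h3.mul_pow, hg7, one_mul] at h4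
    · refine (card_cent_le π g).trans ?_
      rw [hk, hg, H559.FiSpec.cent7 hX hx]

end fi

end Cfsg.Agent.H343.S8.Fi22Seven
end

-- part: H109/S8/CentBlock
section
/-!
# The block of defect one over a linear character of a central subgroup (helper109)

`N` finite, `V` central of order prime to `p`, `N / V ≃* X`, `|N|_p = p`, the elements of order `p` of `X` are
self-centralizing.

* `isComp_central` : `V` is the set of `p`-regular elements of `C_N(P)`;
* `exists_block` : the `e` non-exceptional and `(p - 1) / e` exceptional characters over `l`, `l` linear on `V`.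
-/

set_option autoImplicit false
set_option linter.unusedSectionVars false

open Cfsg
open scoped ComplexConjugate

namespace Cfsg.Agent.H109.S8

open Subgroup
open Cfsg.Agent.Characters.Core
open Cfsg.Agent.SmallSimple.ThetaSetup
open Cfsg.Agent.SmallSimple.ThetaOrtho
open Cfsg.Agent.SmallSimple.TheoremC Cfsg.Agent.SmallSimple.TheoremCCor

universe u v

variable {N : Type u} [Group N] [Finite N] {X : Type v} [Group X] {p : ℕ} [hp : Fact p.Prime]

theorem isComp_central {V : Subgroup N} [V.Normal] (hV : ¬ p ∣ Nat.card V) (hc : V ≤ center N) (e : (N ⧸ V) ≃* X)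
    (hX : ∀ y : X, orderOf y = p → Nat.card (centralizer ({y} : Set X)) = p) {P : Subgroup N} (hP : Nat.card P = p) :
    IsComp p P V := by
  intro y
  constructor
  · intro hy
    refine ⟨Subgroup.center_le_centralizer _ (hc hy), fun h => hV (h.trans ?_)⟩
    have h1 := _root_.orderOf_dvd_natCard (⟨y, hy⟩ : V)
    rwa [Subgroup.orderOf_mk] at h1
  · rintro ⟨hy1, hy2⟩
    obtain ⟨x, hx, hx1⟩ := exists_ne_one hP
    let π : N →* X := e.toMonoidHom.comp (QuotientGroup.mk' V)
    have hker : ∀ g : N, π g = 1 ↔ g ∈ V := fun g => by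
      change e (g : N ⧸ V) = 1 ↔ _
      rw [MulEquiv.map_eq_one_iff, QuotientGroup.eq_one_iff]
    have hxp : x ^ p = 1 := by
      have h1 := _root_.orderOf_dvd_natCard (⟨x, hx⟩ : P)
      rw [Subgroup.orderOf_mk, hP] at h1
      exact orderOf_dvd_iff_pow_eq_one.1 h1
    have hπx : π x ≠ 1 := by
      intro h
      have h1 := (hker x).1 h
      apply hV
      have h2 := _root_.orderOf_dvd_natCard (⟨x, h1⟩ : V)
      rw [Subgroup.orderOf_mk, orderOf_eq_prime hxp hx1] at h2
      exact h2
    have hox : orderOf (π x) = p := orderOf_eq_prime (by rw [← map_pow, hxp, map_one]) hπx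
    have hcd := hX _ hox
    have hy3 : π y ∈ centralizer ({π x} : Set X) := by
      rw [mem_centralizer_singleton_iff, ← map_mul, ← map_mul]
      congr 1
      exact (mem_centralizer_iff.1 hy1 x hx).symm
    have h1 : orderOf (π y) ∣ p := by
      have h2 := _root_.orderOf_dvd_natCard (⟨π y, hy3⟩ : centralizer ({π x} : Set X))
      rwa [Subgroup.orderOf_mk, hcd] at h2
    rcases (Nat.dvd_prime hp.out).1 h1 with h2 | h2
    · exact (hker y).1 (orderOf_eq_one_iff.1 h2)
    · exact absurd (h2 ▸ orderOf_map_dvd π y) hy2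

theorem card_centralizer_central {V : Subgroup N} [V.Normal] (hV : ¬ p ∣ Nat.card V) (hc : V ≤ center N)
    (e : (N ⧸ V) ≃* X) (hX : ∀ y : X, orderOf y = p → Nat.card (centralizer ({y} : Set X)) = p) {P : Sylow p N}
    (hP : Nat.card P = p) {x : N} (hx : x ∈ P) (hx1 : x ≠ 1) :
    Nat.card (centralizer ({x} : Set N)) = p * Nat.card V := by
  have hK := isComp_central hV hc e hX (P := (P : Subgroup N)) hP
  have h1 := Nat.card_congr (_root_.Cfsg.Agent.SmallSimple.ThetaSetup.prodEquiv hK hP).toEquiv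
  rw [Nat.card_prod] at h1
  rw [Blocks.CyclicOrtho.centralizer_eq P hP hx hx1]
  have h2 : Nat.card P * Nat.card V = Nat.card (centralizer ((P : Subgroup N) : Set N)) := h1
  rw [← h2, hP]

theorem card_sylow_eq {P : Sylow p N} {n : ℕ} (hN : Nat.card N = n) (h1 : p ∣ n) (h2 : ¬ p ^ 2 ∣ n) :
    Nat.card P = p := by
  rw [P.card_eq_multiplicity, hN]
  have hN0 : n ≠ 0 := by rw [← hN]; exact Nat.card_pos.ne'
  have h3 : n.factorization p = 1 := by
    have h4 := (hp.out.pow_dvd_iff_le_factorization (k := 1) hN0).1 (by rwa [pow_one])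
    have h5 : ¬ 2 ≤ n.factorization p := fun h => h2 ((hp.out.pow_dvd_iff_le_factorization hN0).2 h)
    omega
  rw [h3, pow_one]

/-- **The block of defect one over `l`.** -/
theorem exists_block {V : Subgroup N} [V.Normal] {r : ℕ} (hVr : Nat.card V = r) (hpr : ¬ p ∣ r) (hc : V ≤ center N)
    (eX : (N ⧸ V) ≃* X) (hX : ∀ y : X, orderOf y = p → Nat.card (centralizer ({y} : Set X)) = p) (l : V →* ℂˣ)
    {n e t : ℕ} (hN : Nat.card N = n) (h1 : p ∣ n) (h2 : ¬ p ^ 2 ∣ n) (he : n / (p * r) % p = e) (he0 : e ≠ 0)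
    (ht : e * t = p - 1) :
    ∃ (P : Sylow p N) (NE XX : Finset (IrrCharacter N)) (ε : IrrCharacter N → ℤ) (δ : ℤ),
      Nat.card P = p ∧ NE.card = e ∧ XX.card = t ∧ Disjoint NE XX ∧
      (∀ χ, χ ∈ NE ∨ χ ∈ XX → H388.AN.Over V l χ) ∧
      (∀ χ ∈ NE, ε χ = 1 ∨ ε χ = -1) ∧ (δ = 1 ∨ δ = -1) ∧
      (∀ χ ∈ NE, ∀ x : P, x ≠ 1 → (χ : N → ℂ) x = ε χ) ∧
      (∀ χ ∈ NE, (p : ℤ) ∣ ε χ * charDegree (χ : N → ℂ) - 1) ∧
      (∀ Θ ∈ XX, (p : ℤ) ∣ δ * charDegree (Θ : N → ℂ) - e) ∧
      (∀ Θ ∈ XX, ∀ g : N, ¬ p ∣ orderOf g → ∑ χ ∈ NE, (ε χ : ℂ) * (χ : N → ℂ) g = δ * (Θ : N → ℂ) g) ∧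
      (∀ χ : IrrCharacter N, H388.AN.Over V l χ → χ ∉ NE → χ ∉ XX → p ∣ charDegree (χ : N → ℂ)) := by
  classical
  haveI := Fintype.ofFinite N
  let P : Sylow p N := default
  have hP : Nat.card P = p := card_sylow_eq hN h1 h2
  have hV : ¬ p ∣ Nat.card V := by rw [hVr]; exact hpr
  have hK : IsComp p (P : Subgroup N) V := isComp_central hV hc eX hX hP
  obtain ⟨x₀, hx₀, hx₁⟩ := exists_ne_one (P := (P : Subgroup N)) hP
  have hcx := card_centralizer_central hV hc eX hX hP hx₀ hx₁
  rw [hVr] at hcx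
  have hidx := H618.LD.Blk.relIndex_eq hP hK hx₀ hx₁ hN hcx he he0
  let θ : V → ℂ := fun z => (l z : ℂ)
  have hθ : IsIrrCharacter V θ := Cfsg.Agent.H595.Central.isIrr_hom l
  have hθ1 : θ 1 = 1 := by simp [θ]
  have hst : ∀ n ∈ normalizer ((P : Subgroup N) : Set N), tw θ n = θ := by
    intro n hn
    funext y
    rw [tw_apply hK _ hn]
    congr 1
    apply Subtype.ext
    change n * (y : N) * n⁻¹ = y
    rw [Subgroup.mem_center_iff.1 (hc y.2) n, mul_inv_cancel_right]
  have hse := card_stabAct_of_stable hK hP hθ hst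
  obtain ⟨NE, XX, ε, d, S, k1, k2, k3, k4, k5, k6, k7, k8, -, -, k9⟩ := theoremC hK hP hθ (hse.trans hidx) ht
  have hover : ∀ χ : IrrCharacter N, χ ∈ SmallSimple.ThetaOrtho.Over P θ → H388.AN.Over V l χ := by
    intro χ hχ z
    obtain ⟨x, hx, hne⟩ := mem_Over.1 hχ
    obtain ⟨w, -, hw⟩ := Cfsg.Agent.CharDeep.DegreeBound.exists_omega χ.2 (hc z.2)
    have a1 := apply_of_stable hK hP hθ hst hχ hx z
    have a2 := apply_of_stable hK hP hθ hst hχ hx 1
    rw [Subgroup.coe_one, mul_one, hθ1, mul_one] at a2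
    rw [hw, a2] at a1
    have a3 : w = θ z := by
      rw [mul_comm] at a1
      exact mul_left_cancel₀ hne a1
    have a4 := hw 1
    rw [one_mul, a3] at a4
    rw [a4, mul_comm]
  have hval : ∀ χ ∈ NE, ∀ x : P, x ≠ 1 → (χ : N → ℂ) x = ε χ := by
    intro χ hχ x hx
    have a1 := apply_of_stable hK hP hθ hst ((k1 χ).2 (Or.inl hχ)) hx 1
    rw [Subgroup.coe_one, mul_one, hθ1, mul_one, k7 χ hχ x hx] at a1
    exact a1
  have hcong : ∀ χ ∈ NE, (p : ℤ) ∣ ε χ * charDegree (χ : N → ℂ) - 1 := by
    intro χ hχ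
    have a1 := SmallSimple.DegreeData.nonexc_modEq (P := (P : Subgroup N)) (p := p) hP (k5 χ hχ) (χ := χ)
      (fun x hx hx1 => hval χ hχ ⟨x, hx⟩ (fun h => hx1 (congrArg Subtype.val h)))
    exact (Int.modEq_iff_dvd.1 a1.symm)
  refine ⟨P, NE, XX, ε, d, hP, k3, k4, k2, fun χ hχ => hover χ ((k1 χ).2 hχ), k5, k6, hval, hcong, ?_, k9, ?_⟩
  · intro Θ hΘ
    have a1 := k9 Θ hΘ 1 H618.LD.Blk.not_dvd_one
    have a2 : ∀ χ : IrrCharacter N, (χ : N → ℂ) 1 = ((charDegree (χ : N → ℂ) : ℤ) : ℂ) := fun χ => by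
      rw [Blocks.Basic.irr_one_eq_charDegree χ.2]; push_cast; rfl
    rw [a2 Θ, Finset.sum_congr rfl (g := fun χ => ((ε χ * (charDegree (χ : N → ℂ) : ℤ) : ℤ) : ℂ)) (fun χ _ => by
      rw [a2 χ]; push_cast; rfl), ← Int.cast_sum] at a1
    have a3 : ∑ χ ∈ NE, ε χ * (charDegree (χ : N → ℂ) : ℤ) = d * (charDegree (Θ : N → ℂ) : ℤ) := by exact_mod_cast a1
    have a4 : (e : ℤ) = ∑ χ ∈ NE, (1 : ℤ) := by rw [Finset.sum_const, k3]; simp
    rw [← a3, a4, ← Finset.sum_sub_distrib]
    exact Finset.dvd_sum fun χ hχ => hcong χ hχ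
  · intro χ hχ hn hx
    have a1 : χ ∉ SmallSimple.ThetaOrtho.Over P θ := fun h => by
      rcases (k1 χ).1 h with h | h
      · exact hn h
      · exact hx h
    have a2 := part_eq_zero a1 (x := ⟨x₀, hx₀⟩) (fun h => hx₁ (congrArg Subtype.val h))
    -- `part θ χ x₀ = χ x₀`
    have hfV := Fintype.ofFinite V
    rw [part_eq] at a2
    have a3 : ∀ z : V, (χ : N → ℂ) (x₀ * z) * conj (θ z) = (χ : N → ℂ) x₀ := by
      intro z
      obtain ⟨w, -, hw⟩ := Cfsg.Agent.CharDeep.DegreeBound.exists_omega χ.2 (hc z.2)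
      have b1 := hw 1
      rw [one_mul, hχ z, mul_comm] at b1
      have b2 : (l z : ℂ) = w := mul_right_cancel₀ (isIrr_apply_one_ne_zero χ.2) b1
      have b3 : ((l z⁻¹ : ℂˣ) : ℂ) = conj (θ z) :=
        isCharacter_apply_inv (isIrr_isCharacter (Cfsg.Agent.H595.Central.isIrr_hom l)) z
      rw [hw, ← b3, ← b2, map_inv]
      have b4 : (l z : ℂ) * ((l z)⁻¹ : ℂˣ) = 1 := by rw [← Units.val_mul, mul_inv_cancel, Units.val_one]
      linear_combination (χ : N → ℂ) x₀ * b4
    rw [Finset.sum_congr rfl fun z _ => a3 z, Finset.sum_const, Finset.card_univ, nsmul_eq_mul,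
      ← Nat.card_eq_fintype_card, ← mul_assoc, inv_mul_cancel₀ (by exact_mod_cast Nat.card_pos.ne'), one_mul] at a2
    -- congruence
    obtain ⟨M, hM⟩ := Blocks.ExistsModular.exists_isPModular hp.out
    have hox : orderOf x₀ = p ^ 1 := by rw [pow_one]; exact Blocks.CyclicOrtho.orderOf_eq P hP hx₀ hx₁
    have a4 := H618.LD.Blk.int_cong (p := p) χ (g := x₀) (x := x₀) (y := 1) (mul_one _) (Commute.one_right _) hox
      H618.LD.Blk.not_dvd_one (m := 0) (n := (charDegree (χ : N → ℂ) : ℤ)) (by rw [Int.cast_zero]; exact a2)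
      (by rw [Blocks.Basic.irr_one_eq_charDegree χ.2]; push_cast; rfl)
    rw [zero_sub, dvd_neg] at a4
    exact_mod_cast a4

end Cfsg.Agent.H109.S8
end

-- part: H109/S8/Fi22N
section
/-!
# S4908, `Fi₂₂`, COVER at `3`: the block of defect one at 13 (helper109)

* `dvd_of_over` : `r ∣ χ(1)`, `χ(1) ∣ |X|` for the characters over a nontrivial linear character of `V`;
* `block13` : (N1) of helper494.
-/

set_option autoImplicit false

open Cfsg

namespace Cfsg.Agent.H109.S8

open Subgroup
open Cfsg.Agent.Characters.Core Cfsg.Agent.H424.DegTools Cfsg.Agent.H388.AN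

universe u v

/-- (N2) the degrees over a nontrivial linear character -/
theorem dvd_of_over {N : Type u} [Group N] [Finite N] {X : Type v} [Group X] {V : Subgroup N} [V.Normal] {r : ℕ}
    (hr : r.Prime) (hV : Nat.card V = r) (hc : V ≤ center N) (hp : commutator N = ⊤) (e : (N ⧸ V) ≃* X) {l : V →* ℂˣ}
    (hl : ∃ v, l v ≠ 1) {χ : IrrCharacter N} (hχ : Over V l χ) :
    r ∣ charDegree (χ : N → ℂ) ∧ charDegree (χ : N → ℂ) ∣ Nat.card X := by
  obtain ⟨v, hv⟩ := hl
  constructor
  · have h2 : (l v) ^ r = 1 := by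
      rw [← map_pow, ← hV, pow_card_eq_one', map_one]
    haveI : Fact r.Prime := ⟨hr⟩
    have h3 : orderOf (l v) = r := orderOf_eq_prime h2 hv
    have h4 := pow_deg_eq_one hp χ.2 (Blocks.Basic.irr_one_eq_charDegree χ.2) (hc v.2) (hχ v)
    rw [← h3]
    apply orderOf_dvd_of_pow_eq_one
    apply Units.ext
    rw [Units.val_pow_eq_pow_val, Units.val_one]
    exact h4
  · rw [← index_of_equiv V e]
    refine ito ⟨χ, rfl⟩ V fun a ha b _ => ?_
    exact (Subgroup.mem_center_iff.1 (hc ha) b).symm

namespace Fi22N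

/-- (N1) the block at 13 -/
theorem block13 {N : Type u} [Group N] [Finite N] {X : Type v} [Group X] (hX : Spor.IsoFi22 X) {V : Subgroup N}
    [V.Normal] (hV : Nat.card V = 3) (hc : V ≤ center N) (e : (N ⧸ V) ≃* X) (l : V →* ℂˣ) :
    ∃ (NE XX : Finset (IrrCharacter N)) (ε : IrrCharacter N → ℤ) (δ : ℤ),
      NE.card = 6 ∧ XX.card = 2 ∧ Disjoint NE XX ∧
      (∀ χ, χ ∈ NE ∨ χ ∈ XX → Over V l χ) ∧
      (∀ χ ∈ NE, ε χ = 1 ∨ ε χ = -1) ∧ (δ = 1 ∨ δ = -1) ∧
      (∀ χ ∈ NE, (13 : ℤ) ∣ ε χ * charDegree (χ : N → ℂ) - 1) ∧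
      (∀ Θ ∈ XX, (13 : ℤ) ∣ δ * charDegree (Θ : N → ℂ) - 6) ∧
      (∀ Θ ∈ XX, ∀ g : N, ¬ 13 ∣ orderOf g → ∑ χ ∈ NE, (ε χ : ℂ) * (χ : N → ℂ) g = δ * (Θ : N → ℂ) g) ∧
      (∀ χ : IrrCharacter N, Over V l χ → χ ∉ NE → χ ∉ XX → 13 ∣ charDegree (χ : N → ℂ)) := by
  have : Fact (Nat.Prime 13) := ⟨by norm_num⟩
  obtain ⟨f⟩ := hX
  have hXc : Nat.card X = 64561751654400 := NotCT.Orders.fi22 ⟨f⟩
  have hfX : Finite X := Finite.of_equiv _ e.toEquiv
  have hNc : Nat.card N = 193685254963200 := by
    have h1 := V.card_mul_index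
    rw [hV, index_of_equiv V e, hXc] at h1
    omega
  obtain ⟨P, NE, XX, ε, δ, -, h1, h2, h3, h4, h5, h6, -, h8, h9, h10, h11⟩ :=
    exists_block (p := 13) (n := 193685254963200) (e := 6) (t := 2) hV (by norm_num) hc e
      (fun y hy => H713.Spor.Fi22.cent_13 f hy) l hNc (by norm_num) (by norm_num) (by norm_num) (by norm_num)
      (by norm_num)
  exact ⟨NE, XX, ε, δ, h1, h2, h3, h4, h5, h6, h8, h9, h10, h11⟩

end Fi22N

end Cfsg.Agent.H109.S8
end

-- part: H494/S8/Fi22C3
section
/-!
# S4908, `Fi₂₂`, COVER for `r = 3` (helper494)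

* `three` : the case `r = 3` of COVER for `Fi₂₂` (`H343.S8.ThreePart`), with `Spor.IsoFi22 X`;
* `cover` : `CoverAt 3 2 D X`; `cover3`, `cover3'` : `Cover3 2 D X` (both primes, `H343.S8.row`).

Proof. The 13-block of `N = 3.Fi₂₂` over a nontrivial linear character of `V` (helper109): six nonexceptional characters
(degrees `±1` mod 13), two exceptional ones (`±6`). The degrees of `Fi₂₂` prime to 13 are `1, 3080, 360855, 577368, 1360800,
1441792, 138600` (`FiBlk.deg13`). For `i = 1, 2` residues modulo 13; for `i = 0` the relation of the degrees in the block and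
the column of an element of order 7 (helper343).
-/

set_option autoImplicit false
set_option linter.unusedSectionVars false

namespace Cfsg.Agent.H494.S8.Fi22C3

open Cfsg Subgroup
open Cfsg.Agent.Characters.Core Cfsg.Agent.H424.DegTools Cfsg.Agent.H388.AN

universe u v

section X

variable {X : Type v} [Group X]

theorem isSimple (hX : Spor.IsoFi22 X) : IsSimpleGroup X := by
  obtain ⟨e⟩ : Nonempty (X ≃* Spor.Fi22) := hX
  have := H343.S8.simple22
  exact (MulEquiv.isSimpleGroup_congr e).2 inferInstance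

theorem card_X (hX : Spor.IsoFi22 X) : Nat.card X = 64561751654400 := by
  obtain ⟨e⟩ : Nonempty (X ≃* Spor.Fi22) := hX
  rw [Nat.card_congr e.toEquiv, H343.S8.card22]

theorem not_comm (hX : Spor.IsoFi22 X) : ¬ IsMulCommutative X := by
  intro h
  have := isSimple hX
  have hcomm : ∀ a b : X, a * b = b * a := h.is_comm.comm
  let _ : CommGroup X := { (inferInstance : Group X) with mul_comm := hcomm }
  have : Finite X := Nat.finite_of_card_ne_zero (by rw [card_X hX]; norm_num)
  have h1 : (Nat.card X).Prime := IsSimpleGroup.prime_card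
  rw [card_X hX] at h1
  norm_num at h1

/-- the degrees prime to `13` -/
theorem is13 (hX : Spor.IsoFi22 X) {f : ℕ} (hf : f ∈ charDegrees X) (h : ¬ 13 ∣ f) : FiNum.Is13 (f : ℤ) := by
  have := isSimple hX
  have : Finite X := Nat.finite_of_card_ne_zero (by rw [card_X hX]; norm_num)
  obtain ⟨g, h1, h2, h3⟩ := H343.S8.Fi22Seven.col7X hX
  obtain ⟨χ, hχ⟩ := hf
  obtain ⟨e⟩ : Nonempty (X ≃* Spor.Fi22) := hX
  have hχ' : charDegree (χ : X → ℂ) = f := hχ
  have h4 := FiBlk.deg13 (not_comm ⟨e⟩) e h1 h2 h3 χ (by rw [hχ']; exact h)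
  rw [hχ'] at h4
  unfold FiNum.Is13
  (clear * - h4; solve | lia | omega)

theorem of_mem (hX : Spor.IsoFi22 X) {D : Set ℕ} (hD : H704.S8.Deg 2 X D) {d : ℕ} (hd : d ∈ D) :
    ∃ f ∈ charDegrees X, d = f ∨ d = 2 * f := by
  obtain ⟨e⟩ : Nonempty (X ≃* Spor.Fi22) := hX
  have := H343.S8.finite22
  rcases hD with rfl | ⟨-, rfl⟩
  · exact ⟨d, hd, Or.inl rfl⟩
  · rw [H343.S8.mulAut_congr e] at hd
    rw [charDegrees_congr e]
    rcases H109.S8.deg_aut H343.S8.center22 H343.S8.index22 hd with h1 | ⟨χ, χ', f, -, h3, -, h4⟩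
    · exact ⟨d, h1, Or.inl rfl⟩
    · exact ⟨f, ⟨χ, Blocks.Basic.charDegree_of_eq h3⟩, Or.inr h4⟩

theorem bad_of (hX : Spor.IsoFi22 X) {D : Set ℕ} (hD : H704.S8.Deg 2 X D) {d : ℕ} (h13 : ¬ 13 ∣ d)
    (h : d ∈ D ∨ 2 * d ∈ D) : FiNum.Bad (d : ℤ) := by
  rcases h with h | h
  · obtain ⟨f, hf, h1⟩ := of_mem hX hD h
    refine ⟨f, is13 hX hf (by omega), by omega⟩
  · obtain ⟨f, hf, h1⟩ := of_mem hX hD h
    refine ⟨f, is13 hX hf (by (solve | lia | omega)), by omega⟩

/-- **COVER for `r = 3`** -/
theorem three (hX : Spor.IsoFi22 X) {D : Set ℕ} (hD : H704.S8.Deg 2 X D) : H343.S8.ThreePart.{u} D X := by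
  classical
  intro N _ _ V _ hV hc hp he i hi
  obtain ⟨e⟩ := he
  have hfX : Finite X := Nat.finite_of_card_ne_zero (by rw [card_X hX]; norm_num)
  have hk : Nat.card (ConjClasses X) ≤ 118 := by
    obtain ⟨g⟩ : Nonempty (X ≃* Spor.Fi22) := hX
    have := H343.S8.finite22
    refine le_trans ?_ H878.EPX.FiK.k_le
    exact Nat.card_le_card_of_surjective (ConjClasses.map g.symm.toMonoidHom) (ConjClasses.map_surjective g.symm.surjective)
  have hi2 : i ≤ 2 := by
    by_contra hcon
    have h4 : 3 ^ (2 * 3) ≤ 3 ^ (2 * i) := Nat.pow_le_pow_right (by norm_num) (by omega)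
    omega
  have hb : V ≠ ⊥ := by
    rintro rfl
    rw [Subgroup.card_bot] at hV
    omega
  obtain ⟨l, v, hv⟩ := H109.S8.exists_lin_ne V hb hc
  obtain ⟨NE, XX, ε, δ, hNE, hXX, hdis, hov, hε, hδ, hcN, hcX, hrel, -⟩ := H109.S8.Fi22N.block13 hX hV hc e l
  by_contra hcon
  push Not at hcon
  have hbad : ∀ χ : IrrCharacter N, χ ∈ NE ∨ χ ∈ XX → ¬ 13 ∣ charDegree (χ : N → ℂ) →
      FiNum.Bad ((charDegree (χ : N → ℂ) : ℤ) * 3 ^ i) := by
    intro χ hχ h13
    have hne : (χ : N → ℂ) v ≠ (χ : N → ℂ) 1 := by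
      intro h2
      have h3 := hov χ hχ v
      rw [h2] at h3
      have h4 : (χ : N → ℂ) 1 * 1 = (χ : N → ℂ) 1 * l v := by rw [mul_one]; exact h3
      exact hv (Units.ext (mul_left_cancel₀ (isIrr_apply_one_ne_zero χ.2) h4).symm)
    have h1 := hcon (χ : N → ℂ) (charDegree (χ : N → ℂ)) χ.2 ⟨v, v.2, hne⟩ (Blocks.Basic.irr_one_eq_charDegree χ.2)
    have h5 : charDegree (χ : N → ℂ) * 3 ^ i ∈ D ∨ 2 * (charDegree (χ : N → ℂ) * 3 ^ i) ∈ D := by
      by_cases h6 : charDegree (χ : N → ℂ) * 3 ^ i ∈ D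
      · exact Or.inl h6
      · exact Or.inr (h1 h6).1
    have h6 := bad_of hX hD (d := charDegree (χ : N → ℂ) * 3 ^ i) (fun h => by
      rcases (Nat.Prime.dvd_mul (by norm_num)).1 h with h7 | h7
      · exact h13 h7
      · have h8 := Nat.Prime.dvd_of_dvd_pow (by norm_num : Nat.Prime 13) h7
        omega) h5
    push_cast at h6
    exact h6
  have hnN : ∀ χ ∈ NE, ¬ 13 ∣ charDegree (χ : N → ℂ) := by
    intro χ h h1
    have h2 := hcN χ h
    have h3 : (13 : ℤ) ∣ (charDegree (χ : N → ℂ) : ℤ) := by exact_mod_cast h1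
    have h4 := dvd_sub (h3.mul_left (ε χ)) h2
    rw [sub_sub_cancel] at h4
    omega
  have hnX : ∀ χ ∈ XX, ¬ 13 ∣ charDegree (χ : N → ℂ) := by
    intro χ h h1
    have h2 := hcX χ h
    have h3 : (13 : ℤ) ∣ (charDegree (χ : N → ℂ) : ℤ) := by exact_mod_cast h1
    have h4 := dvd_sub (h3.mul_left δ) h2
    rw [sub_sub_cancel] at h4
    omega
  obtain ⟨Θ, hΘ⟩ : XX.Nonempty := by rw [← Finset.card_pos, hXX]; norm_num
  obtain ⟨Ψ, hΨ⟩ : NE.Nonempty := by rw [← Finset.card_pos, hNE]; norm_num
  have hi' : i = 0 ∨ i = 1 ∨ i = 2 := by omega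
  rcases hi' with rfl | rfl | rfl
  · -- `i = 0`
    obtain ⟨g, hg, ha, hs⟩ := H343.S8.Fi22Seven.col7 V hV hc hX e
    choose a ha1 ha2 using ha
    have h3 : ∀ χ, χ ∈ NE ∨ χ ∈ XX → (3 : ℤ) ∣ (charDegree (χ : N → ℂ) : ℤ) := by
      intro χ hχ
      exact_mod_cast (H109.S8.dvd_of_over Nat.prime_three hV hc hp e ⟨v, hv⟩ (hov χ hχ)).1
    have hb0 : ∀ χ, χ ∈ NE ∨ χ ∈ XX → FiNum.Bad (charDegree (χ : N → ℂ) : ℤ) := by
      intro χ hχ
      have h := hbad χ hχ (hχ.elim (hnN χ) (hnX χ))
      rwa [pow_zero, mul_one] at h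
    have r1 : ∑ χ ∈ NE, ε χ * (charDegree (χ : N → ℂ) : ℤ) = δ * (charDegree (Θ : N → ℂ) : ℤ) := by
      have h1 := hrel Θ hΘ 1 (by rw [orderOf_one]; norm_num)
      rw [Blocks.Basic.irr_one_eq_charDegree Θ.2, Finset.sum_congr rfl
        (g := fun χ : IrrCharacter N => ((ε χ * (charDegree (χ : N → ℂ) : ℤ) : ℤ) : ℂ)) (fun χ _ => by
          rw [Blocks.Basic.irr_one_eq_charDegree χ.2]; push_cast; rfl), ← Int.cast_sum] at h1
      exact_mod_cast h1
    have r7 : ∀ Θ ∈ XX, ∑ χ ∈ NE, ε χ * a χ = δ * a Θ := by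
      intro Θ hΘ
      have h1 := hrel Θ hΘ g (by rw [hg]; norm_num)
      rw [ha1 Θ, Finset.sum_congr rfl
        (g := fun χ : IrrCharacter N => ((ε χ * a χ : ℤ) : ℂ)) (fun χ _ => by
          rw [ha1 χ]; push_cast; rfl), ← Int.cast_sum] at h1
      exact_mod_cast h1
    have hd2 : δ * δ = 1 := by rcases hδ with h | h <;> rw [h] <;> norm_num
    have hq : ∑ χ ∈ NE, (ε χ * a χ) ^ 2 + 2 * (δ * a Θ) ^ 2 ≤ 42 := by
      have h1 := hs l (NE ∪ XX) (fun χ h => hov χ (Finset.mem_union.1 h))
      rw [Finset.sum_union hdis] at h1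
      have h2 : ∀ χ ∈ NE, Complex.normSq ((χ : N → ℂ) g) = (((ε χ * a χ) ^ 2 : ℤ) : ℝ) := by
        intro χ h
        have h5 : (ε χ * a χ) ^ 2 = a χ ^ 2 := by rcases hε χ h with h | h <;> rw [h] <;> ring
        rw [ha1 χ, h5, ← Complex.ofReal_intCast, Complex.normSq_ofReal]
        push_cast; ring
      have h4 : ∀ χ ∈ XX, Complex.normSq ((χ : N → ℂ) g) = (((δ * a Θ) ^ 2 : ℤ) : ℝ) := by
        intro χ h
        have h5 : δ * a χ = δ * a Θ := (r7 χ h).symm.trans (r7 Θ hΘ)
        have h6 : a χ ^ 2 = (δ * a Θ) ^ 2 := by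
          rw [← h5, mul_pow, pow_two δ, hd2, one_mul]
        rw [ha1 χ, ← h6, ← Complex.ofReal_intCast, Complex.normSq_ofReal]
        push_cast; ring
      rw [Finset.sum_congr rfl h2, Finset.sum_congr rfl h4, Finset.sum_const, hXX] at h1
      rw [nsmul_eq_mul] at h1
      exact_mod_cast h1
    refine FiNum.core NE hNE (fun χ => ε χ * (charDegree (χ : N → ℂ) : ℤ)) (fun χ => ε χ * a χ)
      (fun χ h => FiNum.bad_ne (hε χ h) (hcN χ h) (h3 χ (Or.inl h)) (hb0 χ (Or.inl h))) (fun χ _ => ?_)
      (FiNum.bad_ex hδ (hcX Θ hΘ) (h3 Θ (Or.inr hΘ)) (hb0 Θ (Or.inr hΘ))) r1 (r7 Θ hΘ) hq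
    rw [← mul_sub]
    exact (ha2 χ).mul_left _
  · exact FiNum.bad_one hδ (hcX Θ hΘ) (hbad Θ (Or.inr hΘ) (hnX Θ hΘ))
  · exact FiNum.bad_two (hε Ψ hΨ) (hcN Ψ hΨ) (hbad Ψ (Or.inl hΨ) (hnN Ψ hΨ))

end X

/-- the whole row COVER of `Fi₂₂` (with `cover2` of helper343) -/
theorem cover3_iso {X : Type v} [Group X] (hX : Spor.IsoFi22 X) {D : Set ℕ} (hD : H704.S8.Deg 2 X D) :
    H704.S8.Cover3.{u} 2 D X :=
  H343.S8.row hX hD (three hX hD)

/-- the whole row COVER of `Fi₂₂` -/
theorem cover3 {X : Type v} [Group X] [Finite X] (hX : IsFi22 X) (D : Set ℕ) (hD : H704.S8.Deg 2 X D) :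
    H704.S8.Cover3.{u} 2 D X :=
  cover3_iso (H58.S8.iso_fi22 hX) hD

end Cfsg.Agent.H494.S8.Fi22C3
end

-- part: H372/S8/FiDeg
section
/-!
# S4908: the degrees of `Fi22` (helper372)

`adm` : a degree `≠ 1` of `Fi22` is at least 65, divides the order, and has the residues `0, ±1, ±5` modulo 11,
`0, ±1, ±6` modulo 13 and `0, ±1, ±2` modulo 7. The small degrees are excluded with the value at a transposition.
-/

set_option autoImplicit false
set_option maxRecDepth 100000

namespace Cfsg.Agent.H372.S8.Fi22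

open Cfsg Subgroup
open Cfsg.Agent.Characters.Core
open Cfsg.Agent.H856.F23 (NS blk_one dvd_of_integral)
open Cfsg.Agent.H678.DG (Loc exists_loc)
open Cfsg.Agent.KFacts.FiTT (TK)
open Cfsg.Agent.H651.Two

universe v

variable {X : Type v} [Group X]

/-- the degrees of a group of order six -/
theorem theta_deg {S : Type v} [Group S] [Finite S] (hS : Nat.card S = 6) (θ : IrrCharacter S) :
    ∃ k : ℤ, (k = 1 ∨ k = 2) ∧ (θ : S → ℂ) 1 = k := by
  have h1 := Blocks.Knorr.charDegree_eq θ.2
  refine ⟨(charDegree (θ : S → ℂ) : ℤ), ?_, by rw [h1]; push_cast; rfl⟩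
  by_cases h : charDegree (θ : S → ℂ) = 1
  · left; rw [h]; rfl
  · right
    have h2 := H618.LD.Ev.sum_sq h
    rw [hS] at h2
    have h3 : charDegree (θ : S → ℂ) ≠ 0 := by
      intro h0
      have h4 := Blocks.Knorr.charDegree_dvd θ.2
      rw [h0, hS] at h4
      omega
    have h4 : charDegree (θ : S → ℂ) < 3 := by
      by_contra hcon
      push Not at hcon
      have := Nat.mul_le_mul hcon hcon
      omega
    have h5 : charDegree (θ : S → ℂ) = 2 := by omega
    rw [h5]; rfl

/-- **the residues modulo 7** -/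
theorem res7 (e : X ≃* Spor.Fi22) (χ : IrrCharacter X) :
    ∃ c : ℤ, (c = 0 ∨ c = 1 ∨ c = -1 ∨ c = 2 ∨ c = -2) ∧ (7 : ℤ) ∣ (charDegree (χ : X → ℂ) : ℤ) - c := by
  have h7 : Fact (Nat.Prime 7) := ⟨by norm_num⟩
  have I := Cfsg.Agent.H836.inv_of_iso e
  have hfin : Finite X := I.ctx.finite
  have hcard := I.ctx.card
  obtain ⟨P⟩ := (inferInstance : Nonempty (Sylow 7 X))
  have hP : Nat.card P = 7 :=
    SmallSimple.PrimeLocal.card_of_not_sq_dvd (by rw [hcard]; norm_num) (by rw [hcard]; norm_num) P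
  obtain ⟨F, S, hL⟩ := exists_loc (m := 42) (n := 3) (D := TK e)
    ((Cfsg.Agent.H836.Main.seven_concl I).2 (P : Subgroup X) hP)
  have hX : (P : Subgroup X) ≤ centralizer ((P : Subgroup X) : Set X) := by
    obtain ⟨y, -, -, -, hy⟩ := Cfsg.Agent.H836.Main.exists_gen (by norm_num : Nat.Prime 7) hP
    rw [hy, Cfsg.Agent.H836.Main.centralizer_zpowers]
    exact Cfsg.Agent.H836.Main.le_centralizer_zpowers y
  have hN : NS (P : Subgroup X) F S := ⟨hL.le, hL.inf, hL.comm, hL.sup⟩
  have hS6 : Nat.card S = 6 := hL.cardS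
  have hK := hN.isComp hP (by rw [hS6]; norm_num)
  have he := hL.relIndex hX (e := 6) (by
    have h2 : Nat.card ((P : Subgroup X)) = 7 := hP
    rw [h2])
  obtain ⟨c, θ, hc, h1, -⟩ := blk_one hK hP
    (fun θ n hn => hN.stable hK (isIrr_isClassFunction θ.2) hn) he χ
  obtain ⟨k, hk, h3⟩ := theta_deg hS6 θ
  refine ⟨c * k, ?_, ?_⟩
  · rcases hc with rfl | rfl | rfl <;> rcases hk with rfl | rfl <;> simp
  · obtain ⟨z, hz, h⟩ := h1 1
    rw [h3, OneMemClass.coe_one, Blocks.Knorr.charDegree_eq χ.2] at h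
    refine dvd_of_integral (q := 7) (by norm_num) ⟨z, hz, ?_⟩
    rw [Int.cast_natCast, h]
    push_cast
    ring

/-- the column of the prime 13 -/
def c13 : CD := ⟨13, 1, 6, 2, [(0, 0), (1, 2), (12, -2), (6, -1), (7, 1)], 0, false⟩

/-- the column of the prime 11 -/
def c11 : CD := ⟨11, 2, 5, 2, [(0, 0), (1, 2), (10, -2), (5, -1), (6, 1)], 0, false⟩

theorem ok13 : c13.ok 64561751654400 = true := by decide +kernel
theorem ok11 : c11.ok 64561751654400 = true := by decide +kernel

theorem has13 (h : Spor.IsoFi22 X) : c13.Has X := by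
  have hfin := H559.FiSpec.finite_of h
  have h13 : Fact (Nat.Prime 13) := ⟨by norm_num⟩
  obtain ⟨x, hx⟩ := exists_prime_orderOf_dvd_card' (G := X) 13 (by rw [H559.FiSpec.card_eq h]; norm_num)
  exact ⟨by norm_num [c13], x, hx, H559.FiSpec.cent13 h hx⟩

theorem has11 (h : Spor.IsoFi22 X) : c11.Has X := by
  have hfin := H559.FiSpec.finite_of h
  have h11 : Fact (Nat.Prime 11) := ⟨by norm_num⟩
  obtain ⟨x, hx⟩ := exists_prime_orderOf_dvd_card' (G := X) 11 (by rw [H559.FiSpec.card_eq h]; norm_num)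
  exact ⟨by norm_num [c11], x, hx, H559.FiSpec.cent11 h hx⟩

/-- the residues -/
def res (d : ℕ) : Bool :=
  [0, 1, 10, 5, 6].contains (d % 11) && ([0, 1, 12, 6, 7].contains (d % 13) && [0, 1, 6, 2, 5].contains (d % 7))

/-- the test for the degrees of `Fi22` -/
def adm (d : ℕ) : Bool :=
  Nat.beq d 1 || (Nat.ble 65 d && (!(Nat.beq d 72) && (!(Nat.beq d 77) && (Nat.beq (64561751654400 % d) 0 && res d))))

theorem simple_of (h : Spor.IsoFi22 X) : IsSimpleGroup X := by
  obtain ⟨e⟩ := h
  have := Cfsg.Agent.R01.Fi22Facts.isSimple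
  exact e.isSimpleGroup

private noncomputable def _root_.Cfsg.Agent.KOdfadfea.k40s : (by first | exact Subtype (fun g => @HAdd.hAdd.{0, 0, 0} (ℕ) (ℕ) (ℕ) _ = @g) | exact Unit : Sort _) := by first | (refine @Subtype.mk _ _ (@(fun x0 x1 => @Nat.add @x0 @x1)) ?_; rfl') | exact ⟨_, rfl⟩ | exact ()
private noncomputable def _root_.Cfsg.Agent.KOdfadfea.k40 : (by first | exact type_of% (@Subtype.val _ _ _root_.Cfsg.Agent.KOdfadfea.k40s) | exact Unit : Sort _) := by first | exact @Subtype.val _ _ _root_.Cfsg.Agent.KOdfadfea.k40s | exact ()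
private theorem _root_.Cfsg.Agent.KOdfadfea.e40 : (by first | exact type_of% (show _ = @_root_.Cfsg.Agent.KOdfadfea.k40 from @Subtype.property _ _ _root_.Cfsg.Agent.KOdfadfea.k40s) | exact True : Prop) := by first | exact @Subtype.property _ _ _root_.Cfsg.Agent.KOdfadfea.k40s | trivial
private noncomputable def _root_.Cfsg.Agent.KOdfadfea.k41.{ku0} : type_of% @List.all.{ku0} := @(fun x0 x1 x2 => @List.rec.{(ku0+1), ku0} @x0 @(fun x3 => (@x0 → @Bool) → @Bool) @(fun x3 => @Bool.true) @(fun x3 x4 x5 x6 => @Bool.rec.{1} @(fun x7 => @Bool) @Bool.false (@x5 @x6) (@x6 @x3)) @x1 @x2)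
private theorem _root_.Cfsg.Agent.KOdfadfea.e41.{ku0} : @List.all.{ku0} = @_root_.Cfsg.Agent.KOdfadfea.k41.{ku0} := by delta _root_.Cfsg.Agent.KOdfadfea.k41; funext a0 a1 a2; refine (congrFun (_root_.Cfsg.Agent.KOdfadfea.e15 (fun a1 a2 => @List.all.{ku0} a0 a1 a2) ?_ (fun c0 c1 => ?_) a1) a2 :) <;> (rfl')
private noncomputable def _root_.Cfsg.Agent.KOdfadfea.k42 : type_of% @List.range := @(fun x0 => @Cfsg.Agent.KOdfadfea.k21 @x0 [])
private theorem _root_.Cfsg.Agent.KOdfadfea.e42 : @List.range = @_root_.Cfsg.Agent.KOdfadfea.k42 := by delta _root_.Cfsg.Agent.KOdfadfea.k42; rewrite [← Cfsg.Agent.KOdfadfea.e21]; rfl'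
private noncomputable def _root_.Cfsg.Agent.KOdfadfea.k43 : type_of% @Bool.not := @(fun x0 => @Bool.rec.{1} @(fun x1 => @Bool) @Bool.true @Bool.false @x0)
private theorem _root_.Cfsg.Agent.KOdfadfea.e43 : @Bool.not = @_root_.Cfsg.Agent.KOdfadfea.k43 := by delta _root_.Cfsg.Agent.KOdfadfea.k43; rfl'
private noncomputable def _root_.Cfsg.Agent.KOdfadfea.k44 : (by first | exact type_of% @Cfsg.Agent.H618.LD.Num.okx | exact Unit : Sort _) := by first | (refine @Subtype.val _ (fun g => @Cfsg.Agent.H618.LD.Num.okx = @g) (@Subtype.mk _ _ (@(letI c0 := @Bool.rec.{1}; letI c1 := @Bool.false; letI c2 := @Cfsg.Agent.KOdfadfea.k0; letI c3 := @Nat.sub; letI c4 := @Nat.add; letI c5 := @Nat.mul; letI c6 := @Nat.div; letI c7 := @Nat.mod; letI c8 := @Nat.ble; letI c9 := @Nat.beq; @(fun x0 x1 x2 => @c0 @(fun x3 => @Bool) @c1 (@c0 @(fun x3 => @Bool) @c1 (@c0 @(fun x3 => @Bool) @c1 (@c0 @(fun x3 => @Bool) @c1 (@c2 (@c3 (@c4 (@c5 @x1 @x2) (@c5 (nat_lit 2100) @x0)) (@c5 (nat_lit 5610) @x2)) @(fun x3 => @c0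 @(fun x4 => @Bool) @c1 (@c2 (@c6 @x3 (nat_lit 132)) @(fun x4 => @c2 (@c6 (@c3 @x0 @x2) (nat_lit 2)) @(fun x5 => @c2 (@c7 @x4 (nat_lit 21)) @(fun x6 => @c0 @(fun x7 => @Bool) @c1 (@c0 @(fun x7 => @Bool) @c1 (@c8 @x4 (@c5 (nat_lit 85) @x5)) (@c8 @x6 @x5)) (@c8 (@c5 (nat_lit 64) @x6) @x4))))) (@c9 (@c7 @x3 (nat_lit 132)) (nat_lit 0)))) (@c8 (@c5 (nat_lit 5610) @x2) (@c4 (@c5 @x1 @x2) (@c5 (nat_lit 2100) @x0)))) (@c9 (@c7 (@c4 @x0 @x2) (nat_lit 2)) (nat_lit 0))) (@c8 (@c5 @x2 @x2) (nat_lit 18393661440))) (@c9 (@c5 @x1 @x0) (@c5 (nat_lit 3510) @x2))))) ?_); rewrite [← Cfsg.Agent.KOdfadfea.e0]; (try delta Cfsg.Agent.H618.LD.Num.okx); (try generalize @Cfsg.Agent.H618.LD.Num.frc = g0); rfl') | exact @Cfsg.Agent.H618.LD.Num.okx | exact ()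
private theorem _root_.Cfsg.Agent.KOdfadfea.e44 : (by first | exact @Cfsg.Agent.H618.LD.Num.okx = @_root_.Cfsg.Agent.KOdfadfea.k44 | exact True : Prop) := by first | (delta _root_.Cfsg.Agent.KOdfadfea.k44; exact @Subtype.property _ (fun g => @Cfsg.Agent.H618.LD.Num.okx = @g) _) | rfl | trivial
private noncomputable def _root_.Cfsg.Agent.KOdfadfea.k45 : (by first | exact type_of% @Cfsg.Agent.H618.LD.Num.okw | exact Unit : Sort _) := by first | (refine @Subtype.val _ (fun g => @Cfsg.Agent.H618.LD.Num.okw = @g) (@Subtype.mk _ _ (@(letI c0 := @Nat.sub; @(fun x0 x1 => @Cfsg.Agent.KOdfadfea.k0 (@Nat.add (@c0 @x1 (nat_lit 3510)) (@c0 (nat_lit 3510) @x1)) @(fun x2 => @Cfsg.Agent.KOdfadfea.k0 (@Nat.div (@Nat.mul @x2 @x0) (nat_lit 3510)) @(fun x3 => @Cfsg.Agent.KOdfadfea.k44 @x0 @x2 @x3))))) ?_); rewrite [← Cfsg.Agent.KOdfadfea.e44, ← Cfsg.Agent.KOdfadfea.e0]; (try delta Cfsg.Agent.H618.LD.Num.okw); (try generalize @Cfsg.Agent.H618.LD.Num.frc = g0); (try generalize @Cfsg.Agent.H618.LD.Num.okx =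 g1); rfl') | exact @Cfsg.Agent.H618.LD.Num.okw | exact ()
private theorem _root_.Cfsg.Agent.KOdfadfea.e45 : (by first | exact @Cfsg.Agent.H618.LD.Num.okw = @_root_.Cfsg.Agent.KOdfadfea.k45 | exact True : Prop) := by first | (delta _root_.Cfsg.Agent.KOdfadfea.k45; exact @Subtype.property _ (fun g => @Cfsg.Agent.H618.LD.Num.okw = @g) _) | rfl | trivial

/-- the small values -/
theorem small_chk : ([6, 12, 27, 33, 72, 77].all fun d => (List.range 7019).all fun w =>
    !(H618.LD.Num.okw d (w + 1))) = true := by (first | (rewrite [Cfsg.Agent.KOdfadfea.e40, Cfsg.Agent.KOdfadfea.e41.{0}, Cfsg.Agent.KOdfadfea.e42, Cfsg.Agent.KOdfadfea.e43, Cfsg.Agent.KOdfadfea.e45]; decide +kernel) | decide +kernel)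

theorem small_div : ((List.range 78).all fun d => !(Nat.beq (64561751654400 % d) 0) || (!(res d) ||
    (Nat.ble d 1 || [6, 12, 27, 33, 65, 72, 77].contains d))) = true := by decide +kernel

theorem res_of {d : ℕ} (h7 : ∃ c : ℤ, (c = 0 ∨ c = 1 ∨ c = -1 ∨ c = 2 ∨ c = -2) ∧ (7 : ℤ) ∣ (d : ℤ) - c)
    (h11 : (c11.wl.any fun rw => Nat.beq (d % c11.r) rw.1) = true)
    (h13 : (c13.wl.any fun rw => Nat.beq (d % c13.r) rw.1) = true) : res d = true := by
  have e7 : d % 7 = 0 ∨ d % 7 = 1 ∨ d % 7 = 6 ∨ d % 7 = 2 ∨ d % 7 = 5 := by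
    obtain ⟨c, hc, h⟩ := h7
    rcases hc with rfl | rfl | rfl | rfl | rfl <;> (solve | lia | omega)
  have e11 : d % 11 = 0 ∨ d % 11 = 1 ∨ d % 11 = 10 ∨ d % 11 = 5 ∨ d % 11 = 6 := by
    simpa [c11] using h11
  have e13 : d % 13 = 0 ∨ d % 13 = 1 ∨ d % 13 = 12 ∨ d % 13 = 6 ∨ d % 13 = 7 := by
    simpa [c13] using h13
  unfold res
  rcases e7 with e7 | e7 | e7 | e7 | e7 <;> rcases e11 with e11 | e11 | e11 | e11 | e11 <;>
    rcases e13 with e13 | e13 | e13 | e13 | e13 <;> rw [e7, e11, e13] <;> rfl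

/-- **the degrees of `Fi22`** -/
theorem adm_of (h : Spor.IsoFi22 X) {d : ℕ} (hd : d ∈ charDegrees X) : adm d = true := by
  have hs := simple_of h
  have hfin := H559.FiSpec.finite_of h
  have hcard := H559.FiSpec.card_eq h
  obtain ⟨χ, hχ⟩ := hd
  by_cases h1 : d = 1
  · rw [h1]; rfl
  have hna : ¬ IsMulCommutative X := by
    intro hcom
    have h2 : (Nat.card X).Prime := by
      let _ : CommGroup X := { (inferInstance : Group X) with mul_comm := fun a b => hcom.is_comm.comm a b }
      exact IsSimpleGroup.prime_card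
    rw [hcard] at h2
    norm_num at h2
  have hdv : d ∣ 64561751654400 := by
    rw [← hcard, ← hχ]
    exact Blocks.Knorr.charDegree_dvd χ.2
  have h11 := H511.Ore.res_of_has hna hcard (has11 h) ok11 χ
  have h13 := H511.Ore.res_of_has hna hcard (has13 h) ok13 χ
  obtain ⟨e⟩ := h
  have h7 := res7 e χ
  rw [hχ] at h7 h11 h13
  have hr := res_of h7 h11 h13
  have C := Cfsg.Agent.LThreeFi22.Inst.ctx e
  have hA := H618.LD.Ev.adm C χ (by rw [hχ]; exact h1)
  rw [hχ] at hA
  have hw := H618.LD.Num.okw_of_adm hA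
  have hno : d ∉ [6, 12, 27, 33, 72, 77] := by
    intro hmem
    have hbd := hA.bd
    obtain ⟨w, hw1⟩ : ∃ w, (H618.LD.Ev.ww (TK e) (χ : X → ℂ) + 3510).toNat = w + 1 :=
      ⟨(H618.LD.Ev.ww (TK e) (χ : X → ℂ) + 3510).toNat - 1, by omega⟩
    have h2 := List.all_eq_true.1 (List.all_eq_true.1 small_chk d hmem) w (List.mem_range.2 (by omega))
    rw [← hw1, hw] at h2
    exact absurd h2 (by decide)
  have hz : Nat.beq (64561751654400 % d) 0 = true := by
    rw [Nat.beq_eq]; exact Nat.mod_eq_zero_of_dvd hdv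
  have hge : 65 ≤ d := by
    by_contra hcon
    push Not at hcon
    have h2 := List.all_eq_true.1 small_div d (List.mem_range.2 (by omega))
    rw [hz, hr] at h2
    simp only [Bool.not_true, Bool.false_or, Bool.or_eq_true, Nat.ble_eq, List.contains_iff_mem] at h2
    rcases h2 with h2 | h2
    · have := hA.one
      omega
    · simp only [List.mem_cons, List.not_mem_nil, or_false] at h2 hno
      (clear * - hcon h2 hno; solve | lia | omega)
  have n72 : Nat.beq d 72 = false := by
    rw [Bool.eq_false_iff]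
    intro h2
    exact hno (by rw [Nat.eq_of_beq_eq_true h2]; decide)
  have n77 : Nat.beq d 77 = false := by
    rw [Bool.eq_false_iff]
    intro h2
    exact hno (by rw [Nat.eq_of_beq_eq_true h2]; decide)
  unfold adm
  rw [hz, hr, n72, n77, show Nat.ble 65 d = true by rw [Nat.ble_eq]; exact hge]
  simp

end Cfsg.Agent.H372.S8.Fi22
end

private theorem dce_74e03f51051c : _root_.True := by
  try have : _root_.True := by simp only [_root_.Cfsg.Agent.H372.S8.Fi22.c13.eq_1]
  try have : _root_.True := by simp only [_root_.Cfsg.Agent.H372.S8.Fi22.c11.eq_1]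
  exact _root_.True.intro
end

-- part: H320/SD/FiB
section
prune_inst 0x8000000000000000000000000000014010000
set_option linter.all false
open scoped Cfsg.Agent.FastGrp

/-!
# `Chief 2 D Fi22` (helper320, for S4908)

Every nontrivial element has index at least `256` on every module without fixed points; `k(Fi22) ≤ 118`.
-/

set_option autoImplicit false
set_option maxRecDepth 100000
set_option exponentiation.threshold 5000
set_option linter.unusedSectionVars false
set_option linter.constructorNameAsVariable false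
set_option linter.style.longLine false

namespace Cfsg.Agent.H320.SD.Fi

open Cfsg Subgroup Cfsg.Spor Cfsg.Spor.Fi22 Cfsg.Agent.Lib.PermNet Cfsg.Agent.Lib.PermNetOrbit Cfsg.Agent.Lib.PermNetFix
open Cfsg.Agent.Fischer Cfsg.Agent.Fischer.Fi22PtsRep
open Cfsg.Agent.H834 Cfsg.Agent.H834.AC Cfsg.Agent.H867.SprFi22 Cfsg.Agent.H867.Gen.FiTwentyTwo

universe u v

theorem inst_simple : IsSimpleGroup Cfsg.Spor.Fi22 := Cfsg.Agent.S1696.result.1
theorem card_eq : Nat.card Cfsg.Spor.Fi22 = 64561751654400 := Cfsg.Agent.S1696.result.2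
theorem inst_finite : Finite Cfsg.Spor.Fi22 := Nat.finite_of_card_ne_zero (by rw [card_eq]; norm_num)

section Act

variable {A : Type u} [AddCommGroup A] [Finite A] [DistribMulAction Cfsg.Spor.Fi22 A]

/-- the index of the fixed points of a product of two commuting transpositions -/
theorem cc_eq {t t' : Cfsg.Spor.Fi22} (ht : t ∈ T) (ht' : t' ∈ T) (hne : t ≠ t') (hc : Commute t t') :
    (fx A (t * t')).index = (fx A (W [.a, .c])).index := by
  obtain ⟨g, h1, h2⟩ := Cfsg.Agent.R01.Fi22Facts.trans_commuting t ht t' ht' (gen .a)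
    (Cfsg.Agent.R01.Fi22Facts.gen_mem .a) (gen .c) (Cfsg.Agent.R01.Fi22Facts.gen_mem .c) hne
    (gen_ne (p := 2) (by decide +kernel)) hc (gen_comm (by decide))
  have e : W [.a, .c] = g * (t * t') * g⁻¹ := by
    show mdl.wd [.a, .c] = _
    rw [wd_pair, ← h1, ← h2]; group
  rw [e, index_conj]

theorem nc_eq {t t' : Cfsg.Spor.Fi22} (ht : t ∈ T) (ht' : t' ∈ T) (hc : ¬ Commute t t') :
    (fx A (t * t')).index = (fx A (W [.a, .b])).index := by
  have hab : ¬ Commute (gen .a) (gen .b) := by
    have := not_comm (v := [.a]) (w := [.b]) 0 (by decide +kernel)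
    intro h
    apply this
    show Commute (mdl.wd [.a]) (mdl.wd [.b])
    rw [mdl.wd_single, mdl.wd_single]
    exact h
  obtain ⟨g, h1, h2⟩ := Cfsg.Agent.R01.Fi22Facts.trans_noncommuting t ht t' ht' (gen .a)
    (Cfsg.Agent.R01.Fi22Facts.gen_mem .a) (gen .b) (Cfsg.Agent.R01.Fi22Facts.gen_mem .b) hc hab
  have e : W [.a, .b] = g * (t * t') * g⁻¹ := by
    show mdl.wd [.a, .b] = _
    rw [wd_pair, ← h1, ← h2]; group
  rw [e, index_conj]

/-- `a c = (a b)(b c)` -/
theorem ac_le : (fx A (W zA)).index ≤ (fx A (W [.a, .b])).index ^ 2 := by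
  have e : W zA = (W [.a] * W [.b]) * (W [.b] * W [.c]) := by
    rw [← W_append, ← W_append, ← W_append]
    exact W_eq (by decide +kernel)
  have h1 : (fx A (W [.a] * W [.b])).index = (fx A (W [.a, .b])).index :=
    nc_eq (mem_T [] .a) (mem_T [] .b) (not_comm (v := [.a]) (w := [.b]) 0 (by decide +kernel))
  have h2 : (fx A (W [.b] * W [.c])).index = (fx A (W [.a, .b])).index :=
    nc_eq (mem_T [] .b) (mem_T [] .c) (not_comm (v := [.b]) (w := [.c]) 2 (by decide +kernel))
  calc (fx A (W zA)).index = (fx A ((W [.a] * W [.b]) * (W [.b] * W [.c]))).index := by rw [e]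
    _ ≤ (fx A (W [.a] * W [.b])).index * (fx A (W [.b] * W [.c])).index := index_mul _ _
    _ = _ := by rw [h1, h2, sq]

/-- the class `3B` as a product of two elements of the class of `a b` -/
theorem zB_le_ab : (fx A (W zB)).index ≤ (fx A (W [.a, .b])).index ^ 2 := by
  have e : W zB = (W t1 * W [.b]) * (W [.c] * W t4) := by
    rw [← W_append, ← W_append, ← W_append]
    exact W_eq (by decide +kernel)
  have m1 : W t1 ∈ T := mem_T [.c, .d, .h, .i, .e, .d, .h, .f, .e, .d] .c
  have m4 : W t4 ∈ T := mem_T [.d, .h, .i, .e, .d, .h, .f, .e, .d, .c] .b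
  have h1 : (fx A (W t1 * W [.b])).index = (fx A (W [.a, .b])).index :=
    nc_eq m1 (mem_T [] .b) (not_comm (v := t1) (w := [.b]) 2 (by decide +kernel))
  have h2 : (fx A (W [.c] * W t4)).index = (fx A (W [.a, .b])).index :=
    nc_eq (mem_T [] .c) m4 (not_comm (v := [.c]) (w := t4) 6 (by decide +kernel))
  calc (fx A (W zB)).index = (fx A ((W t1 * W [.b]) * (W [.c] * W t4))).index := by rw [e]
    _ ≤ (fx A (W t1 * W [.b])).index * (fx A (W [.c] * W t4)).index := index_mul _ _
    _ = _ := by rw [h1, h2, sq]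

/-- the class `3B` as a product of three elements of the class of `a c` -/
theorem zB_le_ac : (fx A (W zB)).index ≤ (fx A (W [.a, .c])).index ^ 3 := by
  have e : W zB = (W t1 * W [.d]) * ((W [.d, .c, .d] * W [.c, .b, .c]) * (W t5 * W t4)) := by
    rw [← W_append, ← W_append, ← W_append, ← W_append, ← W_append]
    exact W_eq (by decide +kernel)
  have m1 : W t1 ∈ T := mem_T [.c, .d, .h, .i, .e, .d, .h, .f, .e, .d] .c
  have m4 : W t4 ∈ T := mem_T [.d, .h, .i, .e, .d, .h, .f, .e, .d, .c] .b
  have m5 : W t5 ∈ T := mem_T [.d, .c] .b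
  have h1 : (fx A (W t1 * W [.d])).index = (fx A (W [.a, .c])).index :=
    cc_eq m1 (mem_T [] .d) (W_ne (v := t1) (w := [.d]) 2 (by decide +kernel)) (comm_of (v := t1) (w := [.d]) (by decide +kernel))
  have h2 : (fx A (W [.d, .c, .d] * W [.c, .b, .c])).index = (fx A (W [.a, .c])).index :=
    cc_eq (mem_T [.d] .c) (mem_T [.c] .b) (W_ne (v := [.d, .c, .d]) (w := [.c, .b, .c]) 2 (by decide +kernel))
      (comm_of (v := [.d, .c, .d]) (w := [.c, .b, .c]) (by decide +kernel))
  have h3 : (fx A (W t5 * W t4)).index = (fx A (W [.a, .c])).index :=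
    cc_eq m5 m4 (W_ne (v := t5) (w := t4) 2 (by decide +kernel)) (comm_of (v := t5) (w := t4) (by decide +kernel))
  calc (fx A (W zB)).index = (fx A ((W t1 * W [.d]) * ((W [.d, .c, .d] * W [.c, .b, .c]) * (W t5 * W t4)))).index := by
        rw [e]
    _ ≤ (fx A (W t1 * W [.d])).index * (fx A ((W [.d, .c, .d] * W [.c, .b, .c]) * (W t5 * W t4))).index := index_mul _ _
    _ ≤ (fx A (W t1 * W [.d])).index * ((fx A (W [.d, .c, .d] * W [.c, .b, .c])).index * (fx A (W t5 * W t4)).index) :=
      Nat.mul_le_mul_left _ (index_mul _ _)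
    _ = _ := by rw [h1, h2, h3]; ring

theorem pow_lt_of {i N k m : ℕ} (hk : k ≠ 0) (h1 : m ^ k ≤ N) (h2 : N ≤ i ^ k) : m ≤ i :=
  (Nat.pow_le_pow_iff_left hk).1 (h1.trans h2)

variable [Nontrivial A]

/-- characteristic three -/
theorem cod3 (hexp : ∀ x : A, 3 • x = 0) (hfix : ∀ x : A, (∀ g : Cfsg.Spor.Fi22, g • x = x) → x = 0) :
    2 ^ 32 ≤ (fx A (W zA)).index := by
  have := inst_simple
  rw [index_fx]
  have h := chain2 (A := A) zA_sq (l2.map fun p => (W p.1, W p.2)) (cm A (W zA)) (cm_ne_bot hfix nontriv.1)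
    (fun x hx => cm2 zA_sq hx) (fun x _ h => inj_two hexp x h) ?_ ?_ (pw_spec chk2x)
  · exact h
  · intro p hp
    obtain ⟨q, hq, rfl⟩ := List.mem_map.1 hp
    obtain ⟨-, h2, h3, -⟩ := ok2_spec (List.all_eq_true.1 chk2 q hq)
    exact ⟨fun x hx => smul_cm h2 hx, fun x hx => smul_cm h3 hx⟩
  · intro p hp
    obtain ⟨q, hq, rfl⟩ := List.mem_map.1 hp
    exact ok2_spec (List.all_eq_true.1 chk2 q hq)

/-- other characteristics -/
theorem codr {r : ℕ} (hr : r.Prime) (h3 : r ≠ 3) (hexp : ∀ x : A, r • x = 0)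
    (hfix : ∀ x : A, (∀ g : Cfsg.Spor.Fi22, g • x = x) → x = 0) : 4 ^ 27 ≤ (fx A (W zB)).index := by
  have := inst_simple
  rw [index_fx]
  have h := chain3 (A := A) zB_cube (l3.map fun p => (W p.1, W p.2)) (cm A (W zB)) (cm_ne_bot hfix nontriv.2)
    (fun x hx => cm3 zB_cube hx) (fun x _ h => inj_three hr h3 hexp x h) (fun x hx => smul_cm rfl hx) ?_ ?_ (pw_spec chk3x)
  · exact h
  · intro p hp
    obtain ⟨q, hq, rfl⟩ := List.mem_map.1 hp
    obtain ⟨-, h2, h3, -⟩ := ok3_spec (List.all_eq_true.1 chk3 q hq)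
    exact ⟨fun x hx => smul_cm h2 hx, fun x hx => smul_cm h3 hx⟩
  · intro p hp
    obtain ⟨q, hq, rfl⟩ := List.mem_map.1 hp
    exact ok3_spec (List.all_eq_true.1 chk3 q hq)

theorem cod_b {r : ℕ} (hr : r.Prime) (hexp : ∀ x : A, r • x = 0)
    (hfix : ∀ x : A, (∀ g : Cfsg.Spor.Fi22, g • x = x) → x = 0) :
    256 ^ 2 ≤ (fx A (W [.a, .b])).index ∧ 256 ^ 2 ≤ (fx A (W [.a, .c])).index := by
  by_cases h3 : r = 3
  · subst h3
    have h1 := cod3 hexp hfix
    refine ⟨pow_lt_of (k := 2) (by norm_num) ?_ ac_le, ?_⟩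
    · exact le_trans (by norm_num) h1
    · exact le_trans (by norm_num) h1
  · have h1 := codr hr h3 hexp hfix
    refine ⟨pow_lt_of (k := 2) (by norm_num) ?_ zB_le_ab, pow_lt_of (k := 3) (by norm_num) ?_ zB_le_ac⟩
    · exact le_trans (by norm_num) h1
    · exact le_trans (by norm_num) h1

/-- **codimensions** -/
theorem cod {r : ℕ} (hr : r.Prime) (hexp : ∀ x : A, r • x = 0)
    (hfix : ∀ x : A, (∀ g : Cfsg.Spor.Fi22, g • x = x) → x = 0) {z : Cfsg.Spor.Fi22} (hz : z ≠ 1) :
    256 ≤ (fx A z).index := by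
  have := inst_simple
  have := inst_finite
  -- a transposition not commuting with `z`
  obtain ⟨t, ht, hzt⟩ : ∃ t ∈ T, z * t * z⁻¹ ≠ t := by
    by_contra hno
    push Not at hno
    apply hz
    have h1 : closure T ≤ centralizer ({z} : Set Cfsg.Spor.Fi22) := by
      rw [closure_le]
      intro t ht
      rw [SetLike.mem_coe, mem_centralizer_singleton_iff]
      have := hno t ht
      rw [mul_inv_eq_iff_eq_mul] at this
      exact this.symm
    rw [closure_T] at h1
    have h2 : z ∈ center Cfsg.Spor.Fi22 := by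
      rw [mem_center_iff]
      intro g
      exact (mem_centralizer_singleton_iff.1 (h1 (mem_top g)))
    rcases (inferInstance : (center Cfsg.Spor.Fi22).Normal).eq_bot_or_eq_top with h3 | h3
    · rw [h3, mem_bot] at h2; exact h2
    · exfalso
      have h4 : gen .a ∈ center Cfsg.Spor.Fi22 := by rw [h3]; trivial
      refine not_comm (v := [.a]) (w := [.b]) 0 (by decide +kernel) ?_
      show Commute (mdl.wd [.a]) (mdl.wd [.b])
      rw [mdl.wd_single, mdl.wd_single]
      exact (mem_center_iff.1 h4 (gen .b)).symm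
  have htt : t * t = 1 := T_ne_one ht
  have hinv : t⁻¹ = t := inv_eq_of_mul_eq_one_left htt
  have ht' : z * t * z⁻¹ ∈ T := by
    show IsConj _ _
    exact (show IsConj _ _ from ht).trans (isConj_iff.2 ⟨z, rfl⟩)
  have e : z * (t * z⁻¹ * t⁻¹) = (z * t * z⁻¹) * t := by rw [hinv]; group
  have h1 := index_comm (A := A) z t
  rw [e] at h1
  obtain ⟨b1, b2⟩ := cod_b hr hexp hfix
  refine pow_lt_of (k := 2) (by norm_num) ?_ h1
  by_cases hc : Commute (z * t * z⁻¹) t
  · rw [cc_eq ht' ht hzt hc]; exact b2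
  · rw [nc_eq ht' ht hc]; exact b1

end Act

open Cfsg.Agent.H704.S8

/-- **`Chief` for `Fi22`.** -/
theorem chief {X : Type v} [Group X] [Finite X] (hX : Cfsg.Spor.IsoFi22 X) (D : Set ℕ) : Chief.{u} 2 D X := by
  obtain ⟨e⟩ := hX
  have hk : Nat.card (ConjClasses X) ≤ 118 := by
    have h := Cfsg.Agent.H878.EPX.FiK.k_le
    have := inst_finite
    have hfin : Finite (ConjClasses Cfsg.Spor.Fi22) := Quotient.finite _
    refine le_trans (Nat.card_le_card_of_surjective (ConjClasses.map (e.symm : Cfsg.Spor.Fi22 →* X)) ?_) h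
    exact ConjClasses.map_surjective e.symm.surjective
  refine chief_of_codim (q := 256) D (by norm_num) hk (by norm_num) ?_ ?_
  · rw [Nat.card_congr e.toEquiv, card_eq]; norm_num
  · intro A _ _ _ r hr hexp hfix hA z hz
    letI act : DistribMulAction Cfsg.Spor.Fi22 A := DistribMulAction.compHom A (e.symm : Cfsg.Spor.Fi22 →* X)
    have hact : ∀ (g : Cfsg.Spor.Fi22) (x : A), g • x = e.symm g • x := fun _ _ => rfl
    have h1 := cod (A := A) hr hexp (fun x hx => hfix x fun g => by
      have := hx (e g)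
      rwa [hact, e.symm_apply_apply] at this) (z := e z) (fun h => hz (e.injective (by rw [h, map_one])))
    have h2 : fx A (e z) = fx A z := by
      ext x
      rw [mem_fx, mem_fx, hact, e.symm_apply_apply]
    rwa [h2] at h1

end Cfsg.Agent.H320.SD.Fi
end

-- part: H529/S8/RRu
section
prune_inst 0x6001010100000100000000010400062000000009000008000412207060200c002090200000880040a100000000001000811000030000000000004040000050100088010006081019122000681028b400000008000000000000000000000000000010000000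
set_option linter.all false
open scoped Cfsg.Agent.FastGrp

-- part: H1/S8/RuCover
section
/-!
# S4908, row Ru, COVER (helper1)

`cover_model`, `row` : a perfect central extension of `Ru` by a group of prime order has a faithful irreducible character
of degree 28, and `28 * 2 ^ i`, `56 * 2 ^ i` are not degrees of `Ru`.
-/

set_option autoImplicit false
set_option maxRecDepth 100000

open scoped ComplexConjugate commutatorElement

namespace Cfsg.Agent.H1.S8.RuCover

open Cfsg Subgroup Cfsg.Spor Cfsg.Agent.RuLat Cfsg.Agent.SporadicB Cfsg.Agent.Characters.Core Cfsg.Agent.H289.Eight.RuRep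
  Cfsg.Agent.H289.Eight.RuDeg Cfsg.Agent.KFacts.MulDef Cfsg.Agent.KFacts.MulBound

universe u v

/-! ### the character of degree 28 -/

theorem chi_eq_one_iff (g : fourRu) : q g = 1 ↔ g ∈ center fourRu := by
  rw [RuLat.Main.hyp.ker_eq Prep.span_bl (onto RuLat.Main.hyp Prep.span_bl), MonoidHom.mem_ker]
  exact ⟨fun h => congrArg Subtype.val h, fun h => Subtype.ext h⟩

theorem irr_chi : IsIrrCharacter fourRu chi := by
  classical
  have := Fintype.ofFinite fourRu
  refine isIrr_of_classInner_self (isCharacter_of_rep rho) ?_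
  obtain ⟨χ, h, h1, he⟩ := end_char
  have e : (fun g => chi g * conj (chi g)) = 1 + χ := by
    rw [← he]
    funext g
    rw [Representation.char_linHom, Cfsg.Agent.PermutationGroups.PermChar.char_inv_eq_conj, mul_comm]
    rfl
  have hne : χ ≠ (1 : fourRu → ℂ) := by
    intro h2
    rw [h2, Pi.one_apply] at h1
    norm_num at h1
  have h2 : classInner (1 + χ) (1 : fourRu → ℂ) = 1 := by
    rw [classInner_add_left, classInner_irr_self isIrr_one, classInner_irr_ne h isIrr_one hne, add_zero]
  rw [← e] at h2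
  rw [← h2]
  unfold classInner
  congr 1
  refine Finset.sum_congr rfl fun g _ => ?_
  simp

/-- the double cover -/
abbrev L : Type := ↥(commutator fourRu)

theorem iz_sq_mem : iz * iz ∈ commutator fourRu := by
  have h3 : iz * iz = ⁅H51.RuCover.j, H51.RuCover.k⁆ := by
    apply Subtype.ext
    apply Equiv.ext
    intro x
    rw [H51.RuCover.comm_apply]
    apply Subtype.ext
    change gI • (gI • (x : RuVec)) = -(x : RuVec)
    rw [smul_smul, gI_mul_self, neg_one_smul]
  rw [h3]
  exact Subgroup.commutator_mem_commutator (Subgroup.mem_top _) (Subgroup.mem_top _)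

theorem chi_iz2 : chi (iz * iz) = -28 := by
  have h := chi_iz iz
  have h1 := chi_iz 1
  rw [mul_one, chi_one] at h1
  rw [h, h1, ← mul_assoc, Complex.I_mul_I]
  norm_num

theorem chi_iz1 : chi iz ≠ 0 := by
  have h1 := chi_iz 1
  rw [mul_one, chi_one] at h1
  rw [h1]
  refine mul_ne_zero Complex.I_ne_zero (by norm_num)

theorem iz4 : iz * iz * (iz * iz) = 1 := by
  apply Subtype.ext
  apply Equiv.ext
  intro x
  apply Subtype.ext
  change gI • (gI • (gI • (gI • (x : RuVec)))) = (x : RuVec)
  rw [smul_smul, gI_mul_self, neg_one_smul, smul_smul, gI_mul_self, neg_one_smul, neg_neg]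

theorem pcov : commutator L = ⊤ ∧ (commutator fourRu).map (QuotientGroup.mk' (center fourRu)) = ⊤ :=
  H905.PCover.commutator_perfect perfect_ru (QuotientGroup.mk'_surjective _) (by rw [QuotientGroup.ker_mk'])

theorem exists_mul (g : fourRu) : ∃ l ∈ commutator fourRu, ∃ e : ℕ, g = l * iz ^ e := by
  have h : QuotientGroup.mk' (center fourRu) g ∈ (commutator fourRu).map (QuotientGroup.mk' (center fourRu)) := by
    rw [pcov.2]; exact mem_top _
  obtain ⟨l, hl, e⟩ := h
  have h1 : l⁻¹ * g ∈ center fourRu := by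
    rw [← QuotientGroup.ker_mk' (center fourRu), MonoidHom.mem_ker, map_mul, map_inv, e, inv_mul_cancel]
  obtain ⟨k, hk⟩ := center_eq h1
  exact ⟨l, hl, k, by rw [← hk]; group⟩

theorem irr_L : IsIrrCharacter L (fun l : L => chi l) := by
  classical
  have := Fintype.ofFinite fourRu
  have := Fintype.ofFinite L
  refine H646.Restrict.isIrr_restrict (N := _root_.commutator fourRu) ?_ irr_chi ?_
  · intro a b
    obtain ⟨a, rfl⟩ := QuotientGroup.mk_surjective a
    obtain ⟨b, rfl⟩ := QuotientGroup.mk_surjective b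
    rw [← QuotientGroup.mk_mul, ← QuotientGroup.mk_mul, QuotientGroup.eq]
    have h : (a * b)⁻¹ * (b * a) = ⁅b⁻¹, a⁻¹⁆ := by rw [commutatorElement_def]; group
    rw [h]
    exact Subgroup.commutator_mem_commutator (mem_top _) (mem_top _)
  · intro μ hμ
    have h1 : μ ((iz : fourRu) : fourRu ⧸ commutator fourRu) = 1 := by
      have h := hμ iz
      exact (mul_eq_left₀ chi_iz1).1 h
    refine MonoidHom.ext fun g => ?_
    obtain ⟨g, rfl⟩ := QuotientGroup.mk_surjective g
    obtain ⟨l, hl, e, rfl⟩ := exists_mul g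
    rw [QuotientGroup.mk_mul, (QuotientGroup.eq_one_iff l).2 hl, one_mul, QuotientGroup.mk_pow, map_pow, h1, one_pow]
    rfl

/-- the central involution of `L` -/
def c0 : L := ⟨iz * iz, iz_sq_mem⟩

/-- `L → Ru` -/
noncomputable def pL : L →* RuOrder.H := q.comp (_root_.commutator fourRu).subtype

theorem pL_apply (l : L) : pL l = q l := rfl

theorem mem_center_L {l : fourRu} (hl : l ∈ commutator fourRu) (hc : l ∈ center fourRu) : l = 1 ∨ l = iz * iz := by
  obtain ⟨e, rfl⟩ := center_eq hc
  have h4 : iz ^ 4 = 1 := by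
    rw [show (4 : ℕ) = 2 * 2 from rfl, pow_mul, pow_two, pow_two]
    exact iz4
  rcases Nat.even_or_odd' e with ⟨k, rfl | rfl⟩
  · rcases Nat.even_or_odd' k with ⟨j, rfl | rfl⟩
    · left
      rw [← mul_assoc, pow_mul, show 2 * 2 = 4 from rfl, h4, one_pow]
    · right
      rw [mul_add, ← mul_assoc, pow_add, pow_mul, show 2 * 2 = 4 from rfl, h4, one_pow, one_mul, mul_one, pow_two]
  · exfalso
    apply iz_notMem
    have h5 : iz ^ (2 * k) ∈ _root_.commutator fourRu := by
      rw [pow_mul, pow_two]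
      exact pow_mem iz_sq_mem k
    have h6 := mul_mem (inv_mem h5) hl
    rwa [pow_succ, inv_mul_cancel_left] at h6

theorem c0_ne : c0 ≠ 1 := by
  intro h
  have h1 : iz * iz = 1 := congrArg Subtype.val h
  have h2 := chi_iz2
  rw [h1, chi_one] at h2
  norm_num at h2

theorem dblL : Dbl pL c0 where
  ne := c0_ne
  sq := Subtype.ext iz4
  cen := by
    intro x
    apply Subtype.ext
    change iz * iz * (x : fourRu) = (x : fourRu) * (iz * iz)
    rw [mul_assoc, ← iz_comm, ← mul_assoc, ← iz_comm, mul_assoc]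
  perf := pcov.1
  surj := by
    intro y
    obtain ⟨g, rfl⟩ := q_surj y
    obtain ⟨l, hl, e, rfl⟩ := exists_mul g
    refine ⟨⟨l, hl⟩, ?_⟩
    have h1 : q (iz ^ e) = 1 := by
      rw [chi_eq_one_iff]
      apply pow_mem
      rw [mem_center_iff]
      exact fun g => iz_comm g
    rw [pL_apply, map_mul, h1, mul_one]
  ker := by
    rintro ⟨l, hl⟩
    rw [pL_apply, chi_eq_one_iff]
    constructor
    · intro h
      rcases mem_center_L hl h with h | h
      · exact Or.inl (Subtype.ext h)
      · exact Or.inr (Subtype.ext h)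
    · rintro (h | h)
      · have h1 : l = 1 := congrArg Subtype.val h
        change l ∈ _
        rw [h1]
        exact one_mem _
      · have h1 : l = iz * iz := congrArg Subtype.val h
        change l ∈ _
        rw [h1, mem_center_iff]
        intro g
        rw [← mul_assoc, iz_comm, mul_assoc, iz_comm]

/-! ### covers -/

/-- the character of a double cover -/
theorem exists_chi {N : Type u} [Group N] [Finite N] {π : N →* RuOrder.H} {c : N} (h : Dbl π c) :
    ∃ χ : N → ℂ, IsIrrCharacter N χ ∧ χ c ≠ χ 1 ∧ χ 1 = (28 : ℕ) := by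
  obtain ⟨N', _, _, ⟨e⟩⟩ := exists_type_zero N
  have h' := h.of_equiv e (MulEquiv.refl _)
  obtain ⟨θ, hθ⟩ := KFacts.RuDbl.One.oneCover.uniq' h' dblL
  let f : N →* L := θ.toMonoidHom.comp e.toMonoidHom
  have hf : Function.Surjective f := θ.surjective.comp e.surjective
  have h1 : f c = c0 := by
    have h2 : pL (f c) = 1 := by
      have h3 := hθ (e c)
      change pL (f c) = _ at h3
      rw [h3]
      exact (h'.ker (e c)).2 (Or.inr rfl)
    rcases (dblL.ker _).1 h2 with h3 | h3
    · exfalso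
      apply h.ne
      have h4 : e c = 1 := θ.injective (by rw [map_one]; exact h3)
      exact e.injective (by rw [map_one]; exact h4)
    · exact h3
  refine ⟨(fun l : L => chi l) ∘ f, isIrr_comp f hf irr_L, ?_, ?_⟩
  · rw [Function.comp_apply, Function.comp_apply, h1, map_one]
    change chi (iz * iz) ≠ chi 1
    rw [chi_iz2, chi_one]
    norm_num
  · rw [Function.comp_apply, map_one]
    exact chi_one

/-- **COVER for the model** -/
theorem cover_model : H704.S8.Cover.{u} (charDegrees RuOrder.H) RuOrder.H := by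
  intro N _ _ V _ r hr hV hcen hperf hiso
  obtain ⟨f⟩ := hiso
  let π : N →* RuOrder.H := f.toMonoidHom.comp (QuotientGroup.mk' V)
  have hπ : Function.Surjective π := f.surjective.comp (QuotientGroup.mk'_surjective V)
  have hker : ∀ x, π x = 1 ↔ x ∈ V := by
    intro x
    change f (QuotientGroup.mk' V x) = 1 ↔ _
    rw [map_eq_one_iff f f.injective, QuotientGroup.mk'_apply, QuotientGroup.eq_one_iff]
  -- `r = 2`
  have hr2 : r = 2 := by
    let π' : N →* Cfsg.Spor.Ru := RuLat.Main.equiv.symm.toMonoidHom.comp π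
    have hk' : π'.ker = V := by
      ext x
      rw [MonoidHom.mem_ker, ← hker]
      change RuLat.Main.equiv.symm (π x) = 1 ↔ _
      rw [map_eq_one_iff _ RuLat.Main.equiv.symm.injective]
    have h1 := H95.StemCover.card_ker_dvd_cyclic S2051.result hperf π' (RuLat.Main.equiv.symm.surjective.comp hπ)
      (by rw [hk']; exact hcen)
    rw [hk', hV] at h1
    exact (Nat.prime_dvd_prime_iff_eq hr Nat.prime_two).1 h1
  subst hr2
  -- the involution
  have hcyc : ∃ c ∈ V, c ≠ 1 ∧ ∀ x ∈ V, x = 1 ∨ x = c := by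
    obtain ⟨a, b, hab, hu⟩ := Nat.card_eq_two_iff.1 hV
    have h3 : ∀ x ∈ V, x = (a : N) ∨ x = (b : N) := by
      intro x hx
      have h4 : (⟨x, hx⟩ : V) ∈ ({a, b} : Set V) := by rw [hu]; trivial
      rcases h4 with h4 | h4
      · exact Or.inl (congrArg Subtype.val h4)
      · exact Or.inr (congrArg Subtype.val h4)
    rcases h3 1 (one_mem V) with h5 | h5
    · refine ⟨b, b.2, fun h6 => hab (Subtype.ext (by rw [← h5, h6])), fun x hx => ?_⟩
      rcases h3 x hx with h6 | h6
      · exact Or.inl (by rw [h6, ← h5])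
      · exact Or.inr h6
    · refine ⟨a, a.2, fun h6 => hab (Subtype.ext (by rw [← h5, h6])), fun x hx => ?_⟩
      rcases h3 x hx with h6 | h6
      · exact Or.inr h6
      · exact Or.inl (by rw [h6, ← h5])
  obtain ⟨c, hcV, hc1, hc⟩ := hcyc
  have hd : Dbl π c :=
    { ne := hc1
      sq := by
        rcases hc (c * c) (mul_mem hcV hcV) with h | h
        · exact h
        · exact absurd (mul_eq_left.1 h) hc1
      cen := fun x => ((mem_center_iff.1 (hcen hcV)) x).symm
      perf := hperf
      surj := hπ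
      ker := fun x => by
        rw [hker]
        constructor
        · exact hc x
        · rintro (rfl | rfl)
          · exact one_mem V
          · exact hcV }
  obtain ⟨χ, h1, h2, h3⟩ := exists_chi hd
  refine ⟨χ, 28, h1, ⟨c, hcV, h2⟩, h3, fun i => ⟨?_, ?_⟩⟩
  · rw [show 28 * 2 ^ i = 7 * 2 ^ (i + 2) by ring]
    exact RuDeg.seven (by omega)
  · rw [show 2 * (28 * 2 ^ i) = 7 * 2 ^ (i + 3) by ring]
    exact RuDeg.seven (by omega)

theorem charDegrees_congr {X : Type u} {Y : Type v} [Group X] [Group Y] (e : X ≃* Y) :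
    charDegrees X = charDegrees Y := by
  apply Set.Subset.antisymm
  · rintro d ⟨χ, rfl⟩
    exact ⟨⟨_, isIrr_comp e.symm.toMonoidHom e.symm.surjective χ.2⟩, by
      unfold charDegree
      simp only [_root_.MulEquiv.toMonoidHom_eq_coe, _root_.MonoidHom.coe_coe, _root_.Function.comp_apply, _root_.map_one]⟩
  · rintro d ⟨χ, rfl⟩
    exact ⟨⟨_, isIrr_comp e.toMonoidHom e.surjective χ.2⟩, by
      unfold charDegree
      simp only [_root_.MulEquiv.toMonoidHom_eq_coe, _root_.MonoidHom.coe_coe, _root_.Function.comp_apply, _root_.map_one]⟩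

/-- **COVER for `Ru`** -/
theorem row {X : Type v} [Group X] (hX : Cfsg.Spor.IsoRu X) (D : Set ℕ) (hD : H704.S8.Deg 1 X D) :
    H704.S8.Cover.{u} D X := by
  obtain ⟨e⟩ : Nonempty (X ≃* Cfsg.Spor.Ru) := hX
  have e' : X ≃* RuOrder.H := e.trans RuLat.Main.equiv
  rcases hD with rfl | ⟨h, -⟩
  · intro N _ _ V _ r hr hV hcen hperf hiso
    obtain ⟨f⟩ := hiso
    rw [charDegrees_congr e']
    exact cover_model V r hr hV hcen hperf ⟨f.trans e'⟩
  · norm_num at h

end Cfsg.Agent.H1.S8.RuCover
end

-- part: H854/S8/RuSolv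
section
/-!
# S4908, row Ru, SOLV (helper854)

No solvable group has the degrees of the Rudvalis group: the degrees are in a list of 400 divisors of the order (residues
modulo 29, `d ^ 2 ≤ |G|`, small degrees) and 3276, 20475 are degrees.
-/

set_option autoImplicit false
set_option maxRecDepth 100000

namespace Cfsg.Agent.H854.S8.Ru

open Cfsg Cfsg.Agent Cfsg.Agent.SporadicB Cfsg.Agent.Characters

universe u v

/-- a superset of the degrees -/
def Adm : List ℕ := [
  1, 29, 58, 87, 116, 145, 174, 203, 232, 261, 290, 348, 377, 378, 406, 435, 464, 522, 580, 609, 696, 725, 754, 783,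
  812, 870, 928, 1015, 1044, 1131, 1160, 1218, 1305, 1392, 1450, 1508, 1566, 1624, 1740, 1827, 1856, 1885, 2016,
  2030, 2088, 2160, 2175, 2262, 2320, 2436, 2610, 2625, 2639, 2784, 2900, 3016, 3045, 3132, 3248, 3276, 3393, 3480,
  3510, 3625, 3640, 3654, 3712, 3770, 3900, 3915, 4032, 4060, 4176, 4320, 4350, 4480, 4524, 4640, 4800, 4872, 5075,
  5220, 5250, 5278, 5481, 5568, 5655, 5800, 6032, 6090, 6264, 6496, 6525, 6656, 6786, 6960, 7250, 7280, 7308, 7424,
  7540, 7800, 7830, 7917, 8120, 8192, 8352, 8700, 8960, 9048, 9135, 9280, 9425, 9600, 9744, 10150, 10179, 10440,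
  10556, 10875, 10962, 11136, 11310, 11600, 12064, 12180, 12528, 12600, 12992, 13050, 13195, 13312, 13500, 13572,
  13920, 14500, 14616, 14848, 15080, 15225, 15660, 15834, 16240, 16384, 16704, 16965, 17400, 17472, 18096, 18270,
  18560, 18720, 18850, 19488, 19575, 20300, 20358, 20475, 20880, 21112, 21504, 21750, 21924, 22272, 22620, 22750,
  23040, 23200, 23751, 24128, 24360, 25056, 25200, 25375, 25984, 26100, 26390, 27000, 27144, 27405, 27840, 28000,
  28275, 29000, 29232, 29696, 30160, 30450, 31320, 31668, 32480, 32625, 33408, 33930, 34800, 34944, 36192, 36540,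
  37120, 37440, 37700, 38976, 39150, 39585, 40600, 40716, 41600, 41760, 42224, 43008, 43500, 43848, 44544, 45240,
  45500, 45675, 46080, 46400, 47125, 47502, 48256, 48720, 49140, 50112, 50750, 50895, 51200, 51968, 52200, 52780,
  54288, 54810, 55680, 56000, 56550, 58000, 58464, 59392, 60320, 60480, 60900, 62640, 63336, 64960, 65250, 65975,
  66816, 67860, 69600, 71253, 72384, 73080, 74240, 75400, 76125, 77952, 78300, 79170, 81200, 81432, 83200, 83520,
  84448, 84825, 87000, 87696, 89088, 89856, 90480, 91350, 92800, 94250, 95004, 96512, 97440, 97875, 98280, 100224,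
  101500, 101790, 102400, 103936, 104400, 105560, 108576, 109200, 109620, 110592, 111360, 113100, 116000, 116928,
  117000, 118755, 118784, 120640, 120960, 121800, 125280, 126672, 129920, 130500, 131950, 133632, 134400, 135720,
  137025, 139200, 141375, 142506, 144000, 144768, 146160, 148480, 150800, 152250, 155904, 156600, 158340, 162400,
  162864, 167040, 168896, 169650, 174000, 175392, 178176, 179712, 180960, 182700, 185600, 186368, 188500, 190008,
  193024, 194880, 195750, 197925, 199680, 200448, 203000, 203580, 207872, 208800, 211120, 217152, 218400, 219240,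
  221184, 222720, 226200, 228375, 232000, 233856, 234000, 237510, 237568, 241280, 243600, 245760, 250560, 253344,
  254475, 259840, 261000, 263900, 267264, 268800, 271440, 274050, 278400, 282750, 285012, 288000, 289536, 292320,
  296960, 301600, 304500, 307125, 311808, 313200, 316680, 324800, 325728, 329875, 334080, 337792, 339300, 348000,
  350784, 356265, 356352, 361920, 365400, 371200, 372736, 377000, 378000, 380016]

/-- the conditions on the degrees -/
def ok (d : ℕ) : Bool :=
  Nat.ble (d * d) 145926144000 && (Nat.beq d 1 || Nat.beq (d % 29) 0 ||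
    ((Nat.beq (d % 29) 1 || Nat.beq (d % 29) 28 || Nat.beq (d % 29) 14 || Nat.beq (d % 29) 15) &&
      (Nat.beq d 378 || Nat.ble 2016 d)))

open Cfsg.Agent.H497.S8 (packL keyP memP memP_sound) in
theorem adm_chk : ((List.range 15).all fun a => (List.range 4).all fun b => (List.range 4).all fun c =>
    (List.range 2).all fun e => (List.range 2).all fun f => (List.range 2).all fun g =>
      !(ok (2 ^ a * (3 ^ b * (5 ^ c * (7 ^ e * (13 ^ f * 29 ^ g)))))) ||
        memP 19 (packL 19 Adm) 400 (2 ^ a * (3 ^ b * (5 ^ c * (7 ^ e * (13 ^ f * 29 ^ g)))))) = true := by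
  decide +kernel

theorem mem_of_ok {d : ℕ} (hN : d ∣ 145926144000) (h : ok d = true) : d ∈ Adm := by
  have e0 : 145926144000 = 2 ^ 14 * (3 ^ 3 * (5 ^ 3 * (7 ^ 1 * (13 ^ 1 * 29 ^ 1)))) := by norm_num
  rw [e0] at hN
  obtain ⟨x1, y1, hx1, hy1, rfl⟩ := (Nat.dvd_mul).1 hN
  obtain ⟨x2, y2, hx2, hy2, rfl⟩ := (Nat.dvd_mul).1 hy1
  obtain ⟨x3, y3, hx3, hy3, rfl⟩ := (Nat.dvd_mul).1 hy2
  obtain ⟨x4, y4, hx4, hy4, rfl⟩ := (Nat.dvd_mul).1 hy3
  obtain ⟨x5, y5, hx5, hy5, rfl⟩ := (Nat.dvd_mul).1 hy4
  obtain ⟨a, ha, rfl⟩ := (Nat.dvd_prime_pow (by norm_num : Nat.Prime 2)).1 hx1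
  obtain ⟨b, hb, rfl⟩ := (Nat.dvd_prime_pow (by norm_num : Nat.Prime 3)).1 hx2
  obtain ⟨c, hc, rfl⟩ := (Nat.dvd_prime_pow (by norm_num : Nat.Prime 5)).1 hx3
  obtain ⟨e, he, rfl⟩ := (Nat.dvd_prime_pow (by norm_num : Nat.Prime 7)).1 hx4
  obtain ⟨f, hf, rfl⟩ := (Nat.dvd_prime_pow (by norm_num : Nat.Prime 13)).1 hx5
  obtain ⟨g, hg, rfl⟩ := (Nat.dvd_prime_pow (by norm_num : Nat.Prime 29)).1 hy5
  have h1 := List.all_eq_true.1 (List.all_eq_true.1 (List.all_eq_true.1 (List.all_eq_true.1 (List.all_eq_true.1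
    (List.all_eq_true.1 adm_chk a (List.mem_range.2 (by omega))) b (List.mem_range.2 (by omega)))
    c (List.mem_range.2 (by omega))) e (List.mem_range.2 (by omega))) f (List.mem_range.2 (by omega)))
    g (List.mem_range.2 (by omega))
  rw [h, Bool.not_true, Bool.false_or] at h1
  exact H497.S8.memP_sound (by decide +kernel) h1

theorem sq_le {G : Type*} [Group G] [Finite G] (χ : IrrCharacter G) :
    charDegree (χ : G → ℂ) * charDegree (χ : G → ℂ) ≤ Nat.card G := by
  have : Finite (IrrCharacter G) := Core.finite_irr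
  have := Fintype.ofFinite (IrrCharacter G)
  have h1 := Cfsg.Agent.CharDeep.PowerDegrees.sum_sq (G := G)
  have h2 : ∑ ψ : IrrCharacter G, charDegree (ψ : G → ℂ) ^ 2 = Nat.card G := by
    have h3 : ∀ ψ : IrrCharacter G, (ψ : G → ℂ) 1 = charDegree (ψ : G → ℂ) := fun ψ =>
      Cfsg.Agent.Blocks.Basic.irr_one_eq_charDegree ψ.2
    simp only [h3] at h1
    exact_mod_cast h1
  rw [← h2, ← pow_two]
  exact Finset.single_le_sum (f := fun ψ : IrrCharacter G => charDegree (ψ : G → ℂ) ^ 2) (fun _ _ => Nat.zero_le _)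
    (Finset.mem_univ χ)

/-- the degrees -/
theorem degs {d : ℕ} (hd : d ∈ charDegrees RuOrder.H) : d ∈ Adm := by
  have hfin : Finite RuOrder.H := H1.S8.RuDeg.fin_H
  refine mem_of_ok (H1.S8.RuDeg.dvd_card hd) ?_
  have h1 : d * d ≤ 145926144000 := by
    obtain ⟨χ, rfl⟩ := hd
    have h := sq_le χ
    rwa [RuOrder.card_H] at h
  unfold ok
  simp only [Bool.and_eq_true, Bool.or_eq_true, Nat.beq_eq, Nat.ble_eq]
  refine ⟨h1, ?_⟩
  rcases H1.S8.RuDeg.cases hd with h | h | ⟨h, h2⟩
  · exact Or.inl (Or.inl h)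
  · exact Or.inl (Or.inr h)
  · exact Or.inr ⟨by itauto, h2⟩

theorem mem_3276 : 3276 ∈ charDegrees RuOrder.H := by
  have h := H300.Ru.irr_of H300.Ru.gc2 (by decide +kernel) (by decide +kernel)
  refine ⟨⟨_, h⟩, Cfsg.Agent.Blocks.Basic.charDegree_of_eq ?_⟩
  change H300.Cls.tv H300.Ru.fam H300.Ru.v2 1 = ((3276 : ℕ) : ℂ)
  rw [H300.Cls.tv, H300.Ru.fam_one]
  norm_num [H300.Ru.v2]

theorem mem_20475 : 20475 ∈ charDegrees RuOrder.H := by
  refine ⟨⟨_, H300.Ru.irr_th1⟩, Cfsg.Agent.Blocks.Basic.charDegree_of_eq ?_⟩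
  change H300.Cls.tv H300.Ru.fam H300.Ru.th1 1 = ((20475 : ℕ) : ℂ)
  rw [H300.Cls.tv, H300.Ru.fam_one]
  norm_num only [H300.Ru.th1, _root_.List.getD_eq_getElem?_getD, _root_.List.length_cons, _root_.List.length_nil, _root_.zero_add, _root_.Nat.ofNat_pos, _root_.getElem?_pos, _root_.List.getElem_cons_zero, _root_.Option.getD_some, _root_.Int.cast_ofNat]

theorem chk : H497.S8.chk2 380016 [2, 3, 5, 7, 13, 29] Adm [[3276], [20475]] = true :=
  H497.S8.chk2_of_chk3 (by decide +kernel)

theorem primes : ∀ p ∈ [2, 3, 5, 7, 13, 29], Nat.Prime p := by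
  intro p hp
  simp only [List.mem_cons, List.not_mem_nil, or_false] at hp
  rcases hp with rfl | rfl | rfl | rfl | rfl | rfl <;> norm_num

theorem charDegrees_congr {X : Type u} {Y : Type v} [Group X] [Group Y] (e : X ≃* Y) :
    charDegrees X = charDegrees Y := by
  apply Set.Subset.antisymm
  · rintro d ⟨χ, rfl⟩
    exact ⟨⟨_, Core.isIrr_comp e.symm.toMonoidHom e.symm.surjective χ.2⟩, by
      unfold charDegree
      simp only [_root_.MulEquiv.toMonoidHom_eq_coe, _root_.MonoidHom.coe_coe, _root_.Function.comp_apply, _root_.map_one]⟩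
  · rintro d ⟨χ, rfl⟩
    exact ⟨⟨_, Core.isIrr_comp e.toMonoidHom e.surjective χ.2⟩, by
      unfold charDegree
      simp only [_root_.MulEquiv.toMonoidHom_eq_coe, _root_.MonoidHom.coe_coe, _root_.Function.comp_apply, _root_.map_one]⟩

/-- **SOLV for `Ru`** -/
theorem solv {X : Type v} [Group X] (hX : Cfsg.Spor.IsoRu X) {D : Set ℕ} (hD : H704.S8.Deg 1 X D) :
    H704.S8.Solv.{u} D := by
  obtain ⟨e⟩ : Nonempty (X ≃* Cfsg.Spor.Ru) := hX
  have e' : X ≃* RuOrder.H := e.trans RuLat.Main.equiv
  have hfin : Finite RuOrder.H := H1.S8.RuDeg.fin_H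
  have : Finite X := Finite.of_equiv _ e'.symm.toEquiv
  rcases hD with rfl | ⟨h, -⟩
  · have h1 : ∀ d ∈ charDegrees X, d ∈ Adm := by
      intro d hd
      rw [charDegrees_congr e'] at hd
      exact degs hd
    have h2 : ∀ l ∈ [[3276], [20475]], ∃ n ∈ l, n ∈ charDegrees X := by
      intro l hl
      rw [charDegrees_congr e']
      simp only [List.mem_cons, List.not_mem_nil, or_false] at hl
      rcases hl with rfl | rfl
      · exact ⟨3276, by simp, mem_3276⟩
      · exact ⟨20475, by simp, mem_20475⟩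
    have h3 := @H497.S8.solv_of_chk2.{u} (charDegrees X) 380016 [2, 3, 5, 7, 13, 29] Adm [[3276], [20475]] primes h1 h2 chk
    exact @h3
  · norm_num at h

end Cfsg.Agent.H854.S8.Ru
end

-- part: H915/S8/StructK
section
/-!
# The structure at a prime dividing the order once, with the normal subgroup (helper915, S4908)

`structK`, `struct_subK` : copies of `struct`, `struct_sub` of helper940 which also return the largest normal `r'`-subgroup.
-/

set_option autoImplicit false

namespace Cfsg.Agent.H915.S8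

open Subgroup Cfsg.Agent.OrdDiv Cfsg.Agent.H940 Cfsg.Agent.H940.Eng

universe u

/-- **the structure at a prime dividing the order once** -/
theorem structK {X : Type u} [Group X] [Finite X] {r : ℕ} (hr : r.Prime) (h2 : ¬ r ^ 2 ∣ Nat.card X)
    (R : Subgroup X) (hR : Nat.card R = r) :
    ∃ K : Subgroup X, K.Normal ∧ (∀ N : Subgroup X, N.Normal → ¬ r ∣ Nat.card N → N ≤ K) ∧
    ∃ c s ν t : ℕ, Nat.card X = Nat.card K * s * t ∧ Nat.card (normalizer (R : Set X)) = c * ν * t ∧
      c ∣ Nat.card (centralizer (R : Set X)) ∧ c ∣ Nat.card K ∧ ¬ r ∣ Nat.card K ∧ r ∣ ν ∧ ν ∣ s ∧ s / ν ≡ 1 [MOD r] ∧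
      (∀ p : ℕ, p.Prime → ∃ j : ℕ, p ^ j ∣ c ∧ p ^ ((Nat.card K).factorization p) ≡ p ^ j [MOD r]) ∧
      (s = r ∨ ∃ (S : Type u) (_ : Group S) (_ : Finite S), IsSimpleGroup S ∧ (¬ ∀ a b : S, a * b = b * a) ∧
        Nat.card S = s) := by
  have := Fact.mk hr
  obtain ⟨K, ⟨hKn, hrK⟩, hKmax⟩ := exists_card_max (P := fun T : Subgroup X => T.Normal ∧ ¬ r ∣ Nat.card T)
    ⟨⊥, inferInstance, by rw [card_bot]; exact hr.one_lt.ne' ∘ Nat.dvd_one.1⟩
  let f : X →* X ⧸ K := QuotientGroup.mk' K
  have hf : Function.Surjective f := QuotientGroup.mk'_surjective K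
  have hker : f.ker = K := QuotientGroup.ker_mk' K
  have hRK : R ⊓ K = ⊥ := by
    have h3 : Nat.card ↥(R ⊓ K) ∣ r := hR ▸ card_dvd_of_le inf_le_left
    rcases (Nat.dvd_prime hr).1 h3 with h4 | h4
    · exact card_eq_one.1 h4
    · exact absurd (h4 ▸ card_dvd_of_le (inf_le_right : R ⊓ K ≤ K)) hrK
  have hmapcard : ∀ A : Subgroup X, Nat.card ↥(A.map f) * Nat.card ↥(A ⊓ K) = Nat.card A := by
    intro A
    have h3 := card_mul_index (f.comp A.subtype).ker
    rw [index_ker] at h3
    have h4 : Nat.card (f.comp A.subtype).ker = Nat.card ↥(A ⊓ K) := by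
      have h5 : (f.comp A.subtype).ker.map A.subtype = A ⊓ K := by
        ext x
        rw [mem_map, mem_inf]
        constructor
        · rintro ⟨a, ha, rfl⟩
          refine ⟨a.2, ?_⟩
          rw [← hker, MonoidHom.mem_ker]
          exact ha
        · rintro ⟨hxA, hxK⟩
          refine ⟨⟨x, hxA⟩, ?_, rfl⟩
          rw [← hker, MonoidHom.mem_ker] at hxK
          exact hxK
      rw [← h5, card_map_of_injective A.subtype_injective]
    have h6 : (f.comp A.subtype).range = A.map f := by
      ext y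
      constructor
      · rintro ⟨a, rfl⟩
        exact ⟨a, a.2, rfl⟩
      · rintro ⟨a, ha, rfl⟩
        exact ⟨⟨a, ha⟩, rfl⟩
    rw [h4, h6, mul_comm] at h3
    exact h3
  have hXY : Nat.card X = Nat.card K * Nat.card (X ⧸ K) := by
    rw [← index_eq_card, card_mul_index]
  have hRbar : Nat.card ↥(R.map f) = r := by
    have := hmapcard R
    rwa [hRK, card_bot, mul_one, hR] at this
  have hY2 : ¬ r ^ 2 ∣ Nat.card (X ⧸ K) := fun h => h2 (hXY ▸ (h.trans (dvd_mul_left _ _)))
  have hno : ∀ N : Subgroup (X ⧸ K), N.Normal → ¬ r ∣ Nat.card N → N = ⊥ := by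
    intro N hN hrN
    have h3 : Nat.card ↥(N.comap f) = Nat.card K * Nat.card N := MaxCls.card_comap_quot K N
    have h4 := hKmax (N.comap f) ⟨hN.comap f, by
      rw [h3]
      intro h
      rcases hr.dvd_mul.1 h with h5 | h5
      · exact hrK h5
      · exact hrN h5⟩
    rw [h3] at h4
    have h5 : 0 < Nat.card K := Nat.card_pos
    have h6 : 0 < Nat.card N := Nat.card_pos
    have h7 : Nat.card N ≤ 1 := by
      by_contra hlt
      push Not at hlt
      nlinarith only [h4, h5, hlt]
    exact card_eq_one.1 (le_antisymm h7 h6)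
  obtain ⟨s, ν, t, e1, e2, e3, e4, e5, e6⟩ := struct_top hr hY2 hno (R.map f) hRbar
  set N := normalizer (R : Set X) with hN
  -- the normalizer in the quotient
  have hNbar : normalizer ((R.map f : Subgroup (X ⧸ K)) : Set (X ⧸ K)) = N.map f := by
    apply le_antisymm
    · intro y hy
      obtain ⟨x, rfl⟩ := hf y
      rw [← conj_eq_iff] at hy
      set! R' := R.map (MulAut.conj x).toMonoidHom with hR'
      have hR'c : Nat.card R' = r := by rw [hR', card_map_of_injective (MulAut.conj x).injective, hR]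
      -- `R'` and `R` are Sylow subgroups of `L = K R`
      have hR'f : R'.map f = R.map f := by
        rw [← hy, hR', map_map, map_map]
        congr 1
      set! L := K ⊔ R with hL
      have hRL : R ≤ L := le_sup_right
      have hR'L : R' ≤ L := by
        intro z hz
        have h3 : f z ∈ R.map f := by rw [← hR'f]; exact ⟨z, hz, rfl⟩
        obtain ⟨w, hw, hw'⟩ := h3
        have h4 : z * w⁻¹ ∈ K := by
          rw [← hker, MonoidHom.mem_ker, map_mul, map_inv, hw', mul_inv_cancel]
        have h5 : z = (z * w⁻¹) * w := by group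
        rw [h5]
        exact mul_mem (mem_sup_left h4) (mem_sup_right hw)
      have hL2 : ¬ r ^ 2 ∣ Nat.card L := fun h => h2 (h.trans (card_subgroup_dvd_card _))
      have hRLc : Nat.card (R'.subgroupOf L) = r := by
        rw [Nat.card_congr (subgroupOfEquivOfLe hR'L).toEquiv, hR'c]
      have hRLc2 : Nat.card (R.subgroupOf L) = r := by
        rw [Nat.card_congr (subgroupOfEquivOfLe hRL).toEquiv, hR]
      obtain ⟨l, hl⟩ := exists_conj_le hr hL2 hRLc (L := R.subgroupOf L) (by rw [hRLc2])
      have hl' : R'.map (MulAut.conj (l : X)).toMonoidHom = R := by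
        apply eq_of_le_of_card_ge
        · rintro _ ⟨z, hz, rfl⟩
          exact hl ⟨⟨z, hR'L hz⟩, hz, rfl⟩
        · rw [card_map_of_injective (MulAut.conj (l : X)).injective, hR'c, hR]
      have hlx : (l : X) * x ∈ N := by
        rw [hN, ← conj_eq_iff]
        have h7 : R.map (MulAut.conj ((l : X) * x)).toMonoidHom =
            (R.map (MulAut.conj x).toMonoidHom).map (MulAut.conj (l : X)).toMonoidHom := by
          rw [map_map]
          congr 1
          ext z
          simp
        rw [h7]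
        exact hl'
      have hlf : f (l : X) ∈ N.map f := by
        have hlL : (l : X) ∈ K ⊔ R := l.2
        rw [mem_sup_of_normal_left] at hlL
        obtain ⟨a, ha, b, hb, hab⟩ := hlL
        refine ⟨b, le_normalizer hb, ?_⟩
        rw [← hab, map_mul]
        have : f a = 1 := by rw [← MonoidHom.mem_ker, hker]; exact ha
        rw [this, one_mul]
      have h8 : f x = (f (l : X))⁻¹ * f ((l : X) * x) := by rw [map_mul]; group
      rw [h8]
      exact mul_mem (inv_mem hlf) ⟨_, hlx, rfl⟩
    · rintro _ ⟨x, hx, rfl⟩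
      rw [← conj_eq_iff]
      have h3 : R.map (MulAut.conj x).toMonoidHom = R := conj_eq_iff.2 hx
      conv_rhs => rw [← h3]
      rw [map_map, map_map]
      congr 1
  have hNc : Nat.card N = Nat.card ↥(N ⊓ K) * ν * t := by
    rw [← hmapcard N, ← hNbar, e2]
    ring
  have hmaxK : ∀ N : Subgroup X, N.Normal → ¬ r ∣ Nat.card N → N ≤ K := by
    intro A hA hrA
    have h3 := hKmax (K ⊔ A) ⟨inferInstance, not_dvd_card_sup hr K A hrK hrA⟩
    have h4 : K = K ⊔ A := eq_of_le_of_card_ge le_sup_left h3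
    rw [h4]
    exact le_sup_right
  refine ⟨K, hKn, hmaxK, Nat.card ↥(N ⊓ K), s, ν, t, by rw [hXY, e1, mul_assoc], hNc, ?_,
    card_dvd_of_le inf_le_right, hrK, e3, e4, e5, ?_, e6⟩
  · apply card_dvd_of_le
    intro x hx
    have hxN : x ∈ N := (mem_inf.1 hx).1
    have hxK : x ∈ K := (mem_inf.1 hx).2
    rw [mem_centralizer_iff]
    intro a ha
    have h3 : x * a * x⁻¹ * a⁻¹ ∈ R ⊓ K := by
      refine mem_inf.2 ⟨mul_mem ((mem_normalizer_iff.1 hxN a).1 ha) (inv_mem (show a ∈ R from ha)), ?_⟩
      have h4 : a * x⁻¹ * a⁻¹ ∈ K := hKn.conj_mem _ (inv_mem hxK) a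
      have h5 : x * a * x⁻¹ * a⁻¹ = x * (a * x⁻¹ * a⁻¹) := by group
      rw [h5]
      exact mul_mem hxK h4
    rw [hRK, mem_bot] at h3
    have h6 : x * a = a * x := by
      have := congrArg (· * a * x) h3
      simpa only [mul_assoc, _root_.inv_mul_cancel, _root_.mul_one, _root_.one_mul] using this
    exact h6.symm
  · intro p hp
    have := Fact.mk hp
    by_cases hpr : p = r
    · subst hpr
      refine ⟨0, by simp only [_root_.pow_zero, _root_.Subgroup.mem_inf, _root_.isUnit_iff_eq_one, _root_.IsUnit.dvd], ?_⟩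
      rw [Nat.factorization_eq_zero_of_not_dvd hrK]
    · -- an `R`-invariant Sylow `p`-subgroup of `K`
      let Q0 : Sylow p K := default
      set! Q0' : Subgroup X := (Q0 : Subgroup K).map K.subtype with hQ0'
      have hQ0K : Q0' ≤ K := map_subtype_le _
      have hfr : normalizer (Q0' : Set X) ⊔ K = ⊤ := Sylow.normalizer_sup_eq_top Q0
      have hrN : r ∣ Nat.card (normalizer (Q0' : Set X)) := by
        have h3 := card_sup_mul_card_inf K (normalizer (Q0' : Set X))
        rw [sup_comm, hfr, card_top] at h3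
        have h4 : r ∣ Nat.card K * Nat.card (normalizer (Q0' : Set X)) := by
          rw [← h3]
          exact Dvd.dvd.mul_right (hR ▸ card_subgroup_dvd_card R) _
        exact (hr.dvd_mul.1 h4).resolve_left hrK
      obtain ⟨g, hg⟩ := exists_conj_le hr h2 hR hrN
      -- `Q = Q0' conjugated by g⁻¹` is normalized by `R`
      set! Q : Subgroup X := Q0'.map (MulAut.conj g⁻¹).toMonoidHom with hQ
      have hQK : Q ≤ K := by
        rintro _ ⟨z, hz, rfl⟩
        exact hKn.conj_mem _ (hQ0K hz) g⁻¹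
      have hRQ : R ≤ normalizer (Q : Set X) := by
        intro a ha
        have h3 : g * a * g⁻¹ ∈ normalizer (Q0' : Set X) := hg ⟨a, ha, rfl⟩
        rw [← conj_eq_iff] at h3 ⊢
        rw [hQ, map_map]
        conv_rhs => rw [← h3, map_map]
        congr 1
        ext z
        simp [mul_assoc]
      have hQc : Nat.card Q = p ^ ((Nat.card K).factorization p) := by
        rw [hQ, card_map_of_injective (MulAut.conj g⁻¹).injective, hQ0', card_map_of_injective K.subtype_injective]
        exact Q0.card_eq_multiplicity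
      -- the action of `R` on `Q`
      let _ : MulAction R Q := {
        smul := fun a z => ⟨(a : X) * z * (a : X)⁻¹, (mem_normalizer_iff.1 (hRQ a.2) z).1 z.2⟩
        one_smul := fun z => Subtype.ext (by show (1 : X) * z * (1 : X)⁻¹ = z; simp)
        mul_smul := fun a b z => Subtype.ext (by
          show ((a : X) * b) * z * ((a : X) * b)⁻¹ = a * (b * z * (b : X)⁻¹) * (a : X)⁻¹
          group) }
      have hsm : ∀ (a : R) (z : Q), ((a • z : Q) : X) = (a : X) * z * (a : X)⁻¹ := fun _ _ => rfl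
      have hRp : IsPGroup r R := IsPGroup.of_card (n := 1) (by rw [hR, pow_one])
      have hmod : Nat.card Q ≡ Nat.card (MulAction.fixedPoints R Q) [MOD r] := hRp.card_modEq_card_fixedPoints Q
      -- the fixed points
      set! D : Subgroup X := Q ⊓ centralizer (R : Set X) with hD
      have hDc : Nat.card (MulAction.fixedPoints R Q) = Nat.card D := by
        refine Nat.card_congr ?_
        refine ⟨fun z => ⟨((z : Q) : X), mem_inf.2 ⟨(z : Q).2, ?_⟩⟩, fun z => ⟨⟨(z : X), (mem_inf.1 z.2).1⟩, ?_⟩, fun z => rfl, fun z => rfl⟩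
        · show ((z : Q) : X) ∈ centralizer (R : Set X)
          rw [mem_centralizer_iff]
          intro a ha
          have h3 := congrArg Subtype.val (z.2 ⟨a, ha⟩)
          rw [hsm] at h3
          have h4 : a * ((z : Q) : X) * a⁻¹ = ((z : Q) : X) := h3
          calc a * ((z : Q) : X) = a * ((z : Q) : X) * a⁻¹ * a := by group
            _ = ((z : Q) : X) * a := by rw [h4]
        · intro a
          apply Subtype.ext
          rw [hsm]
          have h3 := (mem_centralizer_iff.1 (mem_inf.1 z.2).2) (a : X) a.2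
          show (a : X) * (z : X) * (a : X)⁻¹ = z
          rw [h3]
          group
      have hDp : IsPGroup p D := by
        have h3 : IsPGroup p Q := IsPGroup.of_card hQc
        exact h3.to_le inf_le_left
      obtain ⟨j, hj⟩ := IsPGroup.iff_card.1 hDp
      refine ⟨j, ?_, ?_⟩
      · rw [← hj]
        apply card_dvd_of_le
        intro z hz
        have hzQ : z ∈ Q := (mem_inf.1 hz).1
        have hzC : z ∈ centralizer (R : Set X) := (mem_inf.1 hz).2
        refine mem_inf.2 ⟨?_, hQK hzQ⟩
        rw [hN, mem_normalizer_iff]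
        intro a
        have h3 : ∀ b ∈ R, z * b * z⁻¹ = b := by
          intro b hb
          rw [← (mem_centralizer_iff.1 hzC) b hb]
          group
        constructor
        · intro ha
          rw [h3 a ha]
          exact ha
        · intro ha
          have h4 := h3 _ ha
          have h5 : z * a * z⁻¹ = a := by
            have h6 : z * (z * a * z⁻¹) * z⁻¹ = z * a * z⁻¹ := h4
            have h7 : z⁻¹ * (z * (z * a * z⁻¹) * z⁻¹) * z = z⁻¹ * (z * a * z⁻¹) * z := by rw [h6]
            have h8 : z⁻¹ * (z * (z * a * z⁻¹) * z⁻¹) * z = z * a * z⁻¹ := by group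
            have h9 : z⁻¹ * (z * a * z⁻¹) * z = a := by group
            rw [h8, h9] at h7
            exact h7
          rw [← h5]
          exact ha
      · rw [← hQc, ← hj, ← hDc]
        exact hmod

/-- the numbers of `struct` for a subgroup -/
theorem struct_subK {G : Type u} [Group G] [Finite G] {l : List (ℕ × ℕ)} {n : ℕ} (hv : valid l n = true)
    (hn : Nat.card G = n) {ords : List ℕ} (ho : Ords.{u} n ords) {ld : LD} (hl : Loc G ld) {H : Subgroup G}
    (hr : ld.r ∣ Nat.card H) : ∃ K : Subgroup H, K.Normal ∧ (∀ N : Subgroup H, N.Normal → ¬ ld.r ∣ Nat.card N → N ≤ K) ∧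
      ∃ s t : ℕ, Nat.card H = Nat.card K * s * t ∧ t ∣ ld.N / ld.r ∧ s ∈ ld.r :: ords ∧
      ld.r ∣ s ∧ t ∈ divsT ld.fN ∧ ¬ ld.r ∣ Nat.card K ∧
      (∀ p : ℕ, p.Prime → okexp ld.r ld.C p ((Nat.card K).factorization p) = true) ∧
      nuc (divsT ld.fN) ld.r ld.N s t = true := by
  obtain ⟨hp, hfN, h2, hloc⟩ := hl
  have := Fact.mk hp
  have hH2 : ¬ ld.r ^ 2 ∣ Nat.card H := fun h => h2 (h.trans (card_subgroup_dvd_card H))
  obtain ⟨x, hx⟩ := exists_prime_orderOf_dvd_card' ld.r hr
  set! R : Subgroup H := zpowers x with hR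
  have hRc : Nat.card R = ld.r := by rw [hR, Nat.card_zpowers, hx]
  set! R' : Subgroup G := R.map H.subtype with hR'
  have hR'c : Nat.card R' = ld.r := by rw [hR', card_map_of_injective H.subtype_injective, hRc]
  obtain ⟨hC, hN⟩ := hloc R' hR'c
  have hNH : Nat.card (normalizer (R : Set H)) ∣ ld.N := by
    refine dvd_trans ?_ hN
    have h3 : (normalizer (R : Set H)).map H.subtype ≤ normalizer (R' : Set G) := by
      rintro _ ⟨a, ha, rfl⟩
      rw [mem_normalizer_iff]
      intro z
      constructor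
      · rintro ⟨w, hw, rfl⟩
        exact ⟨_, (mem_normalizer_iff.1 ha w).1 hw, rfl⟩
      · rintro ⟨w, hw, hw'⟩
        have h4 : a⁻¹ * w * a ∈ R := by
          have h5 := (mem_normalizer_iff.1 ha (a⁻¹ * w * a)).2 (by
            have h6 : a * (a⁻¹ * w * a) * a⁻¹ = w := by group
            rw [h6]
            exact hw)
          exact h5
        refine ⟨_, h4, ?_⟩
        have h7 : (w : G) = (a : G) * z * (a : G)⁻¹ := hw'
        show ((a⁻¹ * w * a : H) : G) = z
        push_cast
        rw [h7]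
        group
    rw [← card_map_of_injective H.subtype_injective]
    exact card_dvd_of_le h3
  have hCH : Nat.card (centralizer (R : Set H)) ∣ ld.C := by
    refine dvd_trans ?_ hC
    have h3 : (centralizer (R : Set H)).map H.subtype ≤ centralizer (R' : Set G) := by
      rintro _ ⟨a, ha, rfl⟩
      rw [mem_centralizer_iff]
      rintro _ ⟨w, hw, rfl⟩
      exact congrArg Subtype.val ((mem_centralizer_iff.1 ha) w hw)
    rw [← card_map_of_injective H.subtype_injective]
    exact card_dvd_of_le h3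
  obtain ⟨K, hKn, hKm, c, s, ν, t, e1, e2, e3, e4, e5, e6, e7, e8, e9, e10⟩ := structK hp hH2 R hRc
  obtain ⟨k, hkd⟩ : ∃ k, Nat.card K = k := ⟨_, rfl⟩
  rw [hkd] at e1 e4 e5 e9
  have hNpos : 0 < ld.N := prodl_pos hfN
  have hHpos : 0 < Nat.card H := Nat.card_pos
  have hkpos : k ≠ 0 := by
    rintro rfl
    rw [zero_mul, zero_mul] at e1
    omega
  have hHn : Nat.card H ∣ n := hn ▸ card_subgroup_dvd_card H
  have htpos : 0 < t := Nat.pos_of_ne_zero (by rintro rfl; rw [mul_zero] at e1; omega)
  have hspos : 0 < s := Nat.pos_of_ne_zero (by rintro rfl; rw [mul_zero, zero_mul] at e1; omega)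
  have hcpos : 0 < c := Nat.pos_of_dvd_of_pos e4 (Nat.pos_of_ne_zero hkpos)
  have hνpos : 0 < ν := Nat.pos_of_dvd_of_pos e7 hspos
  obtain ⟨ν', hν'⟩ := e6
  have hrN : ld.N = ld.r * (ld.N / ld.r) := by
    have h3 : ld.r ∣ ld.N := by
      refine dvd_trans ?_ hNH
      rw [e2, hν']
      exact ⟨c * ν' * t, by ring⟩
    exact (Nat.mul_div_cancel' h3).symm
  have htN : t ∣ ld.N / ld.r := by
    have h3 : ld.r * t ∣ ld.N := by
      refine dvd_trans ?_ hNH
      rw [e2, hν']
      exact ⟨c * ν', by ring⟩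
    rw [hrN] at h3
    exact Nat.dvd_of_mul_dvd_mul_left hp.pos h3
  have htN' : t ∣ ld.N := htN.trans (Nat.div_dvd_of_dvd (by rw [hrN]; exact dvd_mul_right _ _))
  refine ⟨K, hKn, hKm, s, t, by rw [hkd]; exact e1, htN, ?_, ?_, mem_divsT hfN htN', by rw [hkd]; exact e5, ?_, ?_⟩
  · rcases e10 with h | ⟨S, i1, i2, hS, hna, hSc⟩
    · rw [h]
      exact List.mem_cons_self
    · rw [← hSc]
      refine List.mem_cons_of_mem _ (ho S hS hna ?_)
      rw [hSc]
      exact dvd_trans (by rw [e1]; exact ⟨k * t, by ring⟩) hHn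
  · exact (Dvd.intro _ hν'.symm).trans e7
  · intro p hpp
    rw [hkd]
    obtain ⟨j, hj, hjm⟩ := e9 p hpp
    unfold okexp
    rw [List.any_eq_true]
    have hjle : j ≤ k.factorization p := (hpp.pow_dvd_iff_le_factorization hkpos).1 (hj.trans e4)
    refine ⟨j, List.mem_range.2 (by omega), ?_⟩
    rw [Bool.and_eq_true, beq_iff_eq, beq_iff_eq]
    refine ⟨Nat.mod_eq_zero_of_dvd ((hj.trans e3).trans hCH), ?_⟩
    by_cases hpr : p = ld.r
    · have h3 : k.factorization p = 0 := by
        rw [hpr]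
        exact Nat.factorization_eq_zero_of_not_dvd e5
      have h4 : j = 0 := by omega
      rw [h3, h4, Nat.sub_zero, pow_zero]
    · have h3 : p ^ (k.factorization p) = p ^ j * p ^ (k.factorization p - j) := by
        rw [← pow_add]
        congr 1
        omega
      have h4 : p ^ j * p ^ (k.factorization p - j) ≡ p ^ j * 1 [MOD ld.r] := by
        rw [← h3, mul_one]
        exact hjm
      have h5 : Nat.gcd ld.r (p ^ j) = 1 := by
        apply Nat.Coprime.pow_right
        exact (Nat.coprime_primes hp hpp).2 (Ne.symm hpr)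
      exact Nat.ModEq.cancel_left_of_coprime h5 h4
  · unfold nuc
    rw [Bool.or_eq_true, List.any_eq_true]
    right
    refine ⟨ν, mem_divsT hfN (dvd_trans ?_ hNH), ?_⟩
    · rw [e2]
      exact ⟨c * t, by ring⟩
    · rw [Bool.and_eq_true, Bool.and_eq_true, Bool.and_eq_true, beq_iff_eq, beq_iff_eq, beq_iff_eq, beq_iff_eq]
      refine ⟨⟨⟨Nat.mod_eq_zero_of_dvd ⟨ν', hν'⟩, Nat.mod_eq_zero_of_dvd ?_⟩, Nat.mod_eq_zero_of_dvd e7⟩, e8⟩
      obtain ⟨z, hz⟩ := hNH
      rw [hz, e2]
      refine ⟨c * z, ?_⟩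
      apply Nat.div_eq_of_eq_mul_left htpos
      ring

end Cfsg.Agent.H915.S8
end

-- part: H915/S8/Kill
section
/-!
# Large normal 2-subgroups (helper915, S4908)
-/

set_option autoImplicit false

namespace Cfsg.Agent.H915.S8

open Subgroup

universe u

theorem no25 : ∀ d ≤ 7, ¬ 25 ∣ ∏ i : Fin d, (2 ^ d - 2 ^ (i : ℕ)) := by decide +kernel

theorem no125 : ∀ d ≤ 10, ¬ 125 ∣ ∏ i : Fin d, (2 ^ d - 2 ^ (i : ℕ)) := by decide +kernel

/-- `K` the largest normal `7'`-subgroup of `T`, of order `2 ^ a`, `a ≥ 3`; the elements of order 7 have centralizers of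
order dividing 28: a power of 5 dividing `|T|` divides the order of the automorphism group of `K` -/
theorem kill {T : Type u} [Group T] [Finite T] (K : Subgroup T) [K.Normal]
    (hmax : ∀ N : Subgroup T, N.Normal → ¬ 7 ∣ Nat.card N → N ≤ K) {a e : ℕ} (hK : Nat.card K = 2 ^ a) (ha : 3 ≤ a)
    (h7 : ∀ z : T, orderOf z = 7 → Nat.card (centralizer ({z} : Set T)) ∣ 28) (h5 : 5 ^ e ∣ Nat.card T)
    (hno : ∀ d ≤ a, ¬ 5 ^ e ∣ ∏ i : Fin d, (2 ^ d - 2 ^ (i : ℕ))) : False := by
  set! C : Subgroup T := (MulAut.conjNormal (H := K)).ker with hC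
  have hCK : ∀ c ∈ C, ∀ k ∈ K, c * k = k * c := by
    intro c hc k hk
    rw [hC, MonoidHom.mem_ker] at hc
    have h1 := congrArg Subtype.val (DFunLike.congr_fun hc ⟨k, hk⟩)
    rw [MulAut.conjNormal_apply] at h1
    have h2 : c * k * c⁻¹ = k := h1
    calc c * k = c * k * c⁻¹ * c := by group
      _ = k * c := by rw [h2]
  by_cases h : 7 ∣ Nat.card C
  · have : Fact (Nat.Prime 7) := ⟨by norm_num⟩
    obtain ⟨z, hz⟩ := exists_prime_orderOf_dvd_card' (G := C) 7 h
    have hz' : orderOf (z : T) = 7 := by rw [Subgroup.orderOf_coe, hz]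
    have h1 : K ≤ centralizer ({(z : T)} : Set T) := by
      intro k hk
      rw [mem_centralizer_singleton_iff]
      exact (hCK z z.2 k hk).symm
    have h2 := (card_dvd_of_le h1).trans (h7 _ hz')
    rw [hK] at h2
    have h3 : 2 ^ 3 ∣ 28 := (pow_dvd_pow 2 ha).trans h2
    norm_num at h3
  · have h1 : C ≤ K := hmax C inferInstance h
    have h2 : Nat.card C * C.index = Nat.card T := card_mul_index C
    have h3 : C.index ∣ Nat.card (MulAut K) := by
      rw [hC, index_ker]
      exact card_subgroup_dvd_card _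
    have hcop : Nat.Coprime (5 ^ e) (Nat.card C) := by
      have h4 : Nat.card C ∣ 2 ^ a := hK ▸ card_dvd_of_le h1
      exact Nat.Coprime.coprime_dvd_right h4 (Nat.Coprime.pow _ _ (by norm_num))
    have h4 : 5 ^ e ∣ Nat.card (MulAut K) := by
      rw [← h2] at h5
      exact (hcop.dvd_of_dvd_mul_left h5).trans h3
    have : Fact (Nat.Prime 2) := ⟨Nat.prime_two⟩
    obtain ⟨d, M, hd, -, hM⟩ := Cfsg.Agent.BpSpor.card_mulAut_dvd (IsPGroup.of_card hK) hK
    have h6 := h4.trans hM
    exact hno d hd ((Nat.Coprime.pow _ _ (by norm_num : Nat.Coprime 5 2)).dvd_of_dvd_mul_left h6)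

end Cfsg.Agent.H915.S8
end

-- part: H915/S8/RuTrans
section
/-!
# Subgroups of small index in the Rudvalis group are transitive on the 4060 points (helper915, S4908)
-/

set_option autoImplicit false

namespace Cfsg.Agent.H915.S8.RuTrans

open Cfsg Subgroup Cfsg.Agent.SporadicB Cfsg.Agent.Characters.Core
open scoped ComplexConjugate

theorem ne_one_of_deg {G : Type*} [Group G] [Finite G] {χ : G → ℂ} {n : ℕ} (h : charDegree χ = n) (hn : n ≠ 1) : χ ≠ 1 := by
  rintro rfl
  apply hn
  rw [← h]
  exact Cfsg.Agent.Blocks.Basic.charDegree_of_eq (by simp)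

theorem dvd_of_index (T : Subgroup RuOrder.H) (hT : T.index < 783) : 4060 ∣ Nat.card T := by
  classical
  have hfin : Finite RuOrder.H := Cfsg.Agent.H690.Spor.Ru.instFiniteH
  have _i1 := Fintype.ofFinite RuOrder.H
  have _i2 := Fintype.ofFinite T
  obtain ⟨χ₁, χ₂, h1, h2, hπ⟩ := Cfsg.Agent.H536.K4.Ru.exists_perm
  have z1 : classInner (H649.MN.perm T) (χ₁ : RuOrder.H → ℂ) = 0 := by
    by_contra hne
    have h3 := H649.MN.charDegree_lt χ₁.2 (ne_one_of_deg h1 (by norm_num)) hne
    omega
  have z2 : classInner (H649.MN.perm T) (χ₂ : RuOrder.H → ℂ) = 0 := by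
    by_contra hne
    have h3 := H649.MN.charDegree_lt χ₂.2 (ne_one_of_deg h2 (by norm_num)) hne
    omega
  have z : classInner (H649.MN.perm T) ((1 : RuOrder.H → ℂ) + (χ₁ : RuOrder.H → ℂ) + (χ₂ : RuOrder.H → ℂ)) = 1 := by
    rw [classInner_add_right, classInner_add_right, z1, z2, H649.MN.classInner_perm_one, add_zero, add_zero]
  have hcl : IsClassFunction RuOrder.H ((1 : RuOrder.H → ℂ) + (χ₁ : RuOrder.H → ℂ) + (χ₂ : RuOrder.H → ℂ)) := by
    intro g x
    have a1 := isIrr_isClassFunction χ₁.2 g x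
    have a2 := isIrr_isClassFunction χ₂.2 g x
    simp only [Pi.add_apply, Pi.one_apply]
    rw [a1, a2]
  have w : classInner (H649.MN.perm T) ((1 : RuOrder.H → ℂ) + (χ₁ : RuOrder.H → ℂ) + (χ₂ : RuOrder.H → ℂ)) =
      (Nat.card T : ℂ)⁻¹ * ∑ t : T, (Nat.card (MulAction.fixedBy (Fin 4060) (t : RuOrder.H)) : ℂ) := by
    unfold H649.MN.perm
    rw [Cfsg.Agent.Characters.Brauer.classInner_indFun T _ _ _ hcl]
    unfold classInner
    congr 1
    refine Finset.sum_congr rfl fun t _ => ?_
    have h3 := hπ (t : RuOrder.H)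
    simp only [Pi.add_apply, Pi.one_apply, one_mul]
    rw [← h3, Complex.conj_natCast]
  rw [z] at w
  have hc0 : (Nat.card T : ℂ) ≠ 0 := Nat.cast_ne_zero.2 Nat.card_pos.ne'
  have hsum : ∑ t : T, Nat.card (MulAction.fixedBy (Fin 4060) (t : RuOrder.H)) = Nat.card T := by
    have h3 : (∑ t : T, (Nat.card (MulAction.fixedBy (Fin 4060) (t : RuOrder.H)) : ℂ)) = Nat.card T := by
      field_simp at w
      exact w.symm
    exact_mod_cast h3
  have hB := MulAction.sum_card_fixedBy_eq_card_orbits_mul_card_group T (Fin 4060)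
  have hB2 : ∑ a : T, Fintype.card (MulAction.fixedBy (Fin 4060) a) = Nat.card T := by
    rw [← hsum]
    refine Finset.sum_congr rfl fun t _ => ?_
    rw [Nat.card_eq_fintype_card]
    exact Fintype.card_congr (Equiv.refl _)
  rw [hB2, Nat.card_eq_fintype_card] at hB
  have hq : Fintype.card (Quotient (MulAction.orbitRel T (Fin 4060))) = 1 := by
    have h3 : 0 < Fintype.card T := Fintype.card_pos
    exact Nat.eq_of_mul_eq_mul_right h3 (by rw [one_mul]; exact hB.symm)
  have hss : Subsingleton (Quotient (MulAction.orbitRel T (Fin 4060))) := (Fintype.card_le_one_iff_subsingleton).1 hq.le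
  have horb : MulAction.orbit T (0 : Fin 4060) = Set.univ := by
    rw [Set.eq_univ_iff_forall]
    intro x
    have h3 : (Quotient.mk (MulAction.orbitRel T (Fin 4060)) x) = Quotient.mk _ 0 := Subsingleton.elim _ _
    exact (Quotient.exact h3)
  have h4 := MulAction.index_stabilizer T (0 : Fin 4060)
  rw [horb, Set.ncard_univ, Nat.card_eq_fintype_card, Fintype.card_fin] at h4
  have h5 := Subgroup.index_dvd_card (MulAction.stabilizer T (0 : Fin 4060))
  rw [h4] at h5
  exact h5

end Cfsg.Agent.H915.S8.RuTrans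
end

-- part: H915/S8/FrobOf
section
/-!
# A Frobenius subgroup from the local data (helper915, S4908)
-/

set_option autoImplicit false
set_option linter.unusedSectionVars false

universe u v

namespace Cfsg.Agent.H915.S8

open Subgroup Cfsg Cfsg.Agent.H704.S8

variable {G : Type u} [Group G]

/-- `FrobRow` from the bound for the subgroups of order divisible by `p` or `q` -/
theorem frobRow_of [Finite G] {c p q : ℕ} (hp : p.Prime) (hq : q.Prime) (hpn : p ∣ Nat.card G)
    (hN : ∀ R : Subgroup G, Nat.card R = p → q ∣ Nat.card (normalizer (R : Set G)) ∧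
      ¬ q ∣ Nat.card (centralizer (R : Set G)))
    (hT : ∀ T : Subgroup G, T ≠ ⊤ → (p ∣ Nat.card T ∨ q ∣ Nat.card T) →
      c * (Nat.card T * Nat.card (ConjClasses T)) ≤ Nat.card G) (D : Set ℕ) : FrobRow c D G := by
  have : Fact p.Prime := ⟨hp⟩
  have : Fact q.Prime := ⟨hq⟩
  obtain ⟨y, hy⟩ := exists_prime_orderOf_dvd_card' (G := G) p hpn
  have hP : Nat.card (zpowers y : Subgroup G) = p := by rw [Nat.card_zpowers, hy]
  obtain ⟨hNq, hCq⟩ := hN _ hP
  obtain ⟨w, hw⟩ := exists_prime_orderOf_dvd_card' (G := normalizer ((zpowers y : Subgroup G) : Set G)) q hNq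
  have hw' : orderOf (w : G) = q := by rw [Subgroup.orderOf_coe, hw]
  have hQ : Nat.card (zpowers (w : G) : Subgroup G) = q := by rw [Nat.card_zpowers, hw']
  refine ⟨zpowers y, zpowers (w : G), by rw [hP]; exact hp, ?_, ?_, ?_, ?_⟩
  · rw [zpowers_le]
    exact w.2
  · intro u hu g hg hgu
    by_contra hcon
    push Not at hcon
    obtain ⟨hu1, hg1⟩ := hcon
    apply hCq
    have h1 : zpowers u = zpowers y := by
      apply Subgroup.eq_of_le_of_card_ge (zpowers_le.2 hu)
      rw [hP, Nat.card_zpowers]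
      refine Nat.le_of_dvd (orderOf_pos u) ?_
      rcases (Nat.dvd_prime hp).1 (hP ▸ (Nat.card_zpowers u ▸ Subgroup.card_dvd_of_le (zpowers_le.2 hu))) with h | h
      · exact absurd (orderOf_eq_one_iff.1 h) hu1
      · rw [h]
    have h2 : g ∈ centralizer ((zpowers y : Subgroup G) : Set G) := by
      rw [← h1, mem_centralizer_iff]
      intro x hx
      obtain ⟨k, rfl⟩ := mem_zpowers_iff.1 hx
      exact ((show Commute g u from hgu).zpow_right k).symm
    have h3 : orderOf g = q := by
      rcases (Nat.dvd_prime hq).1 (hQ ▸ (Nat.card_zpowers g ▸ Subgroup.card_dvd_of_le (zpowers_le.2 hg))) with h | h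
      · exact absurd (orderOf_eq_one_iff.1 h) hg1
      · exact h
    rw [← h3, ← Subgroup.orderOf_mk g h2]
    exact _root_.orderOf_dvd_natCard _
  · intro h
    rw [h, Subgroup.card_bot] at hQ
    exact hq.one_lt.ne hQ
  · intro T hT1 hPQ _
    refine hT T hT1 ?_
    rcases hPQ with h | h
    · exact Or.inl (hP ▸ Subgroup.card_dvd_of_le h)
    · exact Or.inr (hQ ▸ Subgroup.card_dvd_of_le h)

/-- transport -/
theorem frobRow_congr {X : Type u} {Y : Type v} [Group X] [Group Y] (e : X ≃* Y) {c : ℕ} {D : Set ℕ}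
    (h : FrobRow c D Y) : FrobRow c D X := by
  obtain ⟨P, Q, hP, hPQ, hfr, hQ, hT⟩ := h
  have hc : ∀ A : Subgroup Y, Nat.card (A.map e.symm.toMonoidHom) = Nat.card A := fun A =>
    card_map_of_injective e.symm.injective
  refine ⟨P.map e.symm.toMonoidHom, Q.map e.symm.toMonoidHom, by rwa [hc], ?_, ?_, ?_, ?_⟩
  · rintro _ ⟨g, hg, rfl⟩
    rw [mem_normalizer_iff]
    intro x
    have h1 := mem_normalizer_iff.1 (hPQ hg) (e x)
    have key : ∀ z : X, z ∈ P.map e.symm.toMonoidHom ↔ e z ∈ P := by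
      intro z
      constructor
      · rintro ⟨a, ha, rfl⟩
        show e (e.symm a) ∈ P
        rwa [e.apply_symm_apply]
      · intro hz
        exact ⟨e z, hz, e.symm_apply_apply z⟩
    rw [key, key, h1]
    have : e (e.symm.toMonoidHom g * x * (e.symm.toMonoidHom g)⁻¹) = g * e x * g⁻¹ := by
      show e (e.symm g * x * (e.symm g)⁻¹) = _
      rw [map_mul, map_mul, map_inv, e.apply_symm_apply]
    rw [this]
  · rintro _ ⟨u, hu, rfl⟩ _ ⟨g, hg, rfl⟩ hgu
    have h1 : g * u = u * g := by
      apply e.symm.injective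
      rw [map_mul, map_mul]
      exact hgu
    rcases hfr u hu g hg h1 with h2 | h2
    · left; rw [h2]; exact map_one _
    · right; rw [h2]; exact map_one _
  · intro h
    apply hQ
    exact (Subgroup.map_eq_bot_iff_of_injective _ e.symm.injective).1 h
  · intro T hT1 hPQ' hd
    have hTc : Nat.card (T.map e.toMonoidHom) = Nat.card T := card_map_of_injective e.injective
    let f : T ≃* T.map e.toMonoidHom := T.equivMapOfInjective _ e.injective
    have hk : Nat.card (ConjClasses T) = Nat.card (ConjClasses (T.map e.toMonoidHom)) := by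
      refine Nat.card_congr ⟨ConjClasses.map f.toMonoidHom, ConjClasses.map f.symm.toMonoidHom, ?_, ?_⟩
      · intro c
        obtain ⟨g, rfl⟩ := ConjClasses.exists_rep c
        exact congrArg ConjClasses.mk (f.symm_apply_apply g)
      · intro c
        obtain ⟨g, rfl⟩ := ConjClasses.exists_rep c
        exact congrArg ConjClasses.mk (f.apply_symm_apply g)
    have hi : (T.map e.toMonoidHom).index = T.index := by
      exact Subgroup.index_map_equiv T e
    have hle : ∀ A : Subgroup Y, A.map e.symm.toMonoidHom ≤ T → A ≤ T.map e.toMonoidHom := by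
      intro A hA a ha
      exact ⟨e.symm a, hA ⟨a, ha, rfl⟩, e.apply_symm_apply a⟩
    have := hT (T.map e.toMonoidHom) (by
      intro h
      apply hT1
      rw [← Subgroup.index_eq_one, ← hi, h, Subgroup.index_top]) (hPQ'.imp (hle P) (hle Q)) (by rwa [hi])
    rw [hTc, ← hk, Nat.card_congr e.toEquiv.symm] at this
    exact this

end Cfsg.Agent.H915.S8
end

-- part: H915/S8/RuFrob
section
/-!
# S4908: the row FROB of the Rudvalis group (helper915)

The Frobenius group is `29 : 7`. For a proper subgroup `T` of order divisible by 29 or 7: index at least 21537 by the bound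
of helper740; index 145, 290, 580: `T` is transitive on the 4060 points; 1131, 1885, 2262, 3770, 4524: a large normal
2-subgroup on which a Sylow 5-subgroup acts faithfully; the six other orders by helper755's bound of the class number.
-/

set_option autoImplicit false
set_option maxRecDepth 100000
set_option exponentiation.threshold 5000

namespace Cfsg.Agent.H915.S8.RuFrob

open Subgroup Cfsg Cfsg.Agent.SporadicB Cfsg.Agent.H940 Cfsg.Agent.H940.Eng Cfsg.Agent.H940.Eng.D Cfsg.Agent.OrdDiv
open Cfsg.Agent.H148.Ru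

/-- the indices, divided by 29, of the subgroups of order divisible by 7 and not by 29 -/
def lD7 : List (ℕ × ℕ) := [(2, 14), (3, 3), (5, 3), (13, 1)]

def L : List ℕ := [145, 290, 580, 1131, 1885, 2262, 3770, 4524, 3625, 7540, 9048, 11600, 15080, 18096]

def locA : List LD := [⟨13, 52, [(2, 4), (3, 1), (13, 1)]⟩, ⟨7, 28, [(2, 3), (3, 1), (7, 1)]⟩]
def locB : List LD := [⟨29, 29, [(2, 1), (7, 1), (29, 1)]⟩]

noncomputable def chkI : Bool := (divsT lD7).all fun d => Nat.ble 743 d || (L.any (fun x => Nat.beq x (29 * d)) ||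
  bad l_ru n_ru [] 0 locA o_ru (n_ru / (29 * d)))

theorem chkI_ok : chkI = true := by decide +kernel

/-- the indices of the subgroups of order divisible by 29 -/
def lD29 : List (ℕ × ℕ) := [(2, 14), (3, 3), (5, 3), (7, 1), (13, 1)]

noncomputable def chkJ : Bool := (divsT lD29).all fun d => Nat.ble 21537 d || (Nat.beq d 1 ||
  bad l_ru n_ru [] 0 locB o_ru (n_ru / d))

theorem chkJ_ok : chkJ = true := by decide +kernel

theorem card' : Nat.card RuOrder.H = 145926144000 := RuOrder.card_H

theorem div_index (T : Subgroup RuOrder.H) : n_ru / T.index = Nat.card T := by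
  have := H148.Ru.fin
  have h1 := card_mul_index T
  rw [card'] at h1
  change 145926144000 / T.index = _
  rw [← h1]
  exact Nat.mul_div_cancel _ (Nat.pos_of_ne_zero index_ne_zero_of_finite)

theorem index_dvd_of (T : Subgroup RuOrder.H) {r m : ℕ} (hr : r ∣ Nat.card T) (h : 145926144000 = r * m) (h0 : 0 < r) :
    T.index ∣ m := by
  obtain ⟨z, hz⟩ := hr
  have h1 := card_mul_index T
  rw [card', hz, h] at h1
  have h2 : z * T.index = m := Nat.eq_of_mul_eq_mul_left h0 (by rw [← h1]; ring)
  exact ⟨z, by rw [← h2]; ring⟩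

theorem prime_list {l : List (ℕ × ℕ)} (h : (l.all fun x => isPrimeB x.1) = true) : ∀ x ∈ l, (x.1).Prime := fun x hx =>
  prime_of (List.all_eq_true.1 h x hx)

theorem locA_ok (B : Base) : ∀ ld ∈ locA, Loc RuOrder.H ld := by
  intro ld hld
  apply (ctx B).loc
  simp only [locA, loc, List.mem_cons, List.not_mem_nil, or_false] at hld ⊢
  rcases hld with rfl | rfl
  · exact Or.inr (Or.inl rfl)
  · exact Or.inl rfl

theorem locB_ok (B : Base) : ∀ ld ∈ locB, Loc RuOrder.H ld := by
  intro ld hld
  apply (ctx B).loc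
  simp only [locB, loc, List.mem_cons, List.not_mem_nil, or_false] at hld ⊢
  exact Or.inr (Or.inr hld)

theorem index7 (B : Base) {T : Subgroup RuOrder.H} (hT : T ≠ ⊤) (h : 7 ∣ Nat.card T) (h29 : ¬ 29 ∣ Nat.card T) :
    21537 ≤ T.index ∨ T.index ∈ L := by
  have c := ctx B
  have := c.fin
  have := c.simple
  have hd : T.index ∣ 29 * prodl lD7 := index_dvd_of T h (by decide +kernel) (by norm_num)
  have h9 : 29 ∣ T.index := by
    have h1 : 29 ∣ Nat.card T * T.index := by rw [card_mul_index, card']; norm_num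
    exact ((Nat.Prime.dvd_mul (by norm_num)).1 h1).resolve_left h29
  obtain ⟨d, hdd⟩ := h9
  have hd' : d ∣ prodl lD7 := by
    rw [hdd] at hd
    exact Nat.dvd_of_mul_dvd_mul_left (by norm_num) hd
  have h1 := List.all_eq_true.1 chkI_ok _ (mem_divsT (prime_list (l := lD7) (by decide +kernel)) hd')
  rw [Bool.or_eq_true, Bool.or_eq_true, ← hdd, div_index,
    not_bad c.val c.card c.ords (locA_ok B) (fun p hp => absurd hp List.not_mem_nil) hT, Nat.ble_eq] at h1
  rcases h1 with h1 | h1 | h1
  · left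
    rw [hdd]
    omega
  · obtain ⟨x, hx, hx2⟩ := List.any_eq_true.1 h1
    rw [← Nat.eq_of_beq_eq_true hx2]
    exact Or.inr hx
  · exact absurd h1 (by decide)

theorem index29 (B : Base) {T : Subgroup RuOrder.H} (hT : T ≠ ⊤) (h : 29 ∣ Nat.card T) : 21537 ≤ T.index := by
  have c := ctx B
  have := c.fin
  have := c.simple
  have hd : T.index ∣ prodl lD29 := index_dvd_of T h (by decide +kernel) (by norm_num)
  have h1 := List.all_eq_true.1 chkJ_ok _ (mem_divsT (prime_list (l := lD29) (by decide +kernel)) hd)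
  rw [Bool.or_eq_true, Bool.or_eq_true, div_index,
    not_bad c.val c.card c.ords (locB_ok B) (fun p hp => absurd hp List.not_mem_nil) hT, Nat.ble_eq] at h1
  rcases h1 with h1 | h1 | h1
  · exact h1
  · exact absurd (index_eq_one.1 (Nat.eq_of_beq_eq_true h1)) hT
  · exact absurd h1 (by decide)

/-- subgroups of large index -/
theorem large {T : Subgroup RuOrder.H} (h : 21537 ≤ T.index) :
    1 * (Nat.card T * Nat.card (ConjClasses T)) ≤ Nat.card RuOrder.H := by
  have := H148.Ru.fin
  refine H740.S8.Comm.bound T (M := 245760) (C := 7680) (R := 382002) (fun g hg _ => RuCent.inv_le g hg)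
    (fun g hg => RuCent.le_of_sq g hg) (by norm_num) (by rw [card']; norm_num) ?_
  have h1 := card_mul_index T
  rw [card'] at h1
  have h2 : Nat.card T ≤ 6775602 := by
    by_contra hlt
    push Not at hlt
    have h3 : 6775603 * 21537 ≤ Nat.card T * T.index := Nat.mul_le_mul hlt h
    rw [h1] at h3
    norm_num at h3
  omega

theorem cent_sub {G : Type*} [Group G] [Finite G] (T : Subgroup G) (z : T) :
    Nat.card (centralizer ({z} : Set T)) ∣ Nat.card (centralizer ({(z : G)} : Set G)) := by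
  have h3 : (centralizer ({z} : Set T)).map T.subtype ≤ centralizer ({(z : G)} : Set G) := by
    rintro _ ⟨a, ha, rfl⟩
    rw [mem_centralizer_singleton_iff]
    exact congrArg Subtype.val (mem_centralizer_singleton_iff.1 ha)
  rw [← card_map_of_injective T.subtype_injective]
  exact card_dvd_of_le h3

theorem loc7 (B : Base) : Loc RuOrder.H ⟨7, 28, [(2, 3), (3, 1), (7, 1)]⟩ := (ctx B).loc _ (by simp [loc])

theorem c7 (B : Base) (z : RuOrder.H) (hz : orderOf z = 7) : Nat.card (centralizer ({z} : Set RuOrder.H)) ∣ 28 := by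
  have h1 := (loc7 B).2.2.2 (zpowers z) (by rw [Nat.card_zpowers, hz])
  rw [cent_eq rfl] at h1
  exact h1.1

theorem c13 (z : RuOrder.H) (hz : orderOf z = 13) : Nat.card (centralizer ({z} : Set RuOrder.H)) ≤ 52 :=
  Nat.le_of_dvd (by norm_num) (H436.TwoRu.cent13 z hz)

theorem card_of_index {T : Subgroup RuOrder.H} {i m : ℕ} (h : T.index = i) (hm : 145926144000 = m * i) (hi : 0 < i) :
    Nat.card T = m := by
  have h1 := card_mul_index T
  rw [card', h, hm] at h1
  exact Nat.eq_of_mul_eq_mul_right hi h1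

/-- `k` is in the list for all decompositions -/
noncomputable def chkK (M : ℕ) (A : List ℕ) : Bool :=
  (7 :: o_ru).all fun s => s % 7 != 0 || (divsT [(2, 3), (3, 1), (7, 1)]).all fun t =>
    !(Nat.beq M (M / (s * t) * s * t)) || (!(pc l_ru 7 28 (M / (s * t))) ||
      (!(nuc (divsT [(2, 3), (3, 1), (7, 1)]) 7 168 s t) || A.any fun x => Nat.beq x (M / (s * t))))

theorem kill' (B : Base) {T : Subgroup RuOrder.H} {M : ℕ} {A : List ℕ} {e b : ℕ} (hM : Nat.card T = M)
    (hA : ∀ x ∈ A, ∃ a, x = 2 ^ a ∧ 3 ≤ a ∧ a ≤ b) (h7 : 7 ∣ M) (h5 : 5 ^ e ∣ M)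
    (hno : ∀ d ≤ b, ¬ 5 ^ e ∣ ∏ i : Fin d, (2 ^ d - 2 ^ (i : ℕ))) (hc : chkK M A = true) : False := by
  have c := ctx B
  have := c.fin
  obtain ⟨K, hKn, hmax, s, t, e1, e2, e3, e4, e5, e6, e7, e8⟩ := struct_subK c.val c.card c.ords (loc7 B) (H := T) (by
    rw [hM]; exact h7)
  have hkn : Nat.card K ∣ n_ru := by
    refine (card_subgroup_dvd_card K).trans ?_
    rw [← c.card]
    exact card_subgroup_dvd_card T
  have e8' : nuc (divsT [(2, 3), (3, 1), (7, 1)]) 7 168 s t = true := e8
  have e4' : (s % 7 != 0) = false := by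
    rw [bne_eq_false_iff_eq]
    exact Nat.mod_eq_zero_of_dvd e4
  have hk : M / (s * t) = Nat.card K := by
    have h0 : 0 < Nat.card K * (s * t) := by rw [← mul_assoc, ← e1]; exact Nat.card_pos
    rw [← hM, e1, mul_assoc]
    exact Nat.mul_div_cancel _ (Nat.pos_of_mul_pos_left h0)
  have h0 := List.all_eq_true.1 hc s e3
  rw [e4', Bool.false_or] at h0
  have h1 := List.all_eq_true.1 h0 t e5
  rw [hk, Bool.or_eq_true, Bool.or_eq_true, e8', Bool.or_eq_true] at h1
  have hpc : pc l_ru 7 28 (Nat.card K) = true := by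
    unfold pc
    rw [List.all_eq_true]
    intro x hx
    rw [val_le c.val hkn x hx]
    exact e7 _ (valid_prime c.val x hx)
  rcases h1 with h1 | h1 | h1 | h1
  · rw [← hM, e1, Nat.beq_refl] at h1
    exact absurd h1 (by decide)
  · rw [hpc] at h1
    exact absurd h1 (by decide)
  · exact absurd h1 (by decide)
  · obtain ⟨x, hx, hx2⟩ := List.any_eq_true.1 h1
    obtain ⟨a, ha, ha3, hab⟩ := hA x hx
    have hK : Nat.card K = 2 ^ a := by rw [← Nat.eq_of_beq_eq_true hx2]; exact ha
    refine kill K hmax hK ha3 (fun z hz => (cent_sub T z).trans (c7 B z (by rw [Subgroup.orderOf_coe]; exact hz)))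
      (e := e) (by rw [hM]; exact h5) (fun d hd => hno d (hd.trans hab))

def A7 : List ℕ := [16, 32, 64, 128]
def A10 : List ℕ := [32, 64, 128, 256, 512, 1024]

theorem hA7 : ∀ x ∈ A7, ∃ a, x = 2 ^ a ∧ 3 ≤ a ∧ a ≤ 7 := by
  intro x hx
  simp only [A7, List.mem_cons, List.not_mem_nil, or_false] at hx
  rcases hx with rfl | rfl | rfl | rfl
  · exact ⟨4, by norm_num, by norm_num, by norm_num⟩
  · exact ⟨5, by norm_num, by norm_num, by norm_num⟩
  · exact ⟨6, by norm_num, by norm_num, by norm_num⟩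
  · exact ⟨7, by norm_num, by norm_num, by norm_num⟩

theorem hA10 : ∀ x ∈ A10, ∃ a, x = 2 ^ a ∧ 3 ≤ a ∧ a ≤ 10 := by
  intro x hx
  simp only [A10, List.mem_cons, List.not_mem_nil, or_false] at hx
  rcases hx with rfl | rfl | rfl | rfl | rfl | rfl
  · exact ⟨5, by norm_num, by norm_num, by norm_num⟩
  · exact ⟨6, by norm_num, by norm_num, by norm_num⟩
  · exact ⟨7, by norm_num, by norm_num, by norm_num⟩
  · exact ⟨8, by norm_num, by norm_num, by norm_num⟩
  · exact ⟨9, by norm_num, by norm_num, by norm_num⟩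
  · exact ⟨10, by norm_num, by norm_num, by norm_num⟩

/-- subgroups of small index -/
theorem small {T : Subgroup RuOrder.H} (h : T.index < 783) (h29 : ¬ 29 ∣ Nat.card T) : False :=
  h29 ((show 29 ∣ 4060 by norm_num).trans (RuTrans.dvd_of_index T h))

theorem exists_z {T : Subgroup RuOrder.H} {p : ℕ} (hp : p.Prime) (h : p ∣ Nat.card T) {c : ℕ}
    (hc : ∀ z : RuOrder.H, orderOf z = p → Nat.card (centralizer ({z} : Set RuOrder.H)) ≤ c) :
    ∃ z : T, orderOf z = p ∧ Nat.card (centralizer ({z} : Set T)) ≤ c := by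
  have := H148.Ru.fin
  have : Fact p.Prime := ⟨hp⟩
  obtain ⟨z, hz⟩ := exists_prime_orderOf_dvd_card' (G := T) p h
  exact ⟨z, hz, (Nat.le_of_dvd Nat.card_pos (cent_sub T z)).trans (hc z (by rw [Subgroup.orderOf_coe]; exact hz))⟩

/-- the bounds -/
def cc (p : ℕ) : ℕ := if p = 3 then 2160 else if p = 5 then 1000 else if p = 7 then 28 else 52

theorem class_le (B : Base) {T : Subgroup RuOrder.H} (s : Finset ℕ) (hs : s ⊆ {3, 5, 7, 13}) (hd : ∀ p ∈ s, p ∣ Nat.card T) :
    Nat.card (ConjClasses T) ≤ ∑ p ∈ s, cc p + Nat.card T / (∏ p ∈ s, p) ^ 2 := by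
  have := H148.Ru.fin
  refine H755.S8.card_conj_le s ?_ cc ?_
  · intro p hp
    have h1 := hs hp
    simp only [Finset.mem_insert, Finset.mem_singleton] at h1
    rcases h1 with rfl | rfl | rfl | rfl <;> norm_num
  · intro p hp
    have h1 := hs hp
    have h2 := hd p hp
    simp only [Finset.mem_insert, Finset.mem_singleton] at h1
    rcases h1 with rfl | rfl | rfl | rfl
    · exact exists_z (by norm_num) h2 (fun z hz => RuCent.c3 z hz)
    · exact exists_z (by norm_num) h2 (fun z hz => RuCent.c5 z hz)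
    · exact exists_z (by norm_num) h2 (fun z hz => Nat.le_of_dvd (show 0 < 28 by norm_num) (c7 B z hz))
    · exact exists_z (by norm_num) h2 (fun z hz => c13 z hz)

theorem by_class (B : Base) {T : Subgroup RuOrder.H} {i m : ℕ} (hi : T.index = i) (hm : 145926144000 = m * i) (h0 : 0 < i)
    (s : Finset ℕ) (hs : s ⊆ {3, 5, 7, 13}) (hd : ∀ p ∈ s, p ∣ m) (hb : ∑ p ∈ s, cc p + m / (∏ p ∈ s, p) ^ 2 ≤ i) :
    1 * (Nat.card T * Nat.card (ConjClasses T)) ≤ Nat.card RuOrder.H := by
  have h1 := card_of_index hi hm h0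
  have h2 := class_le B (T := T) s hs (by rw [h1]; exact hd)
  rw [h1] at h2
  rw [one_mul, h1, card', hm]
  exact Nat.mul_le_mul_left _ (h2.trans hb)

set_option maxHeartbeats 4000000 in
theorem bound (B : Base) {T : Subgroup RuOrder.H} (hT : T ≠ ⊤) (h : 29 ∣ Nat.card T ∨ 7 ∣ Nat.card T) :
    1 * (Nat.card T * Nat.card (ConjClasses T)) ≤ Nat.card RuOrder.H := by
  by_cases h29 : 29 ∣ Nat.card T
  · exact large (index29 B hT h29)
  · have h7 := h.resolve_left h29
    rcases index7 B hT h7 h29 with h1 | h1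
    · exact large h1
    · simp only [L, List.mem_cons, List.not_mem_nil, or_false] at h1
      rcases h1 with h1 | h1 | h1 | h1 | h1 | h1 | h1 | h1 | h1 | h1 | h1 | h1 | h1 | h1
      · exact (small (by omega) h29).elim
      · exact (small (by omega) h29).elim
      · exact (small (by omega) h29).elim
      · exact (kill' B (card_of_index h1 (m := 129024000) (by norm_num) (by norm_num))
          hA10 (by norm_num) (e := 3) (by norm_num) no125
          (by decide +kernel)).elim
      · exact (kill' B (card_of_index h1 (m := 77414400) (by norm_num) (by norm_num))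
          hA7 (by norm_num) (e := 2) (by norm_num) no25
          (by decide +kernel)).elim
      · exact (kill' B (card_of_index h1 (m := 64512000) (by norm_num) (by norm_num))
          hA10 (by norm_num) (e := 3) (by norm_num) no125
          (by decide +kernel)).elim
      · exact (kill' B (card_of_index h1 (m := 38707200) (by norm_num) (by norm_num))
          hA7 (by norm_num) (e := 2) (by norm_num) no25
          (by decide +kernel)).elim
      · exact (kill' B (card_of_index h1 (m := 32256000) (by norm_num) (by norm_num))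
          hA10 (by norm_num) (e := 3) (by norm_num) no125
          (by decide +kernel)).elim
      · exact by_class B h1 (m := 40255488) (by norm_num) (by norm_num) {3, 7, 13} (by decide) (by decide) (by decide)
      · exact by_class B h1 (m := 19353600) (by norm_num) (by norm_num) {3, 5, 7} (by decide) (by decide) (by decide)
      · exact by_class B h1 (m := 16128000) (by norm_num) (by norm_num) {3, 5, 7} (by decide) (by decide) (by decide)
      · exact by_class B h1 (m := 12579840) (by norm_num) (by norm_num) {5, 7, 13} (by decide) (by decide) (by decide)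
      · exact by_class B h1 (m := 9676800) (by norm_num) (by norm_num) {3, 5, 7} (by decide) (by decide) (by decide)
      · exact by_class B h1 (m := 8064000) (by norm_num) (by norm_num) {3, 5, 7} (by decide) (by decide) (by decide)

theorem n29 {R : Subgroup RuOrder.H} (hR : Nat.card R = 29) : Nat.card (normalizer (R : Set RuOrder.H)) = 406 := by
  have := H148.Ru.fin
  have := H148.Ru.simple
  exact (cn_exact na H148.Ru.card (r := 29) (by decide +kernel) (by decide +kernel) (by decide +kernel) hR (cent29 hR)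
      (C := 29) (N := 406) (by decide +kernel) hR).2

theorem n29' (R : Subgroup RuOrder.H) (hR : Nat.card R = 29) : 7 ∣ Nat.card (normalizer (R : Set RuOrder.H)) ∧
    ¬ 7 ∣ Nat.card (centralizer (R : Set RuOrder.H)) := by
  constructor
  · rw [n29 hR]
    norm_num
  · intro h
    have h1 := h.trans (cent29 hR)
    have h2 : ¬ 7 ∣ prodl [(29, 1)] := by decide +kernel
    exact h2 h1

theorem frob_model (B : Base) (D : Set ℕ) : Cfsg.Agent.H704.S8.FrobRow 1 D RuOrder.H := by
  have := H148.Ru.fin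
  exact frobRow_of (p := 29) (q := 7) (by norm_num) (by norm_num) (by rw [card']; norm_num) n29'
    (fun T hT h => bound B hT h) D

/-- **S4908, the row FROB of the Rudvalis group** -/
theorem frob {X : Type*} [Group X] (h : Spor.IsoRu X) (B : Base) (D : Set ℕ) : Cfsg.Agent.H704.S8.FrobRow 1 D X := by
  obtain ⟨e⟩ := h
  exact frobRow_congr (e.trans Cfsg.Agent.RuLat.Main.equiv) (frob_model B D)

end Cfsg.Agent.H915.S8.RuFrob
end

-- part: H365/S8/RuNum
section
/-!
# S4908, row Ru: the degrees 29, 8192, 16384 do not occur (helper365)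

With `H1.S8.RuDeg`: `adm_of` : a numerical condition on the degrees of the Rudvalis group.
-/

set_option autoImplicit false
set_option maxRecDepth 100000

namespace Cfsg.Agent.H365.S8.Ru

open Cfsg Subgroup Cfsg.Agent.SporadicB Cfsg.Agent.Characters Cfsg.Agent.H489.Ore.Ru Cfsg.Agent.H1.S8.RuDeg
  Cfsg.Agent.H65.Ore

/-- the multiplicities of the characters of the four-group of `C(13)` -/
theorem split [Finite RuOrder.H] [IsSimpleGroup RuOrder.H] (χ : IrrCharacter RuOrder.H) (hχ : (χ : RuOrder.H → ℂ) ≠ 1) :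
    ∃ m₁ m₂ a b : ℕ, charDegree (χ : RuOrder.H → ℂ) = m₁ + 3 * m₂ ∧ (m₁ : ℤ) - m₂ = a - b ∧
      29 * (a + b) ≤ charDegree (χ : RuOrder.H → ℂ) + 148 ∧ okp 13 4 m₁ m₂ = true := by
  obtain ⟨a, b, hab, hab2⟩ := inv_val χ hχ
  obtain ⟨P, K, L13⟩ := loc13
  obtain ⟨m₁, m₂, e1, e2, e3⟩ := L13.cases χ
  have hdeg := cast_deg χ
  refine ⟨m₁, m₂, a, b, ?_, ?_, hab2, ?_⟩
  · rw [hdeg] at e1
    exact_mod_cast e1
  · rw [e2] at hab
    exact_mod_cast hab
  · apply ok13
    rcases e3 with h | h | h | ⟨h, δ, h', h'', -⟩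
    exacts [Or.inl h, Or.inr (Or.inl h), Or.inr (Or.inr (Or.inl h)), Or.inr (Or.inr (Or.inr ⟨h, δ, h', h''⟩))]

theorem okp_mod {m₁ m₂ : ℕ} (h : okp 13 4 m₁ m₂ = true) :
    ((m₁ % 13 = 1 ∨ m₁ % 13 = 12) ∧ m₂ % 13 = 0) ∨ (m₁ % 13 = 0 ∧ (m₂ % 13 = 0 ∨ m₂ % 13 = 1 ∨ m₂ % 13 = 12 ∨
      m₂ % 13 = 4 ∨ m₂ % 13 = 9)) := by
  simp only [okp, Bool.or_eq_true, Bool.and_eq_true, Nat.beq_eq] at h
  (clear * - h; solve | lia | omega)

/-- three degrees do not occur -/
theorem not_deg {d : ℕ} (hd : d ∈ charDegrees RuOrder.H) (h : d = 29 ∨ d = 8192 ∨ d = 16384) : False := by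
  have hfin : Finite RuOrder.H := fin_H
  have := simple_H
  obtain ⟨χ, rfl⟩ := hd
  have hne : (χ : RuOrder.H → ℂ) ≠ 1 := by
    intro h1
    have h2 : charDegree (χ : RuOrder.H → ℂ) = 1 := by
      apply Blocks.Basic.charDegree_of_eq
      rw [h1, Pi.one_apply, Nat.cast_one]
    omega
  obtain ⟨m₁, m₂, a, b, h1, h2, h3, h4⟩ := split χ hne
  generalize charDegree (χ : RuOrder.H → ℂ) = d at *
  have h5 := okp_mod h4
  rcases h with rfl | rfl | rfl
  · have h6 : m₂ ≤ 9 := by omega
    interval_cases m₂ <;> (clear * - h3 h2 h1 h5; omega)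
  · (clear * - h5 h1; solve | lia | omega)
  · (clear * - h5 h1; solve | lia | omega)

/-- the numerical condition -/
def adm (d : ℕ) : Bool :=
  Nat.beq d 1 || (Nat.beq (d % 29) 0 && !(Nat.beq d 29)) ||
    ((Nat.beq (d % 29) 1 || Nat.beq (d % 29) 28 || Nat.beq (d % 29) 14 || Nat.beq (d % 29) 15) &&
      (Nat.beq d 378 || Nat.ble 2016 d) && !(Nat.beq d 8192) && !(Nat.beq d 16384))

theorem adm_of {d : ℕ} (hd : d ∈ charDegrees RuOrder.H) : adm d = true := by
  have h1 := not_deg hd
  simp only [adm, Bool.or_eq_true, Bool.and_eq_true, Bool.not_eq_true', Nat.beq_eq, Nat.ble_eq, ← Bool.not_eq_true]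
  rcases cases hd with h | h | ⟨h, h'⟩
  · exact Or.inl (Or.inl h)
  · exact Or.inl (Or.inr ⟨h, fun h2 => h1 (Or.inl h2)⟩)
  · refine Or.inr ⟨⟨⟨?_, h'⟩, fun h2 => h1 (Or.inr (Or.inl h2))⟩, fun h2 => h1 (Or.inr (Or.inr h2))⟩
    itauto

end Cfsg.Agent.H365.S8.Ru
end

-- part: H365/S8/RuSoc
section
/-!
# S4908, the box `Ru / SOC1` (helper365, after helper701's `Ly`)

`soc1` : an almost simple group whose degrees are degrees of `Ru` has socle `Ru`.
-/

set_option autoImplicit false

namespace Cfsg.Agent.H365.S8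

open Cfsg Subgroup
open Cfsg.Agent.H691.AN (AlmostSimple)
open Cfsg.Agent.H704.S8 (Deg Soc1)
open Cfsg.Agent.H701.S8 (kill_prime kill_two lie alt)

universe u v

namespace Ru

/-- the prime powers dividing `|Ru|` -/
theorem pp : ((List.range 30).all fun p => (List.range 15).all fun k =>
    !(Nat.blt 1 p) || Nat.beq k 0 || !(Nat.beq (145926144000 % p ^ k) 0) || !(adm (p ^ k)) ||
      !([2, 3, 5, 7, 13, 29].contains p)) = true := by
  decide +kernel

theorem alts : ((List.range 11).all fun m => Nat.blt m 5 || (!(adm ((m - 1) * 1)) && !(adm ((m - 1) * 2)) &&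
    !(adm ((m - 1) * 4)))) = true := by decide +kernel

end Ru

open Ru in
/-- **The box `Ru / SOC1` of S4908.** -/
theorem soc1_ru {X : Type v} [Group X] [Finite X] (hX : Spor.IsoRu X) (D : Set ℕ) (hD : Deg 1 X D) :
    Soc1.{u} D X := by
  rcases hD with hD | ⟨h, -⟩
  swap
  · exact absurd h (by norm_num)
  have hN := NotCT.Orders.ru hX
  have hadm : ∀ d ∈ D, adm d = true := by
    intro d hd
    rw [hD] at hd
    obtain ⟨e⟩ := hX
    have e' := (e.trans Cfsg.Agent.RuLat.Main.equiv).symm
    exact adm_of (H424.DegTools.charDegrees_of_surjective e'.toMonoidHom e'.surjective hd)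
  have hdvd : ∀ d ∈ D, d ∣ 145926144000 := by
    intro d hd
    rw [hD] at hd
    rw [← hN]
    exact H424.DegTools.dvd_card hd
  intro A _ _ S hA hAD
  have hs := hA.simple
  have no : ∀ {d : ℕ}, adm d = false → d ∉ D := fun h hd => by rw [hadm _ hd] at h; exact absurd h (by decide)
  have kp : ∀ {p : ℕ}, p.Prime → ¬ p ∣ 145926144000 → p ∣ Nat.card S → False :=
    fun hp h1 h2 => kill_prime hA hAD hdvd hp h1 h2
  rcases PreUniq.known_cases (Cfsg.Agent.S0000.result (G := S)) with h | ⟨m, hm, ⟨e⟩⟩ | ⟨p, hp, h⟩ | h | h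
  · exfalso
    have : Fact (Nat.card S).Prime := ⟨h⟩
    have : IsCyclic S := isCyclic_of_prime_card (p := Nat.card S) rfl
    exact hA.nonab inferInstance
  · exfalso
    have h11 : m < 11 := by
      by_contra hcon
      refine kp (p := 11) (by norm_num) (by norm_num) ?_
      rw [Nat.card_congr e.toEquiv]
      have h1 := H548.RowAlt.card_alt (n := m) (by omega)
      have h2 : 11 ∣ m.factorial := (Nat.Prime.dvd_factorial (by norm_num)).2 (by omega)
      rw [← h1] at h2
      exact (Nat.Coprime.dvd_mul_left (by norm_num)).1 h2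
    obtain ⟨t, ht, htD⟩ := alt hA hAD hm e
    have h1 := List.all_eq_true.1 alts m (List.mem_range.2 h11)
    simp only [Bool.or_eq_true, Bool.and_eq_true, Bool.not_eq_true', Nat.blt_eq] at h1
    rcases h1 with h1 | ⟨⟨h1, h2⟩, h3⟩
    · omega
    · have h4 : t = 1 ∨ t = 2 ∨ t = 4 := by
        have h5 := Nat.le_of_dvd (by norm_num) ht
        interval_cases t <;> simp_all only [_root_.imp_false, _root_.mul_one, _root_.zero_dvd_iff, _root_.OfNat.ofNat_ne_zero, _root_.isUnit_iff_eq_one, _root_.IsUnit.dvd, _root_.Nat.reduceDvd, _root_.dvd_refl]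
      rcases h4 with rfl | rfl | rfl
      · exact no h1 htD
      · exact no h2 htD
      · exact no h3 htD
  · exfalso
    obtain ⟨k, hk, hkD⟩ := lie hA hAD hp h
    have h1 := hdvd _ hkD
    have hpL : p ∈ [2, 3, 5, 7, 13, 29] := by
      have h2 : p ∣ 145926144000 := (dvd_pow_self p hk.ne').trans h1
      rw [show 145926144000 = 2 ^ 14 * 3 ^ 3 * 5 ^ 3 * 7 * 13 * 29 by norm_num,
        hp.dvd_mul, hp.dvd_mul, hp.dvd_mul, hp.dvd_mul, hp.dvd_mul] at h2
      rcases h2 with ((((h | h) | h) | h) | h) | h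
      · rw [(Nat.prime_dvd_prime_iff_eq hp (by norm_num)).1 (hp.dvd_of_dvd_pow h)]; decide
      · rw [(Nat.prime_dvd_prime_iff_eq hp (by norm_num)).1 (hp.dvd_of_dvd_pow h)]; decide
      · rw [(Nat.prime_dvd_prime_iff_eq hp (by norm_num)).1 (hp.dvd_of_dvd_pow h)]; decide
      · rw [(Nat.prime_dvd_prime_iff_eq hp (by norm_num)).1 h]; decide
      · rw [(Nat.prime_dvd_prime_iff_eq hp (by norm_num)).1 h]; decide
      · rw [(Nat.prime_dvd_prime_iff_eq hp (by norm_num)).1 h]; decide
    have hp30 : p < 30 := by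
      simp only [List.mem_cons, List.not_mem_nil, or_false] at hpL
      omega
    have hk15 : k < 15 := by
      by_contra hcon
      have h3 : p ^ 15 ∣ 145926144000 := (pow_dvd_pow p (by omega)).trans h1
      simp only [List.mem_cons, List.not_mem_nil, or_false] at hpL
      rcases hpL with rfl | rfl | rfl | rfl | rfl | rfl <;> revert h3 <;> decide +kernel
    have h2 := List.all_eq_true.1 (List.all_eq_true.1 pp p (List.mem_range.2 hp30)) k (List.mem_range.2 hk15)
    simp only [Bool.or_eq_true, Bool.not_eq_true', Nat.beq_eq] at h2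
    rcases h2 with (((h2 | h2) | h2) | h2) | h2
    · have h3 : Nat.blt 1 p = true := by rw [Nat.blt_eq]; exact hp.one_lt
      rw [h3] at h2
      exact absurd h2 (by decide)
    · omega
    · have h3 : Nat.beq (145926144000 % p ^ k) 0 = true := by
        rw [Nat.mod_eq_zero_of_dvd h1]
        rfl
      rw [h3] at h2
      exact absurd h2 (by decide)
    · exact no h2 hkD
    · have h3 : [2, 3, 5, 7, 13, 29].contains p = true := List.contains_iff_mem.2 hpL
      rw [h3] at h2
      exact absurd h2 (by decide)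
  · exfalso
    have hi : Nat.card (Out S) ∣ 2 := by
      have h2 := H867.TitsOut.card_out_le h
      have h3 : 0 < Nat.card (Out S) := Nat.card_pos
      have h4 : Nat.card (Out S) = 1 ∨ Nat.card (Out S) = 2 := by omega
      rcases h4 with h4 | h4
      · rw [h4]; exact one_dvd 2
      · rw [h4]
    exact kill_two hA hAD hi (d := 27) (H740.Eight.Tits.mem_27 h) (no (by decide +kernel)) (no (by decide +kernel))
  · have hi := H149.Sp.card_out_dvd_two h
    have kd : ∀ {d : ℕ}, d ∈ charDegrees S → adm d = false → adm (d * 2) = false → False :=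
      fun hd h1 h2 => kill_two hA hAD hi hd (no h1) (no h2)
    rcases h with h | h | h | h | h | h | h | h | h | h | h | h | h | h | h | h | h | h | h | h | h | h | h | h | h | h
    · exact (kp (p := 11) (by norm_num) (by norm_num) (by rw [NotCT.Orders.m11 h]; norm_num)).elim
    · exact (kp (p := 11) (by norm_num) (by norm_num) (by rw [NotCT.Orders.m12 h]; norm_num)).elim
    · exact (kp (p := 11) (by norm_num) (by norm_num) (by rw [NotCT.Orders.m22 h]; norm_num)).elim
    · exact (kp (p := 23) (by norm_num) (by norm_num) (by rw [NotCT.Orders.m23 h]; norm_num)).elim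
    · exact (kp (p := 23) (by norm_num) (by norm_num) (by rw [NotCT.Orders.m24 h]; norm_num)).elim
    · exact (kp (p := 19) (by norm_num) (by norm_num) (by rw [NotCT.Orders.j1 h]; norm_num)).elim
    · exact (kd (d := 36) (H672.SporIM.j2 h).2 (by decide +kernel) (by decide +kernel)).elim
    · exact (kp (p := 17) (by norm_num) (by norm_num) (by rw [NotCT.Orders.j3 h]; norm_num)).elim
    · exact (kp (p := 43) (by norm_num) (by norm_num) (by rw [NotCT.Orders.j4 h]; norm_num)).elim
    · exact (kp (p := 11) (by norm_num) (by norm_num) (by rw [NotCT.Orders.co1 h]; norm_num)).elim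
    · exact (kp (p := 23) (by norm_num) (by norm_num) (by rw [NotCT.Orders.co2 h]; norm_num)).elim
    · exact (kp (p := 23) (by norm_num) (by norm_num) (by rw [NotCT.Orders.co3 h]; norm_num)).elim
    · exact (kp (p := 11) (by norm_num) (by norm_num) (by rw [NotCT.Orders.mcl h]; norm_num)).elim
    · exact (kp (p := 11) (by norm_num) (by norm_num) (by rw [NotCT.Orders.hs h]; norm_num)).elim
    · exact (kp (p := 11) (by norm_num) (by norm_num) (by rw [NotCT.Orders.suz h]; norm_num)).elim
    · exact (kp (p := 17) (by norm_num) (by norm_num) (by rw [NotCT.Orders.he h]; norm_num)).elim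
    · obtain ⟨e⟩ := h
      obtain ⟨f⟩ := hX
      exact ⟨e.trans f.symm⟩
    · exact (kp (p := 19) (by norm_num) (by norm_num) (by rw [NotCT.Orders.on h]; norm_num)).elim
    · exact (kp (p := 11) (by norm_num) (by norm_num) (by rw [NotCT.Orders.ly h]; norm_num)).elim
    · exact (kp (p := 11) (by norm_num) (by norm_num) (by rw [NotCT.Orders.fi22 h]; norm_num)).elim
    · exact (kp (p := 17) (by norm_num) (by norm_num) (by rw [NotCT.Orders.fi23 h]; norm_num)).elim
    · exact (kp (p := 17) (by norm_num) (by norm_num) (by rw [NotCT.Orders.fi24 h]; norm_num)).elim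
    · exact (kp (p := 19) (by norm_num) (by norm_num) (by rw [NotCT.Orders.hn h]; norm_num)).elim
    · exact (kp (p := 19) (by norm_num) (by norm_num) (by rw [NotCT.Orders.th h]; norm_num)).elim
    · exact (kp (p := 17) (by norm_num) (by norm_num) (by rw [NotCT.Orders.b h]; norm_num)).elim
    · exact (kp (p := 17) (by norm_num) (by norm_num) (by rw [NotCT.Orders.m h]; norm_num)).elim

end Cfsg.Agent.H365.S8
end

-- part: H788/S8/RuSocTwo
section
/-!
# S4908: the row SOC2 of `Ru` (helper788)
-/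

set_option autoImplicit false
set_option maxRecDepth 100000

namespace Cfsg.Agent.H788.S8.Ru

open Cfsg Cfsg.Agent.H450.S8 Cfsg.Agent.SporadicB

universe u v

/-- the test for the degrees of `Ru` -/
def pRu (d : ℕ) : Bool :=
  d == 1 || d % 29 == 0 ||
    ((d % 29 == 1 || d % 29 == 28 || d % 29 == 14 || d % 29 == 15) && (d == 378 || decide (2016 ≤ d)))

theorem pRu_of {d : ℕ} (hd : d ∈ charDegrees RuOrder.H) : pRu d = true := by
  rw [pRu]
  simp only [Bool.or_eq_true, Bool.and_eq_true, beq_iff_eq, decide_eq_true_eq]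
  rcases H1.S8.RuDeg.cases hd with h | h | ⟨h1, h2⟩
  · exact Or.inl (Or.inl h)
  · exact Or.inl (Or.inr h)
  · refine Or.inr ⟨?_, h2⟩
    rcases h1 with h | h | h | h
    · exact Or.inl (Or.inl (Or.inl h))
    · exact Or.inl (Or.inl (Or.inr h))
    · exact Or.inl (Or.inr h)
    · exact Or.inr h

/-- the numerical description of the degrees of `Ru` -/
theorem num {X : Type v} [Group X] (hX : Spor.IsoRu X) : Num (charDegrees X) 145926144000 pRu := by
  obtain ⟨e⟩ := hX
  have h : charDegrees X = charDegrees RuOrder.H := H424.DegTools.charDegrees_congr (e.trans RuLat.Main.equiv)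
  refine ⟨by norm_num, fun {d} hd => H1.S8.RuDeg.dvd_card (h ▸ hd), fun {d} hd => pRu_of (h ▸ hd)⟩

theorem test : soc2Test 145926144000 (P1 145926144000 pRu)
    [(2, 14), (3, 3), (5, 3), (7, 1), (13, 1), (29, 1)] = true := by
  decide +kernel

/-- **SOC2 for `Ru`** -/
theorem soc2 {X : Type v} [Group X] (hX : Spor.IsoRu X) {D : Set ℕ} (hD : H704.S8.Deg 1 X D) : H704.S8.Soc2.{u} D :=
  soc2_one (num hX) (by simp only [_root_.List.mem_cons, _root_.List.not_mem_nil, _root_.or_false, _root_.forall_eq_or_imp, _root_.forall_eq]; norm_num) test hD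

end Cfsg.Agent.H788.S8.Ru
end

-- part: H529/S8/RRu
section
/-!
# S4908: the row of Ru (helper529)
-/

set_option autoImplicit false

namespace Cfsg.Agent.H529.S8.Rru

open Cfsg Cfsg.Agent.H704.S8 Cfsg.Agent.H58.S8 Cfsg.Agent.H529.S8

universe u v

theorem row {X : Type v} [Group X] [Finite X] (h : IsRu X) : Row4.{u, v} 1 X := by
  refine row_of4 (mo_ru h) ?_ (fun D hD => ?_) (fun D hD => ?_) (fun D hD => ?_) (fun D hD => ?_) (fun D hD => ?_)
  · norm_num
  · exact H854.S8.Ru.solv (iso_ru h) hD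
  · exact H365.S8.soc1_ru (iso_ru h) D hD
  · exact H788.S8.Ru.soc2 (iso_ru h) hD
  · exact noNon_of_frob h.1 (by rw [h.2]; norm_num) (by norm_num) (mo_ru h) hD (H915.S8.RuFrob.frob (iso_ru h) base D)
  · exact Cover.final (H1.S8.RuCover.row (iso_ru h) D hD)

end Cfsg.Agent.H529.S8.Rru
end

private theorem dce_51c96bbb805d : _root_.True := by
  try have : _root_.True := by simp only [_root_.Cfsg.Agent.H915.S8.RuFrob.L.eq_1]
  try have : _root_.True := by simp only [_root_.Cfsg.Agent.H365.S8.Ru.adm.eq_1]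
  try have : _root_.True := by simp only [_root_.Cfsg.Agent.H915.S8.RuFrob.locA.eq_1]
  try have : _root_.True := by simp only [_root_.Cfsg.Agent.H788.S8.Ru.pRu.eq_1]
  try have : _root_.True := by simp only [_root_.Cfsg.Agent.H915.S8.RuFrob.locB.eq_1]
  try have : _root_.True := by simp only [_root_.Cfsg.Agent.H915.S8.RuFrob.A10.eq_1]
  try have : _root_.True := by simp only [_root_.Cfsg.Agent.H300.Ru.th1.eq_1]
  try have : _root_.True := by simp only [_root_.Cfsg.Agent.H300.Ru.v2.eq_1]
  try have : _root_.True := by simp only [_root_.Cfsg.Agent.H915.S8.RuFrob.A7.eq_1]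
  exact _root_.True.intro
end

-- part: H450/S8/RowSuz
section
set_option linter.all false

/-!
# SOC2 of S4908 for the Suzuki group (helper450 and helper952)
-/

set_option autoImplicit false

namespace Cfsg.Agent.H450.S8.Suz

open Cfsg Cfsg.Agent.H450.S8

universe u v

theorem test : soc2Test (2 * 448345497600) (P2 448345497600 (okDeg 110 [(13, 6)]))
    [(2, 14), (3, 7), (5, 2), (7, 1), (11, 1), (13, 1)] = true := by
  decide +kernel

theorem soc2 {X : Type v} [Group X] [Finite X] (hX : Spor.IsoSuz X) {D : Set ℕ} (hD : H704.S8.Deg 2 X D) :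
    H704.S8.Soc2.{u} D :=
  soc2_two (H952.S8.Suz.num hX) (H952.S8.Suz.index_le hX) (by simp; norm_num) test hD

end Cfsg.Agent.H450.S8.Suz
end

-- part: H62/S8/ONOut
section
set_option linter.all false
open scoped Cfsg.Agent.FastGrp

/-!
# S4908, the O'Nan group: the OUT row (helper62)

`out_on` : `OutRow3 2 X` for `X` isomorphic to the O'Nan group: an outer automorphism inverts an element of order 31, with
centralizer of order 31 and automizer of order 15.
-/

set_option autoImplicit false

namespace Cfsg.Agent.H62.S8.ONOut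

open Cfsg Subgroup Cfsg.Agent.H704.S8
open Cfsg.Spor (ON)
open Cfsg.Agent.KFacts.ON.Cent (hON finite_ON)
open Cfsg.Agent.H62.S8.ONWord

universe u v

theorem index_le : (MulAut.conj : ON →* MulAut ON).range.index ≤ 2 :=
  (show (MulAut.conj : ON →* MulAut ON).range.index = 2 from Cfsg.Agent.S2078.result).le

theorem not_comm : ¬ IsMulCommutative ON := by
  intro h
  have hs := hON.1
  have h1 := (Group.is_simple_iff_prime_card (α := ON)).1 hs
  rw [hON.2] at h1
  exact absurd h1 (by norm_num)

theorem ne_model : charDegrees ON ≠ charDegrees (MulAut ON) := by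
  have := finite_ON
  have hs : IsSimpleGroup ON := hON.1
  have hx := order_xx hON.1
  obtain ⟨h1, h2⟩ := H210.On7.thirtyone hx
  obtain ⟨h3, h4⟩ := HalfPow.half (by norm_num : Nat.Prime 31) hx (by decide : Odd 15) h2 (by norm_num)
  refine InvDeg.ne_of_inverted (H515.S8.conj_injective not_comm) index_le (by norm_num : Nat.Prime 31) (by norm_num) hx h1
    h3 h4 (UGT.C.BalON.bt hON) ?_
  rw [bt_xx hON]

/-- **the OUT row of the O'Nan group** -/
theorem out_iso {X : Type v} [Group X] (h : Spor.IsoON X) : OutRow3 2 X := by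
  obtain ⟨e⟩ := h
  refine ⟨by rw [H498.SporOut.index_congr e]; exact index_le, fun _ => ?_⟩
  rw [H424.DegTools.charDegrees_congr e, H424.DegTools.charDegrees_congr (MulAut.congr e)]
  exact ne_model

end Cfsg.Agent.H62.S8.ONOut
end

-- part: H788/S8/HNSocTwo
section
set_option linter.all false
open scoped Cfsg.Agent.FastGrp

/-!
# S4908: the row SOC2 of `HN` (helper788)
-/

set_option autoImplicit false
set_option maxRecDepth 100000

namespace Cfsg.Agent.H788.S8.HN

open Cfsg Cfsg.Agent.H450.S8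

universe u v

theorem deg {d : ℕ} (hd : d ∈ charDegrees Spor.HN) : d ∣ 273030912000000 ∧ okDeg 133 [(19, 9)] d = true := by
  have hfin := Cfsg.Agent.H710.Spor.HN.finite_hn
  have hs : IsSimpleGroup Spor.HN := Cfsg.Agent.S1701.result.1
  have : Finite (IrrCharacter Spor.HN) := Characters.Core.finite_irr
  have := Fintype.ofFinite (IrrCharacter Spor.HN)
  obtain ⟨χ, rfl⟩ := hd
  refine ⟨by rw [← H175.Ore.HNDeg.card_hn]; exact H511.Ore.charDegree_dvd χ, ?_⟩
  have h1 : charDegree (χ : Spor.HN → ℂ) = 1 ∨ 133 ≤ charDegree (χ : Spor.HN → ℂ) := by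
    by_cases h1 : (χ : Spor.HN → ℂ) = 1
    · left
      apply Blocks.Basic.charDegree_of_eq
      rw [h1, Pi.one_apply, Nat.cast_one]
    · rcases H175.Ore.HNDeg.deg_cases h1 with h | h | h <;> omega
  have : Fact (Nat.Prime 19) := ⟨by norm_num⟩
  obtain ⟨y, hy⟩ := Cfsg.Agent.H315.PwHN.exists19
  obtain ⟨Q, W, -, -, -, hcol⟩ := Cfsg.Agent.H653.Sieve.exists_col H175.Ore.HNDeg.not_comm (N := 273030912000000)
    H175.Ore.HNDeg.card_hn hy (k := 1) (by rw [Cfsg.Agent.H315.PwHN.card_nineteen hy]) 9 2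
    [(0, 0), (1, 2), (18, -2), (9, -1), (10, 1)] 0 false (by decide +kernel)
  have h := hcol.1 χ
  simp only [List.mem_cons, Prod.mk.injEq, List.not_mem_nil, or_false] at h
  have h2 : charDegree (χ : Spor.HN → ℂ) % 19 = 0 ∨ charDegree (χ : Spor.HN → ℂ) % 19 = 1 ∨
      charDegree (χ : Spor.HN → ℂ) % 19 = 18 ∨ charDegree (χ : Spor.HN → ℂ) % 19 = 9 ∨
      charDegree (χ : Spor.HN → ℂ) % 19 = 10 := by
    rcases h with h | h | h | h | h
    · exact Or.inl h.1
    · exact Or.inr (Or.inl h.1)
    · exact Or.inr (Or.inr (Or.inl h.1))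
    · exact Or.inr (Or.inr (Or.inr (Or.inl h.1)))
    · exact Or.inr (Or.inr (Or.inr (Or.inr h.1)))
  rw [okDeg, Bool.and_eq_true]
  refine ⟨?_, ?_⟩
  · rw [Bool.or_eq_true, decide_eq_true_eq, beq_iff_eq]
    exact h1
  · rw [List.all_eq_true]
    intro x hx
    rw [List.mem_singleton] at hx
    subst hx
    rcases h2 with h | h | h | h | h <;> rw [h] <;> decide

/-- the numerical description of the degrees of `HN` -/
theorem num {X : Type v} [Group X] (hX : Spor.IsoHN X) :
    Num (charDegrees X) 273030912000000 (okDeg 133 [(19, 9)]) := by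
  obtain ⟨e⟩ := hX
  have h : charDegrees X = charDegrees Spor.HN := H424.DegTools.charDegrees_congr e
  exact ⟨by norm_num, fun {d} hd => (deg (h ▸ hd)).1, fun {d} hd => (deg (h ▸ hd)).2⟩

theorem test : soc2Test (2 * 273030912000000) (P2 273030912000000 (okDeg 133 [(19, 9)]))
    [(2, 15), (3, 6), (5, 6), (7, 1), (11, 1), (19, 1)] = true := by
  decide +kernel

theorem index_le {X : Type v} [Group X] (hX : Spor.IsoHN X) : (MulAut.conj : X →* MulAut X).range.index ≤ 2 := by
  obtain ⟨e⟩ := hX
  rw [H498.SporOut.index_congr e]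
  have h1 : Nat.card (Out Spor.HN) = 2 := Cfsg.Agent.S2082.result
  exact h1.le

/-- **SOC2 for `HN`** -/
theorem soc2 {X : Type v} [Group X] [Finite X] (hX : Spor.IsoHN X) {D : Set ℕ} (hD : H704.S8.Deg 2 X D) :
    H704.S8.Soc2.{u} D :=
  soc2_two (num hX) (index_le hX) (by simp; norm_num) test hD

end Cfsg.Agent.H788.S8.HN

private theorem dce_6c24b28a5b12 : _root_.True := by
  try have : _root_.True := by simp only [_root_.Cfsg.Agent.H450.S8.okDeg.eq_1]
  exact _root_.True.intro
end

-- part: H658/S8/ThSocOne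
section
set_option linter.all false
open scoped Cfsg.Agent.FastGrp

/-!
# S4908: the row SOC1 of `Th` (helper658, after the row `Fi₂₃` of helper196)

The residues of the degrees modulo 31, 19 and 13 exclude all prime powers, the degrees `m - 1` of the alternating groups and
a degree of each sporadic group.
-/

set_option autoImplicit false
set_option maxRecDepth 100000

namespace Cfsg.Agent.H658.S8.Th

open Cfsg Subgroup
open Cfsg.Agent.H691.AN (AlmostSimple)
open Cfsg.Agent.H653.Sieve Cfsg.Agent.H651.Two Cfsg.Agent.H511.Ore Cfsg.Agent.H196.S8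

universe u v

/-- the admissible residues -/
def ok (d : ℕ) : Bool :=
  [0, 1, 15, 16, 30].contains (d % 31) && ([0, 1, 18].contains (d % 19) && [0, 1, 12, 2, 11].contains (d % 13))

theorem of_any {l : List (ℕ × ℤ)} {m : ℕ} (h : (l.any fun rw => Nat.beq m rw.1) = true) : m ∈ l.map Prod.fst := by
  obtain ⟨x, hx, h1⟩ := List.any_eq_true.1 h
  rw [Nat.eq_of_beq_eq_true h1]
  exact List.mem_map_of_mem hx

theorem deg_th {d : ℕ} (hd : d ∈ charDegrees Spor.Th) : d ∣ 90745943887872000 ∧ ok d = true := by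
  have := Cfsg.Agent.H174.Ore.Th.finite
  have := Cfsg.Agent.H174.Ore.Th.simple
  obtain ⟨χ, rfl⟩ := hd
  refine ⟨by rw [← Cfsg.Agent.H174.Ore.Th.card]; exact charDegree_dvd χ, ?_⟩
  have h1 := of_any (res_of_has Cfsg.Agent.H174.Ore.Th.nonab Cfsg.Agent.H174.Ore.Th.card Cfsg.Agent.H174.Ore.Th.has31
    (by decide +kernel) χ)
  have h2 := of_any (res_of_has Cfsg.Agent.H174.Ore.Th.nonab Cfsg.Agent.H174.Ore.Th.card Cfsg.Agent.H174.Ore.Th.has19
    (by decide +kernel) χ)
  have h3 := of_any (res_of_has Cfsg.Agent.H174.Ore.Th.nonab Cfsg.Agent.H174.Ore.Th.card Cfsg.Agent.H174.Ore.Th.has13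
    (by decide +kernel) χ)
  rw [ok, Bool.and_eq_true, Bool.and_eq_true]
  exact ⟨List.contains_iff_mem.2 h1, List.contains_iff_mem.2 h2, List.contains_iff_mem.2 h3⟩

theorem deg_X {X : Type v} [Group X] (h : Spor.IsoTh X) {d : ℕ} (hd : d ∈ charDegrees X) :
    d ∣ 90745943887872000 ∧ ok d = true := by
  obtain ⟨e⟩ := h
  exact deg_th (mem_of_equiv e.symm hd)

theorem pp_chk : ∀ r ∈ [31, 19, 13, 7, 5, 3, 2], ∀ v ∈ List.range 57, 1 ≤ v →
    ¬ (r ^ v ∣ 90745943887872000 ∧ ok (r ^ v) = true) := by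
  decide +kernel

theorem no_pp {r v : ℕ} (hr : r.Prime) (hv : 0 < v) (h1 : r ^ v ∣ 90745943887872000) (h2 : ok (r ^ v) = true) :
    False := by
  have h3 : r ∈ Cfsg.Agent.H174.Ore.Th.fac.map Prod.fst := prime_mem hr Cfsg.Agent.H174.Ore.Th.fac
    (fun x hx => by
      simp only [Cfsg.Agent.H174.Ore.Th.fac, List.mem_cons, List.not_mem_nil, or_false] at hx
      rcases hx with rfl | rfl | rfl | rfl | rfl | rfl | rfl <;> norm_num)
    (by rw [Cfsg.Agent.H174.Ore.Th.chk3]; exact (dvd_pow_self r hv.ne').trans h1)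
  have h4 : v < 57 := by
    by_contra hcon
    have h5 : 2 ^ 57 ≤ r ^ v := (Nat.pow_le_pow_right (by norm_num) (by omega)).trans (Nat.pow_le_pow_left hr.two_le v)
    have h6 := Nat.le_of_dvd (by norm_num) h1
    omega
  exact pp_chk r h3 v (List.mem_range.2 h4) hv ⟨h1, h2⟩

theorem low_chk : ∀ x ∈ [6, 7, 8, 9, 10, 36, 72, 78, 156], x ∣ 90745943887872000 → ok x = true → False := by
  decide +kernel

section

variable {A : Type u} [Group A] [Finite A] {S : Subgroup A} (hA : AlmostSimple A S)
  (hD : ∀ d ∈ charDegrees A, d ∣ 90745943887872000 ∧ ok d = true)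

include hA hD

theorem pr {p : ℕ} (hp : p.Prime) (hd : p ∣ Nat.card S) : p ∣ 90745943887872000 := by
  obtain ⟨d, h1, h2⟩ := prime_deg hA hp hd
  exact h2.trans (hD d h1).1

theorem two (hout : Nat.card (Out S) ≤ 2) {a : ℕ} (ha : a ∈ charDegrees S)
    (h1 : a ∣ 90745943887872000 → ok a = true → False)
    (h2 : 2 * a ∣ 90745943887872000 → ok (2 * a) = true → False) : False := by
  rcases two_deg hA hout ha with h | h
  · exact h1 (hD _ h).1 (hD _ h).2
  · exact h2 (hD _ h).1 (hD _ h).2

theorem lie {r : ℕ} (hr : r.Prime) (h : IsLieTypeChar r S) : False := by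
  obtain ⟨v, hv, h1⟩ := lie_pp hA hr h
  exact no_pp hr hv (hD _ h1).1 (hD _ h1).2

theorem alt {m : ℕ} (hm : 5 ≤ m) (e : S ≃* alternatingGroup (Fin m)) : False := by
  rcases Nat.lt_or_ge m 7 with h7 | h7
  · have : m = 5 ∨ m = 6 := by omega
    rcases this with rfl | rfl
    · exact lie hA hD (by norm_num) (lie_five e)
    · exact lie hA hD (r := 3) (by norm_num) (H679.isLie_six ⟨e⟩)
  · have h18 : m ≤ 10 := by
      by_contra hcon
      have h1 := pr hA hD (p := 11) (by norm_num)
        (by rw [Nat.card_congr e.toEquiv]; exact prime_dvd_alt (by norm_num) (by norm_num) hm (by omega))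
      norm_num at h1
    have h1 := hD _ (alt_deg hA h7 e)
    refine low_chk (m - 1) ?_ h1.1 h1.2
    interval_cases m <;> decide

theorem tits (h : Lie.IsoTits S) : False := by
  have hout := H489.card_out_tits h
  obtain ⟨e⟩ := h
  obtain ⟨f⟩ := H707.RowTits.equiv
  exact two hA hD hout (mem_of_equiv (e.trans f) H678.DG.Tits.deg_78) (low_chk 78 (by decide)) (low_chk 156 (by decide))

theorem spor (h : IsSporadicGroup S) : Spor.IsoTh S := by
  have hout := H489.card_out_sporadic h
  have kp : ∀ {p N : ℕ}, p.Prime → Nat.card S = N → p ∣ N → ¬ p ∣ 90745943887872000 → Spor.IsoTh S :=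
    fun hp h1 h2 h3 => (h3 (pr hA hD hp (by rw [h1]; exact h2))).elim
  rcases h with h | h | h | h | h | h | h | h | h | h | h | h | h | h | h | h | h | h | h | h | h | h | h | h | h | h
  · exact kp (p := 11) (by norm_num) (NotCT.Orders.m11 h) (by norm_num) (by norm_num)
  · exact kp (p := 11) (by norm_num) (NotCT.Orders.m12 h) (by norm_num) (by norm_num)
  · exact kp (p := 11) (by norm_num) (NotCT.Orders.m22 h) (by norm_num) (by norm_num)
  · exact kp (p := 11) (by norm_num) (NotCT.Orders.m23 h) (by norm_num) (by norm_num)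
  · exact kp (p := 11) (by norm_num) (NotCT.Orders.m24 h) (by norm_num) (by norm_num)
  · exact kp (p := 11) (by norm_num) (NotCT.Orders.j1 h) (by norm_num) (by norm_num)
  · exact (two hA hD hout (H672.SporIM.j2 h).2 (low_chk 36 (by decide)) (low_chk 72 (by decide))).elim
  · exact kp (p := 17) (by norm_num) (NotCT.Orders.j3 h) (by norm_num) (by norm_num)
  · exact kp (p := 43) (by norm_num) (NotCT.Orders.j4 h) (by norm_num) (by norm_num)
  · exact kp (p := 11) (by norm_num) (NotCT.Orders.co1 h) (by norm_num) (by norm_num)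
  · exact kp (p := 11) (by norm_num) (NotCT.Orders.co2 h) (by norm_num) (by norm_num)
  · exact kp (p := 11) (by norm_num) (NotCT.Orders.co3 h) (by norm_num) (by norm_num)
  · exact kp (p := 11) (by norm_num) (NotCT.Orders.mcl h) (by norm_num) (by norm_num)
  · exact kp (p := 11) (by norm_num) (NotCT.Orders.hs h) (by norm_num) (by norm_num)
  · exact kp (p := 11) (by norm_num) (NotCT.Orders.suz h) (by norm_num) (by norm_num)
  · exact kp (p := 17) (by norm_num) (NotCT.Orders.he h) (by norm_num) (by norm_num)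
  · exact kp (p := 29) (by norm_num) (NotCT.Orders.ru h) (by norm_num) (by norm_num)
  · exact kp (p := 11) (by norm_num) (NotCT.Orders.on h) (by norm_num) (by norm_num)
  · exact kp (p := 67) (by norm_num) (NotCT.Orders.ly h) (by norm_num) (by norm_num)
  · exact kp (p := 11) (by norm_num) (NotCT.Orders.fi22 h) (by norm_num) (by norm_num)
  · exact kp (p := 11) (by norm_num) (NotCT.Orders.fi23 h) (by norm_num) (by norm_num)
  · exact kp (p := 29) (by norm_num) (NotCT.Orders.fi24 h) (by norm_num) (by norm_num)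
  · exact kp (p := 11) (by norm_num) (NotCT.Orders.hn h) (by norm_num) (by norm_num)
  · exact h
  · exact kp (p := 47) (by norm_num) (NotCT.Orders.b h) (by norm_num) (by norm_num)
  · exact kp (p := 71) (by norm_num) (NotCT.Orders.m h) (by norm_num) (by norm_num)

theorem main : Spor.IsoTh S := by
  have := hA.simple
  rcases exists_split S hA.nonab with ⟨l, hl, ⟨e⟩⟩ | ⟨r, hr, h⟩ | h | h
  · exact (alt hA hD hl e).elim
  · exact (lie hA hD hr h).elim
  · exact (tits hA hD h).elim
  · exact spor hA hD h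

end

/-- **SOC1 for `Th`**, model version -/
theorem soc1_iso {X : Type v} [Group X] (hX : Spor.IsoTh X) {D : Set ℕ} (hD : H704.S8.Deg 1 X D) :
    H704.S8.Soc1.{u} D X := by
  intro A _ _ S hA h
  obtain rfl : D = charDegrees X := hD.resolve_right fun h => absurd h.1 (by norm_num)
  obtain ⟨e⟩ := main hA fun d hd => deg_X hX (h hd)
  obtain ⟨f⟩ := hX
  exact ⟨e.trans f.symm⟩

/-- **SOC1 for `Th`** -/
theorem soc1 {X : Type v} [Group X] [Finite X] (hX : Cfsg.IsTh X) {D : Set ℕ} (hD : H704.S8.Deg 1 X D) :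
    H704.S8.Soc1.{u} D X := soc1_iso (isoTh hX) hD

end Cfsg.Agent.H658.S8.Th

private theorem dce_9423e5ff5817 : _root_.True := by
  try have : _root_.True := by simp only [_root_.Cfsg.Agent.H658.S8.Th.ok.eq_1]
  exact _root_.True.intro
end
end
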